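import Cfsg.Agent.Lib.Char.FeitSmall.Cyclotomy

/-!
# Bounds on the index from bounds on cyclotomic numbers

`RowBound ε` says that in each row the numbers `ε (cyc + c)` are multiplicities with small total.
Together with the shape of the first row coming from the exterior square this gives `e + 3 ≤ t`.
-/

set_option autoImplicit false

open Finset

namespace CfsgLib.Char.FeitSmall

variable {p : ℕ} [Fact p.Prime] {e t : ℕ}

/-- Each row, shifted by a constant, is a vector of multiplicities of total less than `t`. -/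
def RowBound (p e t : ℕ) [Fact p.Prime] (ε : ℤ) : Prop :=
  ∀ a ∈ roots p t, ∃ c : ℤ, (∀ l ∈ roots p t, 0 ≤ ε * ((cyc e a l : ℤ) + c)) ∧
    ε * ∑ l ∈ roots p t, ((cyc e a l : ℤ) + c) ≤ (t : ℤ) - 1

/-- The first row comes from one of the squares having no exceptional constituent. -/
def EvenPattern (p e t : ℕ) [Fact p.Prime] : Prop :=
  ∃ h ∈ roots p t, ∃ v : ℤ,
    (∀ l ∈ roots p t, (cyc e 1 l : ℤ) + (if l = h then 1 else 0) = 2 * v) ∨
    (∀ l ∈ roots p t, (cyc e 1 l : ℤ) - (if l = h then 1 else 0) = 2 * v)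

/-- The first row comes from the exterior square. -/
def OddPattern (p e t : ℕ) [Fact p.Prime] (ε : ℤ) : Prop :=
  ∃ h ∈ roots p t, ∃ (c : ℤ) (b : ZMod p → ℤ),
    (∀ l ∈ roots p t, 0 ≤ b l ∧ (cyc e 1 l : ℤ) + (if l = h then 1 else 0) = 2 * (c + ε * b l)) ∧
    2 * ∑ l ∈ roots p t, b l ≤ (t : ℤ) - 2

theorem eq_zero_of_bounds {t : ℕ} {x : ℤ} (h1 : -(t : ℤ) < t * x) (h2 : (t : ℤ) * x < t) : x = 0 := by
  rcases lt_trichotomy x 0 with h | h | h
  · nlinarith
  · exact h
  · nlinarith

section Setting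

variable (het : e * t = p - 1)
include het

theorem cast_sum_cyc {a : ZMod p} (ha : a ∈ roots p t) :
    ∑ l ∈ roots p t, (cyc e a l : ℤ) = (e : ℤ) - (if a = (-1) ^ e then 1 else 0) := by
  have h := congrArg (Nat.cast : ℕ → ℤ) (sum_cyc het ha)
  push_cast at h
  linarith

theorem sum_add_const {a : ZMod p} (ha : a ∈ roots p t) (c : ℤ) :
    ∑ l ∈ roots p t, ((cyc e a l : ℤ) + c) = (e : ℤ) - (if a = (-1) ^ e then 1 else 0) + t * c := by
  rw [sum_add_distrib, cast_sum_cyc het ha, sum_const, card_roots het, nsmul_eq_mul]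

/-- A row with sum a multiple of `t` is constant. -/
theorem row_const {ε : ℤ} (hε : ε = 1 ∨ ε = -1) (hB : RowBound p e t ε) {a : ZMod p} (ha : a ∈ roots p t)
    {q : ℕ} (hs : (e : ℤ) - (if a = (-1) ^ e then 1 else 0) = t * q) :
    ∀ l ∈ roots p t, cyc e a l = q := by
  obtain ⟨c, hc, hN⟩ := hB a ha
  have hN0 : 0 ≤ ε * ∑ l ∈ roots p t, ((cyc e a l : ℤ) + c) := by
    rw [mul_sum]; exact sum_nonneg hc
  rw [sum_add_const het ha, hs, ← mul_add] at hN hN0
  have hx : (q : ℤ) + c = 0 := by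
    refine eq_zero_of_bounds (t := t) ?_ ?_ <;> rcases hε with rfl | rfl <;> linarith
  have h0 : ∑ l ∈ roots p t, ε * ((cyc e a l : ℤ) + c) = 0 := by
    rw [← mul_sum, sum_add_const het ha, hs, ← mul_add, hx, mul_zero, mul_zero]
  intro l hl
  have := (sum_eq_zero_iff_of_nonneg hc).1 h0 l hl
  rcases hε with rfl | rfl <;> · exact_mod_cast (by linarith : (cyc e a l : ℤ) = q)

theorem le_cyc {q r : ℕ} (heq : e = q * t + r) (hr1 : 1 ≤ r) (hr : r < t) (hB : RowBound p e t 1)
    {a l : ZMod p} (ha : a ∈ roots p t) (hl : l ∈ roots p t) : q ≤ cyc e a l := by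
  obtain ⟨c, hc, hN⟩ := hB a ha
  have hN0 : 0 ≤ (1 : ℤ) * ∑ l ∈ roots p t, ((cyc e a l : ℤ) + c) := by
    rw [mul_sum]; exact sum_nonneg hc
  rw [sum_add_const het ha, one_mul] at hN hN0
  have he : (e : ℤ) = q * t + r := by exact_mod_cast heq
  have hr1' : (1 : ℤ) ≤ r := by exact_mod_cast hr1
  have hr' : (r : ℤ) + 1 ≤ t := by exact_mod_cast hr
  have hx : (q : ℤ) + c = 0 := by
    refine eq_zero_of_bounds (t := t) ?_ ?_ <;> split_ifs at hN hN0 <;> linarith
  have := hc l hl
  exact_mod_cast (by linarith : (q : ℤ) ≤ cyc e a l)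

theorem cyc_le {q r : ℕ} (heq : e = q * t + r) (hr : r < t) (hB : RowBound p e t (-1))
    {a l : ZMod p} (ha : a ∈ roots p t) (hl : l ∈ roots p t) : cyc e a l ≤ q + 1 := by
  obtain ⟨c, hc, hN⟩ := hB a ha
  rw [sum_add_const het ha] at hN
  have he : (e : ℤ) = q * t + r := by exact_mod_cast heq
  have hr' : (r : ℤ) + 1 ≤ t := by exact_mod_cast hr
  have hx : -c ≤ (q : ℤ) + 1 := by
    by_contra h
    have h2 : (q : ℤ) + 2 ≤ -c := by omega
    have h3 : (t : ℤ) * (q + 2) ≤ t * -c := mul_le_mul_of_nonneg_left h2 (by positivity)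
    split_ifs at hN <;> linarith
  have := hc l hl
  exact_mod_cast (by linarith : (cyc e a l : ℤ) ≤ q + 1)

theorem cast_sum_sq_cyc :
    ∑ a ∈ roots p t, ∑ l ∈ roots p t, (cyc e a l : ℤ) ^ 2 = e * t + 1 + e ^ 2 - 3 * e := by
  have h := congrArg (Nat.cast : ℕ → ℤ) (sum_sq_cyc het)
  have hp : (p : ℤ) = e * t + 1 := by
    have := (Fact.out : p.Prime).one_le
    exact_mod_cast (by omega : p = e * t + 1)
  push_cast at h
  rw [hp] at h
  linarith

theorem sum_mid {q : ℕ} :
    ∑ a ∈ roots p t, ∑ l ∈ roots p t, (cyc e a l : ℤ) * ((q : ℤ) + 1 - cyc e a l) =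
      ((q : ℤ) + 1) * (t * e - 1) - (e * t + 1 + e ^ 2 - 3 * e) := by
  have h1 : ∀ a ∈ roots p t, ∑ l ∈ roots p t, (cyc e a l : ℤ) * ((q : ℤ) + 1 - cyc e a l) =
      ((q : ℤ) + 1) * ((e : ℤ) - (if a = (-1) ^ e then 1 else 0)) - ∑ l ∈ roots p t, (cyc e a l : ℤ) ^ 2 :=
    fun a ha => by
      rw [← cast_sum_cyc het ha, mul_sum, ← sum_sub_distrib]
      exact sum_congr rfl fun l _ => by ring
  rw [sum_congr rfl h1, sum_sub_distrib, cast_sum_sq_cyc het, ← mul_sum, sum_sub_distrib, sum_const,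
    card_roots het, nsmul_eq_mul, sum_ite_eq', if_pos (sigma_mem_roots het)]

/-- The index is not even. -/
theorem false_of_even (heven : Even e) (he3 : 3 ≤ e) (ht3 : 3 ≤ t) {ε : ℤ} (hε : ε = 1 ∨ ε = -1)
    (hB : RowBound p e t ε) (hpat : EvenPattern p e t) : False := by
  classical
  have hσ : ((-1 : ZMod p)) ^ e = 1 := heven.neg_one_pow
  have h1mem : (1 : ZMod p) ∈ roots p t := one_mem_roots
  obtain ⟨h, hh, v, hp1 | hp1⟩ := hpat
  · -- `e` is a multiple of `2 t`
    have hs := sum_congr rfl hp1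
    rw [sum_add_distrib, cast_sum_cyc het h1mem, if_pos hσ.symm, sum_ite_eq', if_pos hh, sum_const,
      card_roots het, nsmul_eq_mul] at hs
    have hv : 0 ≤ 2 * v := by
      rw [← hp1 h hh, if_pos rfl]; positivity
    obtain ⟨q, hq⟩ : ∃ q : ℕ, (q : ℤ) = 2 * v := ⟨(2 * v).toNat, Int.toNat_of_nonneg hv⟩
    rw [← hq] at hs hp1
    have heq : (e : ℤ) = t * q := by linarith
    have hrow : ∀ a ∈ roots p t, a ≠ 1 → ∀ l ∈ roots p t, cyc e a l = q := fun a ha hne =>
      row_const het hε hB ha (by rw [if_neg (hσ.symm ▸ hne), sub_zero, heq])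
    have hT := cast_sum_sq_cyc het
    rw [← add_sum_erase _ _ h1mem,
      sum_congr rfl fun a ha => sum_congr rfl fun l hl => by
        rw [hrow a (mem_of_mem_erase ha) (ne_of_mem_erase ha) l hl]] at hT
    have h2 : ∑ l ∈ roots p t, (cyc e 1 l : ℤ) ^ 2 = t * (q : ℤ) ^ 2 - 2 * q + 1 := by
      rw [sum_congr rfl fun l hl => show (cyc e 1 l : ℤ) ^ 2 =
        (q : ℤ) ^ 2 + (if l = h then 1 - 2 * (q : ℤ) else 0) from by
          have := hp1 l hl
          split_ifs at this ⊢ with hc <;>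
            [rw [show (cyc e 1 l : ℤ) = q - 1 by linarith]; rw [show (cyc e 1 l : ℤ) = q by linarith]] <;> ring,
        sum_add_distrib, sum_const, card_roots het, nsmul_eq_mul, sum_ite_eq', if_pos hh]
      ring
    rw [h2, sum_const, card_erase_of_mem h1mem, sum_const, card_roots het, nsmul_eq_mul, nsmul_eq_mul,
      Nat.cast_sub (by omega : 1 ≤ t)] at hT
    push_cast at hT
    rw [heq] at hT
    have hq1 : (1 : ℤ) ≤ q := by
      have : q ≠ 0 := by
        rintro rfl
        rw [Nat.cast_zero, mul_zero] at heq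
        omega
      omega
    have ht' : (3 : ℤ) ≤ t := by exact_mod_cast ht3
    nlinarith [mul_pos (by linarith : (0 : ℤ) < q) (mul_pos (by linarith : (0 : ℤ) < t - 1) (by linarith : (0 : ℤ) < t - 2))]
  · -- `e` is two more than a multiple of `2 t`
    have hs := sum_congr rfl hp1
    rw [sum_sub_distrib, cast_sum_cyc het h1mem, if_pos hσ.symm, sum_ite_eq', if_pos hh, sum_const,
      card_roots het, nsmul_eq_mul] at hs
    obtain ⟨l₀, hl₀, hl₀ne⟩ : ∃ l ∈ roots p t, l ≠ h :=
      exists_mem_ne (by rw [card_roots het]; omega) h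
    have hv : 0 ≤ 2 * v := by
      rw [← hp1 l₀ hl₀, if_neg hl₀ne, sub_zero]; positivity
    obtain ⟨q, hq⟩ : ∃ q : ℕ, (q : ℤ) = 2 * v := ⟨(2 * v).toNat, Int.toNat_of_nonneg hv⟩
    rw [← hq] at hs hp1
    have heqZ : (e : ℤ) = t * q + 2 := by linarith
    have heq : e = q * t + 2 := by rw [mul_comm]; exact_mod_cast heqZ
    have hq1 : 1 ≤ q := by
      rcases Nat.eq_zero_or_pos q with rfl | hpos
      · omega
      · exact hpos
    have hq2 : 2 ≤ q := by
      have : Even q := ⟨v.toNat, by omega⟩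
      obtain ⟨j, hj⟩ := this
      omega
    have hrow1 : ∀ l ∈ roots p t, (cyc e 1 l : ℤ) = q + (if l = h then 1 else 0) := fun l hl => by
      have := hp1 l hl; linarith
    rcases hε with rfl | rfl
    · -- all numbers at least `q`
      have hge : ∀ a ∈ roots p t, ∀ l ∈ roots p t, (q : ℤ) ≤ cyc e a l := fun a ha l hl => by
        exact_mod_cast le_cyc het heq (by omega) (by omega) hB ha hl
      have hrest : ∀ a ∈ (roots p t).erase 1,
          ∑ l ∈ roots p t, (cyc e a l : ℤ) ^ 2 ≤ t * (q : ℤ) ^ 2 + 4 * q + 4 := by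
        intro a ha
        have ha' := mem_of_mem_erase ha
        have hsum : ∑ l ∈ roots p t, ((cyc e a l : ℤ) - q) = 2 := by
          rw [sum_sub_distrib, cast_sum_cyc het ha', if_neg (hσ.symm ▸ ne_of_mem_erase ha), sub_zero,
            sum_const, card_roots het, nsmul_eq_mul]
          linarith
        have hle : ∀ l ∈ roots p t, (cyc e a l : ℤ) - q ≤ 2 := fun l hl => hsum ▸
          single_le_sum (f := fun l => (cyc e a l : ℤ) - q) (fun m hm => sub_nonneg.2 (hge a ha' m hm)) hl
        have h3 : ∑ l ∈ roots p t, (cyc e a l : ℤ) ^ 2 ≤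
            ∑ l ∈ roots p t, ((q : ℤ) ^ 2 + (2 * q + 2) * ((cyc e a l : ℤ) - q)) := by
          refine sum_le_sum fun l hl => ?_
          nlinarith [mul_nonneg (sub_nonneg.2 (hge a ha' l hl)) (sub_nonneg.2 (hle l hl))]
        refine h3.trans (le_of_eq ?_)
        rw [sum_add_distrib, ← mul_sum, hsum, sum_const, card_roots het, nsmul_eq_mul]
        ring
      have h1sq : ∑ l ∈ roots p t, (cyc e 1 l : ℤ) ^ 2 = t * (q : ℤ) ^ 2 + 2 * q + 1 := by
        rw [sum_congr rfl fun l hl => show (cyc e 1 l : ℤ) ^ 2 =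
          (q : ℤ) ^ 2 + (if l = h then 2 * (q : ℤ) + 1 else 0) from by
            rw [hrow1 l hl]; split_ifs <;> ring,
          sum_add_distrib, sum_const, card_roots het, nsmul_eq_mul, sum_ite_eq', if_pos hh]
        ring
      have hT := cast_sum_sq_cyc het
      rw [← add_sum_erase _ _ h1mem, h1sq] at hT
      have hle := sum_le_sum hrest
      rw [sum_const, card_erase_of_mem h1mem, card_roots het, nsmul_eq_mul, Nat.cast_sub (by omega : 1 ≤ t)] at hle
      push_cast at hle
      rw [heqZ] at hT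
      have hkey : (q : ℤ) * (t - 2) ≤ 2 := by
        have h4 : ((q : ℤ) * (t - 2)) * (t - 1) ≤ 2 * (t - 1) := by nlinarith
        exact le_of_mul_le_mul_right h4 (by omega)
      have hq2' : (2 : ℤ) ≤ q := by exact_mod_cast hq2
      have ht2 : t = 3 := by
        by_contra hne
        have ht4 : (4 : ℤ) ≤ t := by omega
        nlinarith [mul_le_mul hq2' (by linarith : (2 : ℤ) ≤ t - 2) (by norm_num) (by linarith)]
      subst ht2
      have hq3 : q = 2 := by push_cast at hkey; omega
      subst hq3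
      have h25 : p = 25 := by have := (Fact.out : p.Prime).one_le; omega
      exact absurd (h25 ▸ (Fact.out : p.Prime) : Nat.Prime 25) (by norm_num)
    · -- all numbers at most `q + 1`
      have hnn : ∀ a ∈ roots p t, ∀ l ∈ roots p t,
          0 ≤ (cyc e a l : ℤ) * ((q : ℤ) + 1 - cyc e a l) := fun a ha l hl => by
        have := cyc_le het heq (by omega) hB ha hl
        exact mul_nonneg (Int.natCast_nonneg _) (by omega)
      have hmid := sum_mid (q := q) het
      rw [← add_sum_erase _ _ h1mem] at hmid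
      have h1m : ∑ l ∈ roots p t, (cyc e 1 l : ℤ) * ((q : ℤ) + 1 - cyc e 1 l) = (t : ℤ) * q - q := by
        rw [sum_congr rfl fun l hl => show (cyc e 1 l : ℤ) * ((q : ℤ) + 1 - cyc e 1 l) =
          (q : ℤ) + (if l = h then -(q : ℤ) else 0) from by rw [hrow1 l hl]; split_ifs <;> ring,
          sum_add_distrib, sum_const, card_roots het, nsmul_eq_mul, sum_ite_eq', if_pos hh]
        ring
      rw [h1m, heqZ] at hmid
      have hzero : ∑ a ∈ (roots p t).erase 1,
          ∑ l ∈ roots p t, (cyc e a l : ℤ) * ((q : ℤ) + 1 - cyc e a l) = 0 := by nlinarith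
      obtain ⟨l, hl, hl1⟩ : ∃ l ∈ (roots p t).erase 1, l ≠ h :=
        exists_mem_ne (by rw [card_erase_of_mem h1mem, card_roots het]; omega) h
      have hl' := mem_of_mem_erase hl
      have h5 := (sum_eq_zero_iff_of_nonneg fun a ha => sum_nonneg (hnn a (mem_of_mem_erase ha))).1 hzero l hl
      have h6 := (sum_eq_zero_iff_of_nonneg (hnn l hl')).1 h5 1 h1mem
      have hsw : cyc e l 1 = cyc e 1 l := by
        have := cyc_swap (e := e) (a := (1 : ZMod p)) (l := l)
        rwa [hσ, one_mul, one_mul] at this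
      rw [hsw, hrow1 l hl', if_neg hl1, add_zero] at h6
      have : (1 : ℤ) ≤ q := by exact_mod_cast hq1
      nlinarith

/-- The bound for odd index. -/
theorem add_three_le_of_odd (hodd : Odd e) (he3 : 3 ≤ e) (hp2 : p ≠ 2) (ht3 : 3 ≤ t) {ε ε' : ℤ}
    (hε : ε = 1 ∨ ε = -1) (hε' : ε' = 1 ∨ ε' = -1) (hB : RowBound p e t ε)
    (hpat : OddPattern p e t ε') : e + 3 ≤ t := by
  classical
  have hp := (Fact.out : p.Prime)
  have hteven : Even t := by
    obtain ⟨j, hj⟩ := hp.odd_of_ne_two hp2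
    have : Even (e * t) := ⟨j, by omega⟩
    exact (Nat.even_mul.1 this).resolve_left (Nat.not_even_iff_odd.2 hodd)
  have hσ : ((-1 : ZMod p)) ^ e = -1 := hodd.neg_one_pow
  have hne1 : (1 : ZMod p) ≠ -1 := fun h => by
    have h2 : ((2 : ℕ) : ZMod p) = 0 := by push_cast; linear_combination h
    exact hp2 ((Nat.prime_dvd_prime_iff_eq hp Nat.prime_two).1 ((ZMod.natCast_eq_zero_iff _ _).1 h2))
  have h1mem : (1 : ZMod p) ∈ roots p t := one_mem_roots
  have hσmem : (-1 : ZMod p) ∈ roots p t := hσ ▸ sigma_mem_roots het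
  obtain ⟨q, r, hr, heq⟩ : ∃ q r, r < t ∧ e = q * t + r :=
    ⟨e / t, e % t, Nat.mod_lt _ (by omega), by rw [mul_comm]; exact (Nat.div_add_mod e t).symm⟩
  obtain ⟨j, hj⟩ := hodd
  obtain ⟨i, hi⟩ := hteven
  have hrodd : r % 2 = 1 := by
    have : e % 2 = 1 := by omega
    rw [heq, hi, show q * (i + i) = 2 * (q * i) by ring] at this
    omega
  by_contra hcon
  rcases Nat.lt_or_ge (r + 1) t with hr1 | hr1
  · -- small excess
    rcases Nat.eq_zero_or_pos q with rfl | hq
    · omega
    have hre : r + 1 ≤ e := by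
      have : t ≤ q * t := Nat.le_mul_of_pos_left t hq
      omega
    rcases hε with rfl | rfl
    · exact false_of_le_cyc het hr1 hre heq fun a ha l hl => le_cyc het heq (by omega) hr hB ha hl
    · have hnn : ∀ a ∈ roots p t, ∀ l ∈ roots p t,
          0 ≤ (cyc e a l : ℤ) * ((q : ℤ) + 1 - cyc e a l) := fun a ha l hl => by
        have := cyc_le het heq hr hB ha hl
        exact mul_nonneg (Int.natCast_nonneg _) (by omega)
      have hmid := sum_mid (q := q) het
      have htot : 0 ≤ ∑ a ∈ roots p t, ∑ l ∈ roots p t, (cyc e a l : ℤ) * ((q : ℤ) + 1 - cyc e a l) :=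
        sum_nonneg fun a ha => sum_nonneg (hnn a ha)
      have heZ : (e : ℤ) = q * t + r := by exact_mod_cast heq
      have hqZ : (1 : ℤ) ≤ q := by exact_mod_cast hq
      have hr3 : r ≤ 2 := by
        by_contra hr3
        have hr3Z : (3 : ℤ) ≤ r := by omega
        have he0 : (0 : ℤ) ≤ e := Int.natCast_nonneg _
        rw [hmid] at htot
        nlinarith [mul_nonneg he0 (by linarith : (0 : ℤ) ≤ r - 3)]
      have hr1' : r = 1 := by omega
      subst hr1'
      -- the opposite row is constant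
      have hrowσ : ∀ l ∈ roots p t, cyc e (-1) l = q :=
        row_const het (Or.inr rfl) hB hσmem (by rw [if_pos hσ.symm, heZ]; push_cast; ring)
      have hcol : ∀ a ∈ roots p t, cyc e a 1 = q := fun a ha => by
        have h := cyc_swap (e := e) (a := (-1 : ZMod p)) (l := -a)
        rw [hσ, neg_one_mul, neg_one_mul, neg_neg, neg_neg] at h
        rw [h]
        exact hrowσ _ (by rw [← neg_one_mul a]; exact mul_mem_roots hσmem ha)
      have hdiag : ∀ a ∈ roots p t, cyc e a a = q := fun a ha => by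
        have h := cyc_inv het (l := (1 : ZMod p)) (inv_mem_roots ha)
        rw [inv_inv, one_mul] at h
        rw [h]; exact hcol _ (inv_mem_roots ha)
      set f : ZMod p → ℤ := fun a => ∑ l ∈ roots p t, (cyc e a l : ℤ) * ((q : ℤ) + 1 - cyc e a l) with hf
      have hlow : ∀ a ∈ (roots p t).erase (-1),
          (if a = 1 then (q : ℤ) else 2 * q) ≤ f a := by
        intro a ha
        have ha' := mem_of_mem_erase ha
        split_ifs with h1
        · refine le_trans (le_of_eq ?_) (single_le_sum (f := fun l => (cyc e a l : ℤ) * ((q : ℤ) + 1 - cyc e a l))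
            (hnn a ha') h1mem)
          rw [hcol a ha']; ring
        · have h2 : ({a, 1} : Finset (ZMod p)) ⊆ roots p t := by
            intro x hx; rcases mem_insert.1 hx with rfl | hx
            · exact ha'
            · rw [mem_singleton.1 hx]; exact h1mem
          refine le_trans (le_of_eq ?_) (sum_le_sum_of_subset_of_nonneg h2 fun l hl _ => hnn a ha' l hl)
          rw [sum_pair h1, hcol a ha', hdiag a ha']; ring
      have hfσ : f (-1) = (t : ℤ) * q := by
        rw [hf]
        simp only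
        rw [sum_congr rfl fun l hl => show (cyc e (-1) l : ℤ) * ((q : ℤ) + 1 - cyc e (-1) l) = (q : ℤ) by
          rw [hrowσ l hl]; ring, sum_const, card_roots het, nsmul_eq_mul]
      have hle := sum_le_sum hlow
      have h1σ : (1 : ZMod p) ∈ (roots p t).erase (-1) := mem_erase.2 ⟨hne1, h1mem⟩
      rw [← add_sum_erase _ _ h1σ, if_pos rfl, sum_congr rfl fun a ha => if_neg (ne_of_mem_erase ha), sum_const,
        card_erase_of_mem h1σ, card_erase_of_mem hσmem, card_roots het, nsmul_eq_mul,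
        show t - 1 - 1 = t - 2 by omega, Nat.cast_sub (by omega : 2 ≤ t)] at hle
      have hsplit : f (-1) + ∑ a ∈ (roots p t).erase (-1), f a =
          ((q : ℤ) + 1) * (t * e - 1) - (e * t + 1 + e ^ 2 - 3 * e) := by
        rw [add_sum_erase _ f hσmem, ← hmid]
      push_cast at hle
      rw [hfσ, heZ] at hsplit
      push_cast at hsplit
      have ht4 : (4 : ℤ) ≤ t := by omega
      nlinarith
  · -- the excess `t - 1`
    have hrt : r + 1 = t := by omega
    obtain ⟨h, hh, c, b, hb, hN⟩ := hpat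
    have hs := sum_congr rfl fun l hl => (hb l hl).2
    rw [sum_add_distrib, cast_sum_cyc het h1mem, if_neg (hσ.symm ▸ hne1), sub_zero, sum_ite_eq', if_pos hh,
      ← mul_sum, sum_add_distrib, sum_const, card_roots het, nsmul_eq_mul, ← mul_sum] at hs
    have hN0 : 0 ≤ ∑ l ∈ roots p t, b l := sum_nonneg fun l hl => (hb l hl).1
    have heZ : (e : ℤ) + 1 = ((q : ℤ) + 1) * t := by
      have : e + 1 = (q + 1) * t := by rw [heq, add_one_mul]; omega
      exact_mod_cast this
    set N := ∑ l ∈ roots p t, b l with hNdef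
    have hq : (q : ℤ) + 1 - 2 * c = 0 := by
      refine eq_zero_of_bounds (t := t) ?_ ?_ <;> rcases hε' with rfl | rfl <;> linarith
    have hN' : N = 0 := by
      have : 2 * (ε' * N) = 0 := by linear_combination heZ - hs + (t : ℤ) * hq
      rcases hε' with rfl | rfl <;> linarith
    have hb0 := (sum_eq_zero_iff_of_nonneg fun l hl => (hb l hl).1).1 hN'
    have hq1 : 1 ≤ q := by omega
    have hrow1 : ∀ l ∈ roots p t, (cyc e 1 l : ℤ) = (q : ℤ) + 1 - (if l = h then 1 else 0) := fun l hl => by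
      have := (hb l hl).2
      rw [hb0 l hl, mul_zero, add_zero] at this
      linarith
    have hsq := congrArg (Nat.cast : ℕ → ℤ) (sum_sq_one het hp2 ⟨j, hj⟩)
    push_cast at hsq
    rw [sum_congr rfl fun l hl => show (cyc e 1 l : ℤ) ^ 2 =
        ((q : ℤ) + 1) ^ 2 + (if l = h then -(2 * (q : ℤ) + 1) else 0) from by
          rw [hrow1 l hl]; split_ifs <;> ring,
      sum_add_distrib, sum_const, card_roots het, nsmul_eq_mul, sum_ite_eq', if_pos hh] at hsq
    have hcs := sq_sum_le_card_mul_sum_sq (s := roots p t) (f := fun l => (cyc e (-1) l : ℤ))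
    rw [cast_sum_cyc het hσmem, if_pos hσ.symm, card_roots het] at hcs
    have ht4 : (4 : ℤ) ≤ t := by omega
    have hq1Z : (1 : ℤ) ≤ q := by exact_mod_cast hq1
    nlinarith

/-- With the sign of the exceptional family of degree `p - e`. -/
theorem false_of_odd_neg (hodd : Odd e) (hp2 : p ≠ 2) (het3 : e + 3 ≤ t) (hpat : OddPattern p e t (-1)) :
    False := by
  classical
  have hp := (Fact.out : p.Prime)
  have hσ : ((-1 : ZMod p)) ^ e = -1 := hodd.neg_one_pow
  have hne1 : (1 : ZMod p) ≠ -1 := fun h => by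
    have h2 : ((2 : ℕ) : ZMod p) = 0 := by push_cast; linear_combination h
    exact hp2 ((Nat.prime_dvd_prime_iff_eq hp Nat.prime_two).1 ((ZMod.natCast_eq_zero_iff _ _).1 h2))
  obtain ⟨h, hh, c, b, hb, hN⟩ := hpat
  have hs := sum_congr rfl fun l hl => (hb l hl).2
  rw [sum_add_distrib, cast_sum_cyc het one_mem_roots, if_neg (hσ.symm ▸ hne1), sub_zero, sum_ite_eq', if_pos hh,
    ← mul_sum, sum_add_distrib, sum_const, card_roots het, nsmul_eq_mul, ← mul_sum] at hs
  have hN0 : 0 ≤ ∑ l ∈ roots p t, b l := sum_nonneg fun l hl => (hb l hl).1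
  have hc : 1 ≤ c := by
    have h1 := (hb h hh).2
    have h2 := (hb h hh).1
    have h3 : (0 : ℤ) ≤ cyc e 1 h := Int.natCast_nonneg _
    rw [if_pos rfl] at h1
    linarith
  have ht : (e : ℤ) + 3 ≤ t := by exact_mod_cast het3
  nlinarith [mul_le_mul_of_nonneg_left hc (by linarith : (0 : ℤ) ≤ t)]

end Setting

end CfsgLib.Char.FeitSmall
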