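import Cfsg.Agent.Lib.Char.FeitSmall.Local

/-!
# Averages over the normalizer

The linear constituent of the character on the normalizer and the multiplicities of linear
characters in functions lying over a character of the centre.
-/

set_option autoImplicit false
set_option maxHeartbeats 800000

universe u

open scoped ComplexConjugate _root_.Classical

namespace CfsgLib.Char.FeitSmall

open Cfsg CfsgLib.Char

variable {p : ℕ} [hp : Fact p.Prime] {G : Type u} [Group G] [Fintype G]
variable {P : Subgroup G} {u : G} {ζ : IrrCharacter G} {e t : ℕ}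

theorem norm_unit {A : Type*} [Group A] [Finite A] (l : A →* ℂˣ) (a : A) : (l a : ℂ) * conj (l a : ℂ) = 1 := by
  rw [Complex.mul_conj']
  norm_num [CfsgLib.Char.FeitDegree.norm_linear l a]

theorem over_sum_eq {H : Type*} [Group H] [Fintype H] (Z : Subgroup H) (l : H →* ℂˣ) (f : H → ℂ)
    {z : H} {a : ℂ} (hf : ∀ g, f (g * z) = a * f g) (hne : classInner f (fun n => (l n : ℂ)) ≠ 0) :
    a = (l z : ℂ) := by
  have h1 : (∑ g : H, f g * conj (l g : ℂ)) ≠ 0 := fun h0 => hne (by rw [classInner, h0, mul_zero])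
  have h2 : ∑ g : H, f g * conj (l g : ℂ) = ∑ g : H, f (g * z) * conj (l (g * z) : ℂ) :=
    (Fintype.sum_equiv (Equiv.mulRight z) _ _ fun g => rfl).symm
  simp only [hf, map_mul, Units.val_mul] at h2
  have h3 : ∑ g : H, a * f g * (conj (l g : ℂ) * conj (l z : ℂ)) =
      a * conj (l z : ℂ) * ∑ g : H, f g * conj (l g : ℂ) := by
    rw [Finset.mul_sum]
    exact Finset.sum_congr rfl fun g _ => by ring
  rw [h3] at h2
  have h4 : a * conj (l z : ℂ) = 1 :=
    mul_right_cancel₀ h1 (h2.symm.trans (one_mul _).symm)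
  have h5 := congrArg (· * (l z : ℂ)) h4
  simp only [one_mul] at h5
  rw [mul_assoc, mul_comm (conj _), norm_unit, mul_one] at h5
  exact h5

namespace Data

variable (D : Data (p := p) P u ζ e t)
include D

theorem pow_val_ne_one {j : ZMod p} (hj : j ≠ 0) : u ^ j.val ≠ 1 := fun h => hj (by
  have h1 := orderOf_dvd_of_pow_eq_one h
  rwa [D.ord, ← ZMod.natCast_eq_zero_iff, ZMod.natCast_zmod_val] at h1)

theorem apply_pow_val {j : ZMod p} (hj : j ≠ 0) : (ζ : G → ℂ) (u ^ j.val) = -per e 1 j := by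
  have h := D.value j.val (by rwa [ZMod.natCast_zmod_val])
  rwa [ZMod.natCast_zmod_val] at h

theorem sum_P [Fintype P] (F : G → ℂ) :
    ∑ y : P, F y = F 1 + ∑ j ∈ Finset.univ.erase (0 : ZMod p), F (u ^ j.val) := by
  classical
  rw [← Finset.add_sum_erase _ _ (Finset.mem_univ (1 : P))]
  congr 1
  symm
  refine Finset.sum_bij (fun j _ => (⟨u ^ j.val, P.pow_mem D.mem _⟩ : P)) ?_ ?_ ?_ fun j _ => rfl
  · intro j hj
    exact Finset.mem_erase.2
      ⟨fun h => D.pow_val_ne_one (Finset.ne_of_mem_erase hj) (congrArg Subtype.val h), Finset.mem_univ _⟩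
  · intro a _ b _ h
    have h' : u ^ a.val = u ^ b.val := congrArg Subtype.val h
    rw [pow_eq_pow_iff_modEq, D.ord, ← ZMod.natCast_eq_natCast_iff, ZMod.natCast_zmod_val,
      ZMod.natCast_zmod_val] at h'
    exact h'
  · intro y hy
    obtain ⟨i, hi⟩ := (isOfFinOrder_of_finite u).mem_powers_iff_mem_zpowers.2
      (D.zpowers_eq.symm ▸ y.2 : (y : G) ∈ Subgroup.zpowers u)
    refine ⟨(i : ZMod p), Finset.mem_erase.2 ⟨fun h => Finset.ne_of_mem_erase hy (Subtype.ext ?_),
      Finset.mem_univ _⟩, Subtype.ext ?_⟩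
    · rw [OneMemClass.coe_one, ← hi]
      show u ^ i = 1
      rw [← CfsgLib.Char.FeitDegree.pow_val_eq D.ord, h, ZMod.val_zero, pow_zero]
    · show u ^ (i : ZMod p).val = y
      rw [CfsgLib.Char.FeitDegree.pow_val_eq D.ord]
      exact hi

theorem card_normalizer :
    Nat.card (Subgroup.normalizer (P : Set G)) = e * (p * Nat.card (Subgroup.center G)) := by
  rw [← D.setup.card_centralizer]
  have hle : Subgroup.centralizer (P : Set G) ≤ Subgroup.normalizer (P : Set G) :=
    Subgroup.centralizer_le_normalizer _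
  have := Subgroup.relIndex_mul_relIndex (⊥ : Subgroup G) _ _ bot_le hle
  rw [Subgroup.relIndex_bot_left, Subgroup.relIndex_bot_left, D.index] at this
  rw [← this, mul_comm]

theorem deg_cast : ((charDegree (ζ : G → ℂ) : ℕ) : ℂ) = (p : ℂ) - e := by
  have := congrArg (Nat.cast : ℕ → ℂ) D.deg
  push_cast at this
  linear_combination this

theorem apply_one : (ζ : G → ℂ) 1 = (p : ℂ) - e := by
  rw [CfsgLib.Blocks.apply_one_eq_charDegree, D.deg_cast]

/-- The elements of the normalizer off the centralizer. -/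
theorem sum_normalizer [Fintype P] [Fintype (Subgroup.center G)] (F : G → ℂ) :
    ∑ n : Subgroup.normalizer (P : Set G), F n =
      (∑ n ∈ Finset.univ.filter (fun n : Subgroup.normalizer (P : Set G) =>
          (n : G) ∉ Subgroup.centralizer (P : Set G)), F n) +
        ∑ x : P, ∑ z : Subgroup.center G, F ((x : G) * z) := by
  rw [← Finset.sum_filter_add_sum_filter_not Finset.univ
    (fun n : Subgroup.normalizer (P : Set G) => (n : G) ∉ Subgroup.centralizer (P : Set G))]
  congr 1
  rw [← Fintype.sum_prod_type']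
  symm
  refine Finset.sum_bij (fun q _ => (⟨(q.1 : G) * (q.2 : G),
    (Subgroup.centralizer_le_normalizer _) (mul_mem (D.setup.le_centralizer q.1.2) (D.setup.V_le q.2.2))⟩ :
      Subgroup.normalizer (P : Set G))) ?_ ?_ ?_ fun q _ => rfl
  · intro q _
    refine Finset.mem_filter.2 ⟨Finset.mem_univ _, not_not.2 ?_⟩
    exact mul_mem (D.setup.le_centralizer q.1.2) (D.setup.V_le q.2.2)
  · intro a _ b _ h
    obtain ⟨h1, h2⟩ := D.setup.mul_inj a.1.2 b.1.2 a.2.2 b.2.2 (congrArg Subtype.val h)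
    exact Prod.ext (Subtype.ext h1) (Subtype.ext h2)
  · intro n hn
    obtain ⟨x, hx, z, hz, e'⟩ := D.setup.exists_mul (not_not.1 (Finset.mem_filter.1 hn).2)
    exact ⟨(⟨x, hx⟩, ⟨z, hz⟩), Finset.mem_univ _, Subtype.ext e'⟩

/-- The multiplicity of a linear character in a function over its central character. -/
theorem nInner_mul_card [Fintype P] (η : Subgroup.center G →* ℂˣ) {F : G → ℂ} (hF : Over η F)
    {ψ : Subgroup.normalizer (P : Set G) →* ℂˣ} (hψ : IsLin P η ψ) :
    ((e * (p * Nat.card (Subgroup.center G)) : ℕ) : ℂ) * nInner F ψ =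
      (∑ n ∈ Finset.univ.filter (fun n : Subgroup.normalizer (P : Set G) =>
          (n : G) ∉ Subgroup.centralizer (P : Set G)), F n * conj (ψ n : ℂ)) +
        (Nat.card (Subgroup.center G) : ℂ) * ∑ y : P, F y := by
  have := Fintype.ofFinite (Subgroup.center G)
  rw [nInner, classInner, ← mul_assoc, ← D.card_normalizer,
    mul_inv_cancel₀ (Nat.cast_ne_zero.2 Nat.card_pos.ne'), one_mul]
  let G' : G → ℂ := fun g => if hg : g ∈ Subgroup.normalizer (P : Set G) then F g * conj (ψ ⟨g, hg⟩ : ℂ) else 0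
  have hG' : ∀ n : Subgroup.normalizer (P : Set G), F n * conj (ψ n : ℂ) = G' n := fun n => by
    simp only [G', dif_pos n.2, Subtype.coe_eta]
  simp only [hG']
  rw [D.sum_normalizer G']
  congr 1
  rw [Finset.mul_sum]
  refine Finset.sum_congr rfl fun x _ => ?_
  rw [Nat.card_eq_fintype_card, ← nsmul_eq_mul, ← Finset.card_univ, ← Finset.sum_const]
  refine Finset.sum_congr rfl fun z _ => ?_
  have hz := Subgroup.center_le_normalizer (P : Set G) z.2
  have hmem : (x : G) * z ∈ Subgroup.normalizer (P : Set G) := mul_mem (P.le_normalizer x.2) hz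
  simp only [G', dif_pos hmem]
  rw [hF x z, show (⟨(x : G) * z, hmem⟩ : Subgroup.normalizer (P : Set G)) =
    ⟨x, P.le_normalizer x.2⟩ * ⟨z, hz⟩ from rfl, map_mul, hψ.1 _ x.2, one_mul, hψ.2]
  rw [mul_comm (η z : ℂ), mul_assoc, norm_unit, mul_one]

/-- A linear character trivial on the centralizer, summed off the centralizer. -/
theorem sum_off_hom (l : Subgroup.normalizer (P : Set G) →* ℂˣ)
    (hl : ∀ n : Subgroup.normalizer (P : Set G), (n : G) ∈ Subgroup.centralizer (P : Set G) → l n = 1) :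
    ∑ n ∈ Finset.univ.filter (fun n : Subgroup.normalizer (P : Set G) =>
        (n : G) ∉ Subgroup.centralizer (P : Set G)), (l n : ℂ) =
      (if l = 1 then (e : ℂ) * (p * Nat.card (Subgroup.center G)) else 0) -
        (p : ℂ) * Nat.card (Subgroup.center G) := by
  have := Fintype.ofFinite P
  have := Fintype.ofFinite (Subgroup.center G)
  let F : G → ℂ := fun g => if hg : g ∈ Subgroup.normalizer (P : Set G) then (l ⟨g, hg⟩ : ℂ) else 0
  have h := D.sum_normalizer F
  have hF : ∀ n : Subgroup.normalizer (P : Set G), F n = (l n : ℂ) := fun n => by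
    simp only [F, dif_pos n.2, Subtype.coe_eta]
  simp only [hF] at h
  have h2 : ∑ x : P, ∑ z : Subgroup.center G, F ((x : G) * z) = (p : ℂ) * Nat.card (Subgroup.center G) := by
    have hc : ∀ (x : P) (z : Subgroup.center G), F ((x : G) * z) = 1 := fun x z => by
      have hC := mul_mem (D.setup.le_centralizer x.2) (D.setup.V_le z.2)
      simp only [F, dif_pos (Subgroup.centralizer_le_normalizer _ hC)]
      rw [hl _ hC, Units.val_one]
    simp only [hc, Finset.sum_const, Finset.card_univ, nsmul_eq_mul, mul_one]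
    rw [← Nat.card_eq_fintype_card, ← Nat.card_eq_fintype_card, D.setup.card]
  have h3 : ∑ n : Subgroup.normalizer (P : Set G), (l n : ℂ) =
      if l = 1 then (e : ℂ) * (p * Nat.card (Subgroup.center G)) else 0 := by
    split_ifs with h1
    · subst h1
      simp only [MonoidHom.one_apply, Units.val_one, Finset.sum_const, Finset.card_univ, nsmul_eq_mul, mul_one,
        ← Nat.card_eq_fintype_card, D.card_normalizer]
      push_cast
      ring
    · exact sum_hom_units_eq_zero ((Units.coeHom ℂ).comp l) fun h0 => h1 (MonoidHom.ext fun n =>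
        Units.ext (DFunLike.congr_fun h0 n))
  rw [h2] at h
  rw [h3] at h
  exact eq_sub_of_add_eq h.symm

/-- Averages only see the regular values and the sum over `P`. -/
theorem nInner_congr [Fintype P] (η : Subgroup.center G →* ℂˣ) {F F' : G → ℂ} (hF : Over η F) (hF' : Over η F')
    (hreg : ∀ g, ¬ p ∣ orderOf g → F g = F' g) (hsum : ∑ y : P, F y = ∑ y : P, F' y)
    {ψ : Subgroup.normalizer (P : Set G) →* ℂˣ} (hψ : IsLin P η ψ) : nInner F ψ = nInner F' ψ := by
  classical
  refine mul_left_cancel₀ (?_ : ((e * (p * Nat.card (Subgroup.center G)) : ℕ) : ℂ) ≠ 0) ?_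
  · rw [← D.card_normalizer]
    exact Nat.cast_ne_zero.2 Nat.card_pos.ne'
  rw [D.nInner_mul_card η hF hψ, D.nInner_mul_card η hF' hψ, hsum]
  congr 1
  refine Finset.sum_congr rfl fun n hn => ?_
  rw [hreg _ (D.not_dvd_orderOf_of_not_mem n.2 (Finset.mem_filter.1 hn).2)]

omit D in
theorem exists_nat_nInner {F : G → ℂ} (hF : IsCharacter G F)
    (ψ : Subgroup.normalizer (P : Set G) →* ℂˣ) : ∃ m : ℕ, nInner F ψ = m :=
  IsChar.classInner_eq_natCast (IsChar.restrict _ hF) (IsIrr.isCharacter (isIrrCharacter_linear ψ))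

/-- A character with a fixed vector on `P` has a linear constituent on the normalizer. -/
theorem exists_lin_of_sum_ne [Fintype P] (η : Subgroup.center G →* ℂˣ) {F : G → ℂ} (hF : IsCharacter G F)
    (hov : Over η F) (hsum : ∑ y : P, F y ≠ 0) :
    ∃ ψ, IsLin P η ψ ∧ nInner F ψ ≠ 0 := by
  have := Fintype.ofFinite (IrrCharacter (Subgroup.normalizer (P : Set G)))
  obtain ⟨m, hm⟩ := IsChar.exists_sum (IsChar.restrict (Subgroup.normalizer (P : Set G)) hF)
  have hm' : ∀ n : Subgroup.normalizer (P : Set G),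
      F n = ∑ ψ : IrrCharacter (Subgroup.normalizer (P : Set G)),
        (m ψ : ℂ) * (ψ : Subgroup.normalizer (P : Set G) → ℂ) n := fun n => by
    have := congrFun hm n
    simpa [Finset.sum_apply] using this
  have e1 : ∑ y : P, F y = ∑ ψ : IrrCharacter (Subgroup.normalizer (P : Set G)), (m ψ : ℂ) *
      ∑ y : P, (ψ : Subgroup.normalizer (P : Set G) → ℂ) ⟨y, P.le_normalizer y.2⟩ := by
    simp only [Finset.mul_sum]
    rw [Finset.sum_comm]
    exact Finset.sum_congr rfl fun y _ => hm' ⟨y, P.le_normalizer y.2⟩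
  rw [e1] at hsum
  obtain ⟨ψ, -, hψ⟩ := Finset.exists_ne_zero_of_sum_ne_zero hsum
  rcases D.irr_cases ψ with ⟨l, hl, hψl⟩ | ⟨-, h0⟩
  swap
  · exact absurd (by rw [h0, mul_zero]) hψ
  have hne : nInner F l ≠ 0 := by
    have e2 : (fun n : Subgroup.normalizer (P : Set G) => F n) =
        ∑ χ : IrrCharacter (Subgroup.normalizer (P : Set G)),
          (m χ : ℂ) • (χ : Subgroup.normalizer (P : Set G) → ℂ) := hm
    rw [nInner, e2, ← hψl, classInner_sum_irr (fun χ => (m χ : ℂ)) ψ]
    exact (mul_ne_zero_iff.1 hψ).1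
  refine ⟨l, ⟨hl, fun z => Units.ext ?_⟩, hne⟩
  exact (over_sum_eq (Subgroup.center (Subgroup.normalizer (P : Set G))) l
    (fun n : Subgroup.normalizer (P : Set G) => F n) (fun g => hov (g : G) z) hne).symm

/-- The linear constituent of `ζ`. -/
theorem exists_psi (lam : Subgroup.center G →* ℂˣ) (hlam : Over lam (ζ : G → ℂ)) :
    ∃ ψ, IsLin P lam ψ ∧ ∀ n : Subgroup.normalizer (P : Set G),
      (n : G) ∉ Subgroup.centralizer (P : Set G) → (ζ : G → ℂ) n = (ψ n : ℂ) := by
  have := Fintype.ofFinite P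
  have := Fintype.ofFinite (IrrCharacter (Subgroup.normalizer (P : Set G)))
  obtain ⟨m, hm⟩ := IsChar.exists_sum (IsChar.restrict (Subgroup.normalizer (P : Set G)) (IsIrr.isCharacter ζ.2))
  have hm' : ∀ n : Subgroup.normalizer (P : Set G),
      (ζ : G → ℂ) n = ∑ ψ : IrrCharacter (Subgroup.normalizer (P : Set G)),
        (m ψ : ℂ) * (ψ : Subgroup.normalizer (P : Set G) → ℂ) n := fun n => by
    have := congrFun hm n
    simpa [Finset.sum_apply] using this
  have hs : ∑ y : P, (ζ : G → ℂ) y = p := by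
    rw [D.sum_P, D.apply_one,
      Finset.sum_congr rfl fun j hj => D.apply_pow_val (Finset.ne_of_mem_erase hj),
      Finset.sum_neg_distrib, sum_units_per D.het one_mem_roots]
    ring
  set S := fun ψ : IrrCharacter (Subgroup.normalizer (P : Set G)) =>
    ∑ y : P, (ψ : Subgroup.normalizer (P : Set G) → ℂ) ⟨y, P.le_normalizer y.2⟩ with hS
  set L := Finset.univ.filter fun ψ : IrrCharacter (Subgroup.normalizer (P : Set G)) =>
    ∃ l : Subgroup.normalizer (P : Set G) →* ℂˣ,
      (∀ y : Subgroup.normalizer (P : Set G), (y : G) ∈ P → l y = 1) ∧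
      (ψ : Subgroup.normalizer (P : Set G) → ℂ) = fun n => (l n : ℂ) with hL
  have hSL : ∀ ψ ∈ L, S ψ = p := by
    intro ψ hψ
    obtain ⟨l, hl, hψl⟩ := (Finset.mem_filter.1 hψ).2
    simp only [hS, hψl]
    rw [Finset.sum_congr rfl (g := fun _ => (1 : ℂ)) fun y _ => by rw [hl _ y.2, Units.val_one]]
    simp [← Nat.card_eq_fintype_card, D.setup.card]
  have hS0 : ∀ ψ ∉ L, S ψ = 0 := fun ψ hψ => by
    rcases D.irr_cases ψ with h | ⟨-, h0⟩
    · exact absurd (show ψ ∈ L from Finset.mem_filter.2 ⟨Finset.mem_univ ψ, h⟩) hψ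
    · exact h0
  have h1 : ∑ ψ ∈ L, m ψ = 1 := by
    have h2 : (p : ℂ) = ((∑ ψ ∈ L, m ψ : ℕ) : ℂ) * p := by
      rw [Nat.cast_sum, Finset.sum_mul, ← hs]
      calc ∑ y : P, (ζ : G → ℂ) y = ∑ ψ : IrrCharacter (Subgroup.normalizer (P : Set G)), (m ψ : ℂ) * S ψ := by
            simp only [hS, Finset.mul_sum]
            rw [Finset.sum_comm]
            exact Finset.sum_congr rfl fun y _ => hm' ⟨y, P.le_normalizer y.2⟩
        _ = ∑ ψ ∈ L, (m ψ : ℂ) * S ψ := (Finset.sum_subset (Finset.subset_univ _)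
            fun ψ _ hψ => by rw [hS0 ψ hψ, mul_zero]).symm
        _ = _ := Finset.sum_congr rfl fun ψ hψ => by rw [hSL ψ hψ, hs]
    have h3 := mul_right_cancel₀ (Nat.cast_ne_zero.2 hp.out.ne_zero) (h2.symm.trans (one_mul _).symm)
    exact_mod_cast h3
  obtain ⟨ψ, hψL, hmψ⟩ : ∃ ψ ∈ L, 0 < m ψ := by
    by_contra hcon
    push Not at hcon
    rw [Finset.sum_eq_zero fun ψ hψ => Nat.le_zero.1 (hcon ψ hψ)] at h1
    exact zero_ne_one h1
  obtain ⟨l, hl, hψl⟩ := (Finset.mem_filter.1 hψL).2
  have hsingle : ∀ χ ∈ L, χ ≠ ψ → m χ = 0 := fun χ hχ hne => by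
    rw [← Finset.add_sum_erase _ _ hψL] at h1
    have := Finset.single_le_sum (f := m) (fun _ _ => Nat.zero_le _) (Finset.mem_erase.2 ⟨hne, hχ⟩)
    omega
  have hm1 : m ψ = 1 := by
    rw [← Finset.add_sum_erase _ _ hψL, Finset.sum_eq_zero fun χ hχ =>
      hsingle χ (Finset.mem_of_mem_erase hχ) (Finset.ne_of_mem_erase hχ)] at h1
    omega
  refine ⟨l, ⟨hl, fun z => Units.ext ?_⟩, fun n hn => ?_⟩
  · refine (over_sum_eq (Subgroup.center (Subgroup.normalizer (P : Set G))) l
      (fun n : Subgroup.normalizer (P : Set G) => (ζ : G → ℂ) n) (fun g => hlam (g : G) z) ?_).symm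
    have e2 : (fun n : Subgroup.normalizer (P : Set G) => (ζ : G → ℂ) n) =
        ∑ χ : IrrCharacter (Subgroup.normalizer (P : Set G)),
          (m χ : ℂ) • (χ : Subgroup.normalizer (P : Set G) → ℂ) := hm
    rw [e2, ← hψl, classInner_sum_irr (fun χ => (m χ : ℂ)) ψ]
    exact_mod_cast hmψ.ne'
  · rw [hm' n, Finset.sum_eq_single ψ (fun χ _ hne => ?_) (fun hi => absurd (Finset.mem_univ _) hi), hm1,
      Nat.cast_one, one_mul, hψl]
    by_cases hχ : χ ∈ L
    · rw [hsingle χ hχ hne, Nat.cast_zero, zero_mul]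
    · rcases D.irr_cases χ with h | ⟨h0, -⟩
      · exact absurd (show χ ∈ L from Finset.mem_filter.2 ⟨Finset.mem_univ χ, h⟩) hχ
      · rw [h0 n hn, mul_zero]

end Data

end CfsgLib.Char.FeitSmall
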