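import Cfsg.Agent.Lib.Char.FeitSmall.Setup
import Cfsg.Agent.Lib.Char.FeitDegree.Kernel
import Cfsg.Agent.S4503

/-!
# Normal `p'`-subgroups are central
-/

set_option autoImplicit false
set_option maxHeartbeats 800000

universe u

namespace CfsgLib.Char.FeitSmall

open CfsgLib.CharAction CfsgLib.Clifford Finset
open scoped _root_.Classical ComplexConjugate Pointwise

variable {p : ℕ} [hp : Fact p.Prime] {G : Type u} [Group G] [Fintype G]
variable {P : Subgroup G} {u : G} {ζ : Cfsg.IrrCharacter G} {e t : ℕ}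

namespace Data

variable (D : Data (p := p) P u ζ e t)
include D

theorem ne_one : u ≠ 1 := fun h => hp.out.ne_one (by rw [← D.ord, h, orderOf_one])

theorem zpowers_eq : Subgroup.zpowers u = P := D.setup.zpowers_eq D.mem D.ne_one

theorem not_dvd_card_center : ¬ p ∣ Nat.card (Subgroup.center G) := fun hd => by
  obtain ⟨z, hz⟩ := exists_prime_orderOf_dvd_card' p hd
  exact D.setup.not_dvd_orderOf z.2 (by rw [Subgroup.orderOf_coe, hz])

/-- The centralizer of `u` is the product of `P` and the centre. -/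
theorem exists_mul_center {g : G} (hg : g ∈ Subgroup.centralizer ({u} : Set G)) :
    ∃ x ∈ P, ∃ z ∈ Subgroup.center G, x * z = g := by
  rw [D.setup.centralizer_singleton D.mem D.ne_one] at hg
  exact D.setup.exists_mul hg

theorem mem_center_of_pow {g : G} (hg : g ∈ Subgroup.centralizer ({u} : Set G)) {m : ℕ} (hm : ¬ p ∣ m)
    (hgm : g ^ m = 1) : g ∈ Subgroup.center G := by
  obtain ⟨x, hx, z, hz, rfl⟩ := D.exists_mul_center hg
  have hxz := D.setup.commute hx hz
  rw [hxz.mul_pow] at hgm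
  by_contra hne
  have hx1 : x ≠ 1 := fun h => hne (by rw [h, one_mul]; exact hz)
  obtain ⟨h1, -⟩ := D.setup.mul_inj (P.pow_mem hx m) P.one_mem ((Subgroup.center G).pow_mem hz m)
    (Subgroup.one_mem _) (hgm.trans (one_mul 1).symm)
  exact hm (D.setup.orderOf_eq hx hx1 ▸ orderOf_dvd_of_pow_eq_one h1)

/-- A normal `p'`-subgroup is central. -/
theorem le_center_of_normal (K : Subgroup G) [hKn : K.Normal] (hK : ¬ p ∣ Nat.card K) :
    K ≤ Subgroup.center G := by
  have hpp := hp.out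
  set K₀ := K ⊓ Subgroup.centralizer ({u} : Set G) with hK₀
  have hKpow : ∀ k ∈ K, k ^ Nat.card K = 1 := fun k hk =>
    congrArg Subtype.val (pow_card_eq_one' (G := K) (x := ⟨k, hk⟩))
  have hK₀Z : K₀ ≤ Subgroup.center G := fun c hc => D.mem_center_of_pow hc.2 hK (hKpow c hc.1)
  suffices hcen : ∀ k ∈ K, u * k * u⁻¹ * k⁻¹ = 1 by
    intro k hk
    refine D.mem_center_of_pow (Subgroup.mem_centralizer_singleton_iff.2 ?_) hK (hKpow k hk)
    exact (mul_inv_eq_iff_eq_mul.1 (mul_inv_eq_one.1 (hcen k hk))).symm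
  set H := K ⊔ P with hH
  have huH : u ∈ H := (le_sup_right : P ≤ H) D.mem
  set v : H := ⟨u, huH⟩
  have hv : orderOf v = p := by rw [← Subgroup.orderOf_coe]; exact D.ord
  set N := K.subgroupOf H with hN
  have hNn : N.Normal := inferInstance
  have hKP : ∀ j : ℕ, u ^ j ∈ K → p ∣ j := fun j hj => by
    have h1 : u ^ (j * Nat.card K) = 1 := by rw [pow_mul]; exact hKpow _ hj
    rw [← orderOf_dvd_iff_pow_eq_one, D.ord] at h1
    exact (hpp.dvd_mul.1 h1).resolve_right hK
  have hbij : Function.Bijective fun q : Fin p × N => v ^ (q.1 : ℕ) * (q.2 : H) := by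
    constructor
    · rintro ⟨i, n⟩ ⟨j, n'⟩ h
      have h1 : u ^ (i : ℕ) * ((n : H) : G) = u ^ (j : ℕ) * ((n' : H) : G) := congrArg Subtype.val h
      have hij : i = j := by
        by_contra hne
        wlog hlt : (i : ℕ) < (j : ℕ) generalizing i j n n'
        · exact this j n' i n h.symm h1.symm (Ne.symm hne)
            (lt_of_le_of_ne (not_lt.1 hlt) fun h' => hne (Fin.ext h'.symm))
        have h2 : u ^ ((j : ℕ) - i) = ((n : H) : G) * ((n' : H) : G)⁻¹ := by
          rw [pow_sub u hlt.le, (Commute.refl u).pow_pow _ _ |>.inv_right.eq, eq_mul_inv_iff_mul_eq, mul_assoc,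
            inv_mul_eq_iff_eq_mul]
          exact h1.symm
        have h3 := hKP _ (h2 ▸ K.mul_mem n.2 (K.inv_mem n'.2))
        have := Nat.le_of_dvd (by omega) h3
        have := j.2
        omega
      subst hij
      exact Prod.ext rfl (Subtype.ext (Subtype.ext (mul_left_cancel h1)))
    · rintro ⟨g, hg⟩
      have hg' : g ∈ (K : Set G) * (P : Set G) := by rw [← Subgroup.normal_mul]; exact hg
      obtain ⟨k, hk, x, hx, rfl⟩ := hg'
      rw [SetLike.mem_coe, ← D.zpowers_eq, mem_zpowers_iff_mem_range_orderOf, Finset.mem_image] at hx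
      obtain ⟨j, hj, rfl⟩ := hx
      rw [Finset.mem_range, D.ord] at hj
      have hk' : (u ^ j)⁻¹ * k * (u ^ j) ∈ K := by simpa using hKn.conj_mem k hk (u ^ j)⁻¹
      refine ⟨⟨⟨j, hj⟩, ⟨⟨_, (le_sup_left : K ≤ H) hk'⟩, hk'⟩⟩, Subtype.ext ?_⟩
      show u ^ j * ((u ^ j)⁻¹ * k * (u ^ j)) = k * u ^ j
      group
  -- the coset of a power of `u`
  have hcoset : ∀ j : ℕ, ¬ p ∣ j → ∀ k ∈ K, ∃ h ∈ K, ∃ c ∈ K₀, u ^ j * k = h * u ^ j * h⁻¹ * c := by
    intro j hj
    let Ψ : (K ⧸ K₀.subgroupOf K) × K₀ → K := fun q =>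
      ⟨(u ^ j)⁻¹ * ((q.1.out : K) : G) * u ^ j * ((q.1.out : K) : G)⁻¹ * (q.2 : G),
        K.mul_mem (K.mul_mem (by simpa using hKn.conj_mem _ (q.1.out : K).2 (u ^ j)⁻¹) (K.inv_mem (q.1.out : K).2))
          q.2.2.1⟩
    have hinj : Function.Injective Ψ := by
      rintro ⟨q, c⟩ ⟨q', c'⟩ h
      have h1 : (q.out : K).1 * u ^ j * (q.out : K).1⁻¹ * (c : G) =
          (q'.out : K).1 * u ^ j * (q'.out : K).1⁻¹ * (c' : G) := by
        calc (q.out : K).1 * u ^ j * (q.out : K).1⁻¹ * (c : G)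
            = u ^ j * ((u ^ j)⁻¹ * (q.out : K).1 * u ^ j * (q.out : K).1⁻¹ * (c : G)) := by group
          _ = u ^ j * ((u ^ j)⁻¹ * (q'.out : K).1 * u ^ j * (q'.out : K).1⁻¹ * (c' : G)) :=
            congrArg (u ^ j * ·) (congrArg Subtype.val h)
          _ = _ := by group
      set a := (q.out : K).1 * u ^ j * (q.out : K).1⁻¹
      set b := (q'.out : K).1 * u ^ j * (q'.out : K).1⁻¹
      set w : G := (c' : G) * (c : G)⁻¹
      have hwZ : w ∈ Subgroup.center G := mul_mem (hK₀Z c'.2) (inv_mem (hK₀Z c.2))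
      have h2 : a = b * w := by
        rw [← mul_inv_eq_iff_eq_mul.2 h1.symm, mul_assoc]
      have hap : ∀ g : G, (g * u ^ j * g⁻¹) ^ p = 1 := fun g => by
        rw [_root_.conj_pow, ← pow_mul, mul_comm, pow_mul, ← D.ord, pow_orderOf_eq_one, one_pow, mul_one, mul_inv_cancel]
      have hw1 : w = 1 := by
        have h3 : w ^ p = 1 := by
          have h4 := hap (q.out : K).1
          rw [show (q.out : K).1 * u ^ j * (q.out : K).1⁻¹ = b * w from h2,
            (show Commute b w from Subgroup.mem_center_iff.1 hwZ b).mul_pow, hap, one_mul] at h4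
          exact h4
        have h5 : w ^ Nat.card K = 1 := hKpow _ (K.mul_mem c'.2.1 (K.inv_mem c.2.1))
        have h6 : orderOf w ∣ Nat.gcd p (Nat.card K) :=
          Nat.dvd_gcd (orderOf_dvd_of_pow_eq_one h3) (orderOf_dvd_of_pow_eq_one h5)
        rw [(hpp.coprime_iff_not_dvd.2 hK).gcd_eq_one] at h6
        exact orderOf_eq_one_iff.1 (Nat.dvd_one.1 h6)
      rw [hw1, mul_one] at h2
      have hcc : c = c' := Subtype.ext (mul_inv_eq_one.1 hw1).symm
      refine Prod.ext ?_ hcc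
      rw [← QuotientGroup.out_eq' q, ← QuotientGroup.out_eq' q', QuotientGroup.eq, Subgroup.mem_subgroupOf]
      refine ⟨((q.out : K)⁻¹ * q'.out).2, ?_⟩
      have hcomm : Commute ((q.out : K).1⁻¹ * (q'.out : K).1) (u ^ j) := by
        calc (q.out : K).1⁻¹ * (q'.out : K).1 * u ^ j
            = (q.out : K).1⁻¹ * b * (q'.out : K).1 := by simp only [b]; group
          _ = (q.out : K).1⁻¹ * a * (q'.out : K).1 := by rw [h2]
          _ = u ^ j * ((q.out : K).1⁻¹ * (q'.out : K).1) := by simp only [a]; group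
      have hgen : u ∈ Subgroup.zpowers (u ^ j) := by
        obtain ⟨m, hm⟩ := exists_pow_eq_self_of_coprime (x := u) (n := j)
          (by rw [D.ord]; exact (hpp.coprime_iff_not_dvd.2 hj).symm)
        exact ⟨m, by simpa using hm⟩
      obtain ⟨m, hm⟩ := hgen
      refine Subgroup.mem_centralizer_singleton_iff.2 ?_
      have hm' : (u ^ j) ^ m = u := hm
      have := (hcomm.zpow_right m).eq
      rw [hm'] at this
      exact this
    have hsurj : Function.Surjective Ψ := by
      refine (hinj.bijective_of_nat_card_le ?_).2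
      rw [Nat.card_prod, ← Nat.card_congr (Subgroup.subgroupOfEquivOfLe (inf_le_left : K₀ ≤ K)).toEquiv,
        ← Subgroup.card_eq_card_quotient_mul_card_subgroup]
    intro k hk
    obtain ⟨⟨q, c⟩, hq⟩ := hsurj ⟨k, hk⟩
    refine ⟨(q.out : K).1, (q.out : K).2, c, c.2, ?_⟩
    have h := congrArg Subtype.val hq
    simp only [Ψ] at h
    rw [← h]
    group
  intro k hk
  refine D.faith _ ?_
  have hmem : u * k * u⁻¹ * k⁻¹ ∈ K := K.mul_mem (hKn.conj_mem k hk u) (K.inv_mem hk)
  haveI := Fintype.ofFinite (Cfsg.IrrCharacter H)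
  set x : H := v * ⟨k, (le_sup_left : K ≤ H) hk⟩ * v⁻¹ * (⟨k, (le_sup_left : K ≤ H) hk⟩ : H)⁻¹
  show (ζ : G → ℂ) (H.subtype x) = _
  rw [← map_one H.subtype, apply_eq_sum_mult H.subtype ζ x, apply_eq_sum_mult H.subtype ζ (1 : H)]
  refine Finset.sum_congr rfl fun φ _ => ?_
  by_cases hm : mult H.subtype ζ φ = 0
  · simp [hm]
  congr 1
  refine CfsgLib.Char.FeitDegree.apply_commutator_eq N hNn hv hbij φ ?_ ?_ (hk : (⟨k, (le_sup_left : K ≤ H) hk⟩ : H) ∈ N)
  · have h := apply_eq_sum_mult H.subtype ζ (1 : H)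
    rw [map_one] at h
    simp only [← CfsgLib.CharDegree.cast_irrDegree] at h
    have h' : Cfsg.charDegree (ζ : G → ℂ) = ∑ γ : Cfsg.IrrCharacter H, mult H.subtype ζ γ * Cfsg.charDegree (γ : H → ℂ) := by
      exact_mod_cast h
    have h1 : 1 * Cfsg.charDegree (φ : H → ℂ) ≤ mult H.subtype ζ φ * Cfsg.charDegree (φ : H → ℂ) :=
      Nat.mul_le_mul_right _ (Nat.pos_of_ne_zero hm)
    have h2 : mult H.subtype ζ φ * Cfsg.charDegree (φ : H → ℂ) ≤ Cfsg.charDegree (ζ : G → ℂ) := by
      rw [h']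
      exact Finset.single_le_sum (f := fun γ => mult H.subtype ζ γ * Cfsg.charDegree (γ : H → ℂ))
        (fun _ _ => Nat.zero_le _) (Finset.mem_univ φ)
    have := D.deg
    have := D.two_le
    omega
  · intro j hj n hn
    obtain ⟨h, hh, c, hc, he⟩ := hcoset j hj (n : G) hn
    obtain ⟨l, hl⟩ := CfsgLib.Char.FeitDegree.exists_centralHom φ (K₀.subgroupOf H) fun z hz => Subgroup.mem_center_iff.2 fun g =>
      Subtype.ext (Subgroup.mem_center_iff.1 (hK₀Z hz) (g : G))
    have hn' : v ^ j * n = (⟨h, (le_sup_left : K ≤ H) hh⟩ : H) * v ^ j * (⟨h, (le_sup_left : K ≤ H) hh⟩ : H)⁻¹ *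
        ((⟨⟨c, (le_sup_left : K ≤ H) hc.1⟩, hc⟩ : K₀.subgroupOf H) : H) := Subtype.ext he
    rw [hn', hl, IsIrr.isClassFunction φ.2, norm_mul, CfsgLib.Char.FeitDegree.norm_linear, one_mul]


/-- An irreducible character of degree less than `(p - 1) / 2` is constant on `P`. -/
theorem apply_eq_of_small (χ : Cfsg.IrrCharacter G) (hχ : 2 * Cfsg.charDegree (χ : G → ℂ) + 1 < p)
    {x : G} (hx : x ∈ P) : (χ : G → ℂ) x = (χ : G → ℂ) 1 := by
  have hpp := hp.out
  set K := CfsgLib.CharDegree.kerSubgroup χ with hK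
  haveI hKn : K.Normal := CfsgLib.CharDegree.kerSubgroup_normal χ
  by_cases hdK : p ∣ Nat.card K
  · obtain ⟨y, hy⟩ := exists_prime_orderOf_dvd_card' p hdK
    obtain ⟨a, ha, ha1, v, hv, hc⟩ := D.setup.exists_singular (g := (y : G)) (by rw [Subgroup.orderOf_coe, hy])
    obtain ⟨g, hg⟩ := isConj_iff.1 hc
    have hav : a * v ∈ K := hg ▸ hKn.conj_mem _ y.2 g
    have hp' : (a * v) ^ p = 1 := by
      rw [← hg, _root_.conj_pow, ← Subgroup.coe_pow, ← hy, pow_orderOf_eq_one, Subgroup.coe_one, mul_one,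
        mul_inv_cancel]
    rw [(D.setup.commute ha hv).mul_pow, D.setup.pow_eq_one ha, one_mul] at hp'
    have hv1 : v = 1 := by
      rcases (Nat.dvd_prime hpp).1 (orderOf_dvd_of_pow_eq_one hp') with h | h
      · exact orderOf_eq_one_iff.1 h
      · exact absurd h.symm.dvd (D.setup.not_dvd_orderOf hv)
    rw [hv1, mul_one] at hav
    have hPK : P ≤ K := D.setup.zpowers_eq ha ha1 ▸ Subgroup.zpowers_le.2 hav
    exact CfsgLib.CharDegree.mem_kerSubgroup.1 (hPK hx)
  exfalso
  have hKZ : K ≤ Subgroup.center G := D.le_center_of_normal K hdK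
  obtain ⟨ψ, hψ⟩ := CfsgLib.CharDegree.exists_infl K χ fun g hg => CfsgLib.CharDegree.mem_kerSubgroup.1 hg
  have hG : Nat.card G = p * P.index := by rw [← P.card_mul_index, D.setup.card]
  have hidx : K.index * Nat.card K = p * P.index := by rw [← hG, mul_comm, K.card_mul_index]
  have hdiv : p ∣ Nat.card (G ⧸ K) := by
    rw [← Subgroup.index_eq_card]
    exact (hpp.dvd_mul.1 ⟨P.index, hidx⟩).resolve_right hdK
  have hsq : ¬ p ^ 2 ∣ Nat.card (G ⧸ K) := fun h => by
    rw [← Subgroup.index_eq_card] at h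
    have h2 := h.trans K.index_dvd_card
    rw [hG, sq] at h2
    exact D.setup.not_dvd ((Nat.mul_dvd_mul_iff_left hpp.pos).1 h2)
  have hnn : ∀ H : Subgroup (G ⧸ K), H.Normal → Nat.card H ≠ p := by
    intro H hH hHc
    obtain ⟨w, hw⟩ := exists_prime_orderOf_dvd_card' p (dvd_of_eq hHc.symm)
    haveI := hH
    have hn : (H.comap (QuotientGroup.mk' K)).Normal := hH.comap _
    obtain ⟨g, hg⟩ := QuotientGroup.mk'_surjective K (w : G ⧸ K)
    have hgp : p ∣ orderOf g := by
      refine dvd_trans (dvd_of_eq ?_) (orderOf_map_dvd (QuotientGroup.mk' K) g)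
      rw [hg, Subgroup.orderOf_coe, hw]
    obtain ⟨a, ha, ha1, v, hv, hc⟩ := D.setup.exists_singular hgp
    obtain ⟨c, hc'⟩ := isConj_iff.1 hc
    have hav : a * v ∈ H.comap (QuotientGroup.mk' K) := hc' ▸ hn.conj_mem _ (by
      rw [Subgroup.mem_comap, hg]; exact w.2) c
    have haH : a ∈ H.comap (QuotientGroup.mk' K) := by
      obtain ⟨m, hm⟩ : ∃ m : ℕ, a ^ (orderOf v * m) = a := by
        obtain ⟨m, hm⟩ := exists_pow_eq_self_of_coprime (x := a) (n := orderOf v)
          (by rw [D.setup.orderOf_eq ha ha1]; exact (hpp.coprime_iff_not_dvd.2 (D.setup.not_dvd_orderOf hv)).symm)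
        exact ⟨m, by rwa [pow_mul]⟩
      have := Subgroup.pow_mem _ hav (orderOf v * m)
      rwa [(D.setup.commute ha hv).mul_pow, pow_mul v, pow_orderOf_eq_one, one_pow, mul_one, hm] at this
    have hPH : P ≤ H.comap (QuotientGroup.mk' K) :=
      D.setup.zpowers_eq ha ha1 ▸ Subgroup.zpowers_le.2 haH
    -- the image of `P` is all of `H`
    have hmap : P.map (QuotientGroup.mk' K) = H := by
      refine Subgroup.eq_of_le_of_card_ge (Subgroup.map_le_iff_le_comap.2 hPH) ?_
      rw [hHc]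
      have hne : (QuotientGroup.mk' K) a ≠ 1 := fun h => by
        have hak : a ∈ K := (QuotientGroup.eq_one_iff a).1 h
        exact hdK (D.setup.orderOf_eq ha ha1 ▸ (Subgroup.orderOf_mk a hak ▸ orderOf_dvd_natCard (⟨a, hak⟩ : K)))
      calc p = orderOf ((QuotientGroup.mk' K) a) := (orderOf_eq_prime
            (by rw [← map_pow, D.setup.pow_eq_one ha, map_one]) hne).symm
        _ ≤ _ := Nat.le_of_dvd Nat.card_pos (Subgroup.orderOf_dvd_natCard _ (Subgroup.mem_map_of_mem _ ha))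
    refine D.not_normal ⟨fun y hy g => ?_⟩
    have h1 : (QuotientGroup.mk' K) (g * y * g⁻¹) ∈ P.map (QuotientGroup.mk' K) := by
      rw [hmap, map_mul, map_mul, map_inv]
      exact hH.conj_mem _ (hmap ▸ Subgroup.mem_map_of_mem _ hy) _
    obtain ⟨y', hy', hyy⟩ := Subgroup.mem_map.1 h1
    have hk : y'⁻¹ * (g * y * g⁻¹) ∈ K := QuotientGroup.eq.1 hyy
    have hz := hKZ hk
    set k := y'⁻¹ * (g * y * g⁻¹) with hkdef
    have hgy : g * y * g⁻¹ = y' * k := by rw [hkdef]; group
    have hkp : k ^ p = 1 := by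
      have h2 : (g * y * g⁻¹) ^ p = 1 := by rw [_root_.conj_pow, D.setup.pow_eq_one hy, mul_one, mul_inv_cancel]
      rwa [hgy, (D.setup.commute hy' hz).mul_pow, D.setup.pow_eq_one hy', one_mul] at h2
    have hk1 : k = 1 := by
      rcases (Nat.dvd_prime hpp).1 (orderOf_dvd_of_pow_eq_one hkp) with h | h
      · exact orderOf_eq_one_iff.1 h
      · exact absurd h.symm.dvd (D.setup.not_dvd_orderOf hz)
    rw [hgy, hk1, mul_one]
    exact hy'
  have h := Cfsg.Agent.S4503.result p hpp hdiv hsq hnn (ψ : G ⧸ K → ℂ) (CfsgLib.Char.IsIrr.isCharacter ψ.2) fun q hq => by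
    induction q using QuotientGroup.induction_on with
    | H g =>
      refine (QuotientGroup.eq_one_iff g).2 (CfsgLib.CharDegree.mem_kerSubgroup.2 ?_)
      rw [← hψ]
      exact hq
  have hdeg : Cfsg.charDegree (ψ : G ⧸ K → ℂ) = Cfsg.charDegree (χ : G → ℂ) := by
    rw [← hψ]; rfl
  omega

end Data

end CfsgLib.Char.FeitSmall
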