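import Cfsg.Agent.Lib.Char.FeitSmall.Setup

/-!
# The classes of elements of order `p`

With `e` the index of the centralizer of `P` in its normalizer and `e * t = p - 1` there are `t`
classes of elements of order `p`.
-/

set_option autoImplicit false

universe u

namespace CfsgLib.Char.FeitSmall

open Cfsg CfsgLib.Blocks.PrimeSylow

variable {G : Type u} [Group G] [Fintype G] {p : ℕ} [Fact p.Prime] {P V : Subgroup G}

/-- An element of order `p` is conjugate into `P`. -/
theorem exists_conj_mem (h : Setup p P V) {g : G} (hg : orderOf g = p) : ∃ y ∈ P, IsConj g y := by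
  obtain ⟨a, ha, -, v, hv, hc⟩ := h.exists_singular (g := g) (dvd_of_eq hg.symm)
  obtain ⟨c, hc'⟩ := isConj_iff.1 hc
  have hp' : (a * v) ^ p = 1 := by
    rw [← hc', conj_pow, ← hg, pow_orderOf_eq_one, mul_one, mul_inv_cancel]
  rw [(h.commute ha hv).mul_pow, h.pow_eq_one ha, one_mul] at hp'
  rcases (Nat.dvd_prime h.prime).1 (orderOf_dvd_of_pow_eq_one hp') with h1 | h1
  · rw [orderOf_eq_one_iff.1 h1, mul_one] at hc
    exact ⟨a, ha, hc⟩
  · exact absurd h1.symm.dvd (h.not_dvd_orderOf hv)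

/-- The exponents realised in the normalizer are the `f`-th roots of unity. -/
theorem exists_conj_iff (h : Setup p P V) {u : G} (hu : u ∈ P) (hu1 : u ≠ 1) {f : ℕ}
    (hf : (Subgroup.centralizer (P : Set G)).relIndex (Subgroup.normalizer (P : Set G)) = f)
    (hfp : f ∣ p - 1) (c : ZMod p) :
    (∃ g ∈ Subgroup.normalizer (P : Set G), g * u * g⁻¹ = u ^ c.val) ↔ c ^ f = 1 := by
  classical
  have huo : orderOf u = p := h.orderOf_eq hu hu1
  obtain ⟨t, ht⟩ := hfp
  set C := Subgroup.centralizer (P : Set G) with hC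
  set N := Subgroup.normalizer (P : Set G) with hN
  haveI : (C.subgroupOf N).Normal := inferInstance
  have hroot : ∀ g ∈ N, ∀ c : ZMod p, g * u * g⁻¹ = u ^ c.val → c ^ f = 1 := by
    intro g hg c hc
    have hgC : g ^ f ∈ C := by
      have h1 : (⟨g, hg⟩ : N) ^ f ∈ C.subgroupOf N := hf ▸ Subgroup.pow_index_mem _ _
      exact Subgroup.mem_subgroupOf.1 h1
    have hpow : ∀ k : ℕ, g ^ k * u * (g ^ k)⁻¹ = u ^ (c ^ k).val := by
      intro k
      induction k with
      | zero => simp [ZMod.val_one]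
      | succ k ih =>
        calc g ^ (k + 1) * u * (g ^ (k + 1))⁻¹ = g * (g ^ k * u * (g ^ k)⁻¹) * g⁻¹ := by
              rw [pow_succ']; group
          _ = (g * u * g⁻¹) ^ (c ^ k).val := by rw [ih, conj_pow]
          _ = u ^ (c.val * (c ^ k).val) := by rw [hc, pow_mul]
          _ = _ := by
            rw [← CfsgLib.Char.FeitDegree.pow_val_eq huo (c.val * _), Nat.cast_mul,
              ZMod.natCast_zmod_val, ZMod.natCast_zmod_val, ← pow_succ']
    have h2 := hpow f
    rw [← Subgroup.mem_centralizer_iff.1 hgC u hu, mul_inv_cancel_right] at h2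
    have h3 : u ^ 1 = u ^ (c ^ f).val := by rw [pow_one]; exact h2
    rw [pow_eq_pow_iff_modEq, huo, ← ZMod.natCast_eq_natCast_iff, ZMod.natCast_zmod_val,
      Nat.cast_one] at h3
    exact h3.symm
  refine ⟨fun ⟨g, hg, hgc⟩ => hroot g hg c hgc, fun hc => ?_⟩
  have hex : ∀ n : N, ∃ c : ZMod p, (n : G) * u * (n : G)⁻¹ = u ^ c.val := by
    intro n
    have hm : (n : G) * u * (n : G)⁻¹ ∈ Subgroup.zpowers u := by
      rw [h.zpowers_eq hu hu1]
      exact (Subgroup.mem_normalizer_iff.1 n.2 u).1 hu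
    obtain ⟨i, hi⟩ := (isOfFinOrder_of_finite u).mem_powers_iff_mem_zpowers.2 hm
    refine ⟨i, ?_⟩
    rw [CfsgLib.Char.FeitDegree.pow_val_eq huo]
    exact hi.symm
  choose E hE using hex
  have := Fintype.ofFinite (N ⧸ C.subgroupOf N)
  have hinj : Function.Injective fun q : N ⧸ C.subgroupOf N => E q.out := by
    intro q q' e
    have e' : (q.out : G) * u * (q.out : G)⁻¹ = (q'.out : G) * u * (q'.out : G)⁻¹ :=
      (hE q.out).trans (by rw [show E q.out = E q'.out from e, ← hE])
    rw [← QuotientGroup.out_eq' q, ← QuotientGroup.out_eq' q', QuotientGroup.eq, Subgroup.mem_subgroupOf]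
    show (((q.out)⁻¹ * q'.out : N) : G) ∈ Subgroup.centralizer (P : Set G)
    rw [← h.centralizer_singleton hu hu1, Subgroup.mem_centralizer_singleton_iff]
    push_cast
    calc (q.out : G)⁻¹ * (q'.out : G) * u
        = (q.out : G)⁻¹ * ((q'.out : G) * u * (q'.out : G)⁻¹) * (q'.out : G) := by group
      _ = (q.out : G)⁻¹ * ((q.out : G) * u * (q.out : G)⁻¹) * (q'.out : G) := by rw [e']
      _ = u * ((q.out : G)⁻¹ * (q'.out : G)) := by group
  have hcard : (Finset.univ.image fun q : N ⧸ C.subgroupOf N => E q.out).card = f := by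
    rw [Finset.card_image_of_injective _ hinj, Finset.card_univ, ← Nat.card_eq_fintype_card,
      ← Subgroup.index_eq_card, ← hf]
    rfl
  have hlev : level f (1 : ZMod p) = Finset.univ.image fun q : N ⧸ C.subgroupOf N => E q.out := by
    symm
    refine Finset.eq_of_subset_of_card_le (fun x hx => ?_) ?_
    · obtain ⟨q, -, rfl⟩ := Finset.mem_image.1 hx
      exact mem_level.2 (hroot _ q.out.2 _ (hE _))
    · rw [hcard]
      exact card_level_le ht.symm 1
  obtain ⟨q, -, hq⟩ := Finset.mem_image.1 (hlev ▸ mem_level.2 hc :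
    c ∈ Finset.univ.image fun q : N ⧸ C.subgroupOf N => E q.out)
  exact ⟨q.out, q.out.2, hq ▸ hE q.out⟩

/-- The number of classes of elements of order `p`. -/
theorem card_classes (h : Setup p P V) {f t : ℕ}
    (hf : (Subgroup.centralizer (P : Set G)).relIndex (Subgroup.normalizer (P : Set G)) = f)
    (het : f * t = p - 1) :
    Nat.card {c : ConjClasses G // ∃ g : G, ConjClasses.mk g = c ∧ orderOf g = p} = t := by
  classical
  obtain ⟨u₀, hu₀⟩ : ∃ x : P, x ≠ 1 := by
    have : Nontrivial P := Finite.one_lt_card_iff_nontrivial.1 (h.card ▸ h.prime.one_lt)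
    exact exists_ne 1
  obtain ⟨u, hu, hu1⟩ : ∃ u ∈ P, u ≠ 1 := ⟨u₀, u₀.2, fun e => hu₀ (Subtype.ext e)⟩
  have huo : orderOf u = p := h.orderOf_eq hu hu1
  have hpos : 0 < f := e_pos het
  have hconj : ∀ x y : ZMod p, x ≠ 0 → y ≠ 0 → (IsConj (u ^ x.val) (u ^ y.val) ↔ x ^ f = y ^ f) := by
    intro x y hx hy
    have hne : ∀ z : ZMod p, z ≠ 0 → u ^ z.val ≠ 1 := fun z hz e => hz (by
      have h1 := orderOf_dvd_of_pow_eq_one e
      rw [huo, ← ZMod.natCast_eq_zero_iff, ZMod.natCast_zmod_val] at h1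
      exact h1)
    constructor
    · intro hc
      obtain ⟨g, hg⟩ := isConj_iff.1 hc
      obtain ⟨hgN, hgx, -⟩ := h.fusion (P.pow_mem hu x.val) (P.pow_mem hu y.val) (hne x hx)
        V.one_mem V.one_mem (g := g) (by rw [mul_one, mul_one]; exact hg)
      have hc' : g * u * g⁻¹ = u ^ (x⁻¹ * y).val := by
        have h1 : (u ^ x.val) ^ x⁻¹.val = u := by
          rw [← pow_mul, ← CfsgLib.Char.FeitDegree.pow_val_eq huo (x.val * _), Nat.cast_mul,
            ZMod.natCast_zmod_val, ZMod.natCast_zmod_val, mul_inv_cancel₀ hx, ZMod.val_one, pow_one]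
        conv_lhs => rw [← h1, ← conj_pow, hgx, ← pow_mul]
        rw [← CfsgLib.Char.FeitDegree.pow_val_eq huo (y.val * _), Nat.cast_mul, ZMod.natCast_zmod_val,
          ZMod.natCast_zmod_val, mul_comm]
      have h2 := (exists_conj_iff h hu hu1 hf ⟨t, het.symm⟩ _).1 ⟨g, hgN, hc'⟩
      rw [mul_pow, inv_pow, inv_mul_eq_one₀ (pow_ne_zero _ hx)] at h2
      exact h2
    · intro hxy
      obtain ⟨g, -, hg⟩ := (exists_conj_iff h hu hu1 hf ⟨t, het.symm⟩ (x⁻¹ * y)).2 (by
        rw [mul_pow, inv_pow, inv_mul_eq_one₀ (pow_ne_zero _ hx)]; exact hxy)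
      refine isConj_iff.2 ⟨g, ?_⟩
      rw [← conj_pow, hg, ← pow_mul, ← CfsgLib.Char.FeitDegree.pow_val_eq huo ((x⁻¹ * y).val * _),
        Nat.cast_mul, ZMod.natCast_zmod_val, ZMod.natCast_zmod_val, mul_comm x⁻¹, mul_assoc,
        inv_mul_cancel₀ hx, mul_one]
  have hy : ∀ l ∈ roots p t, ∃ y : ZMod p, y ^ f = l ∧ y ≠ 0 := by
    intro l hl
    obtain ⟨y, hy⟩ := Finset.card_pos.1 (by rw [card_level het hl]; exact hpos)
    exact ⟨y, mem_level.1 hy, ne_zero_of_mem_level het hl hy⟩
  choose! Y hY hY0 using hy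
  let Φ : {l // l ∈ roots p t} → {c : ConjClasses G // ∃ g : G, ConjClasses.mk g = c ∧ orderOf g = p} :=
    fun l => ⟨ConjClasses.mk (u ^ (Y l).val), u ^ (Y l).val, rfl, h.orderOf_eq (P.pow_mem hu _) (fun e =>
      hY0 l l.2 (by
        have h1 := orderOf_dvd_of_pow_eq_one e
        rwa [huo, ← ZMod.natCast_eq_zero_iff, ZMod.natCast_zmod_val] at h1))⟩
  have hbij : Function.Bijective Φ := by
    constructor
    · intro a b e
      have h1 := (hconj _ _ (hY0 a a.2) (hY0 b b.2)).1
        (ConjClasses.mk_eq_mk_iff_isConj.1 (congrArg Subtype.val e))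
      rw [hY a a.2, hY b b.2] at h1
      exact Subtype.ext h1
    · rintro ⟨c, g, rfl, hg⟩
      obtain ⟨y, hy, hgy⟩ := exists_conj_mem h hg
      rw [← h.zpowers_eq hu hu1] at hy
      obtain ⟨i, hi⟩ := (isOfFinOrder_of_finite u).mem_powers_iff_mem_zpowers.2 hy
      have hi' : u ^ (i : ZMod p).val = y := by rw [CfsgLib.Char.FeitDegree.pow_val_eq huo]; exact hi
      have hi0 : (i : ZMod p) ≠ 0 := fun e => by
        rw [e, ZMod.val_zero, pow_zero] at hi'
        obtain ⟨c', hc'⟩ := isConj_iff.1 hgy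
        rw [← hi', conj_eq_one_iff] at hc'
        rw [hc', orderOf_one] at hg
        exact h.prime.ne_one hg.symm
      refine ⟨⟨(i : ZMod p) ^ f, pow_mem_roots het hi0⟩, Subtype.ext (ConjClasses.mk_eq_mk_iff_isConj.2 ?_)⟩
      show IsConj (u ^ (Y ((i : ZMod p) ^ f)).val) g
      refine IsConj.trans ((hconj _ _ (hY0 _ (pow_mem_roots het hi0)) hi0).2 (hY _ (pow_mem_roots het hi0))) ?_
      rw [hi']
      exact hgy.symm
  rw [← Nat.card_congr (Equiv.ofBijective Φ hbij), Nat.card_eq_fintype_card, Fintype.card_coe,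
    card_roots het]

end CfsgLib.Char.FeitSmall
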