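import Mathlib

/-!
# Cyclotomic numbers

For `e * t = p - 1` the number `cyc e a l` counts the `x` with `x ^ e = a` and `(1 + x) ^ e = l` in
`ZMod p`.  We prove the two symmetries, the row sums, the sum of the squares and an obstruction to
all of them being large.
-/

set_option autoImplicit false

open Finset Polynomial

namespace CfsgLib.Char.FeitSmall

variable {p : ℕ} [Fact p.Prime]

/-- The `t`-th roots of unity modulo `p`. -/
def roots (p t : ℕ) [Fact p.Prime] : Finset (ZMod p) := univ.filter fun x => x ^ t = 1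

/-- The residues with a given `e`-th power. -/
def level (e : ℕ) (a : ZMod p) : Finset (ZMod p) := univ.filter fun x => x ^ e = a

/-- The cyclotomic numbers. -/
def cyc (e : ℕ) (a l : ZMod p) : ℕ := ((level e a).filter fun x => (1 + x) ^ e = l).card

variable {e t : ℕ}

theorem mem_roots {x : ZMod p} : x ∈ roots p t ↔ x ^ t = 1 := by simp [roots]

theorem mem_level {a x : ZMod p} : x ∈ level e a ↔ x ^ e = a := by simp [level]

theorem ne_zero_of_mem_roots (ht : 0 < t) {x : ZMod p} (hx : x ∈ roots p t) : x ≠ 0 := fun h => by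
  rw [mem_roots, h, zero_pow ht.ne'] at hx
  exact zero_ne_one hx

theorem one_mem_roots : (1 : ZMod p) ∈ roots p t := by simp [mem_roots]

theorem inv_mem_roots {x : ZMod p} (hx : x ∈ roots p t) : x⁻¹ ∈ roots p t := by
  rw [mem_roots] at hx ⊢
  rw [inv_pow, hx, inv_one]

theorem mul_mem_roots {x y : ZMod p} (hx : x ∈ roots p t) (hy : y ∈ roots p t) : x * y ∈ roots p t := by
  rw [mem_roots] at hx hy ⊢
  rw [mul_pow, hx, hy, one_mul]

section Setting

variable (het : e * t = p - 1)
include het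

theorem e_pos : 0 < e := by
  have := (Fact.out : p.Prime).two_le
  rcases Nat.eq_zero_or_pos e with h | h
  · rw [h, zero_mul] at het; omega
  · exact h

theorem t_pos : 0 < t := by
  have := (Fact.out : p.Prime).two_le
  rcases Nat.eq_zero_or_pos t with h | h
  · rw [h, mul_zero] at het; omega
  · exact h

theorem e_lt : e < p := by
  have := (Fact.out : p.Prime).two_le
  have : e * 1 ≤ e * t := Nat.mul_le_mul_left e (t_pos het)
  omega

theorem pow_mem_roots {x : ZMod p} (hx : x ≠ 0) : x ^ e ∈ roots p t := by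
  rw [mem_roots, ← pow_mul, het, ZMod.pow_card_sub_one_eq_one hx]

theorem sigma_mem_roots : (-1 : ZMod p) ^ e ∈ roots p t := pow_mem_roots het (neg_ne_zero.2 one_ne_zero)

omit het in
theorem sigma_mul_self : ((-1 : ZMod p) ^ e) * (-1) ^ e = 1 := by
  rw [← mul_pow, neg_one_mul, neg_neg, one_pow]

theorem card_level_le (a : ZMod p) : (level e a).card ≤ e := by
  refine le_trans (card_le_card (t := (nthRoots e a).toFinset) fun x hx => ?_)
    ((Multiset.toFinset_card_le _).trans (card_nthRoots e a))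
  exact Multiset.mem_toFinset.2 ((mem_nthRoots (e_pos het)).2 (mem_level.1 hx))

theorem card_roots_and_level :
    (roots p t).card = t ∧ ∀ a ∈ roots p t, (level e a).card = e := by
  have ht := t_pos het
  have h1 : (roots p t).card ≤ t := by
    refine le_trans (card_le_card (t := (nthRoots t (1 : ZMod p)).toFinset) fun x hx => ?_)
      ((Multiset.toFinset_card_le _).trans (card_nthRoots t 1))
    exact Multiset.mem_toFinset.2 ((mem_nthRoots ht).2 (mem_roots.1 hx))
  have h2 : (univ.erase (0 : ZMod p)).card = ∑ a ∈ roots p t, (level e a).card := by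
    rw [card_eq_sum_card_fiberwise (f := fun x : ZMod p => x ^ e) (t := roots p t)
      fun x hx => pow_mem_roots het (ne_of_mem_erase hx)]
    refine sum_congr rfl fun a ha => congrArg card ?_
    ext x
    simp only [mem_filter, mem_erase, mem_univ, and_true, mem_level]
    refine ⟨fun h => h.2, fun h => ⟨fun h0 => ne_zero_of_mem_roots ht ha ?_, h⟩⟩
    rw [← h, h0, zero_pow (e_pos het).ne']
  rw [card_erase_of_mem (mem_univ _), card_univ, ZMod.card, ← het] at h2
  have h3 : ∑ a ∈ roots p t, (level e a).card ≤ (roots p t).card * e := by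
    rw [← smul_eq_mul]
    exact sum_le_card_nsmul _ _ _ fun a _ => card_level_le het a
  have hcard : (roots p t).card = t := by
    have : t * e ≤ (roots p t).card * e := by rw [mul_comm t]; omega
    have := Nat.le_of_mul_le_mul_right this (e_pos het)
    omega
  refine ⟨hcard, fun a ha => le_antisymm (card_level_le het a) ?_⟩
  by_contra hlt
  have h4 : ∑ a ∈ roots p t, (level e a).card < ∑ _a ∈ roots p t, e :=
    sum_lt_sum (fun a _ => card_level_le het a) ⟨a, ha, not_le.1 hlt⟩
  rw [sum_const, smul_eq_mul, hcard, mul_comm t] at h4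
  omega

theorem card_roots : (roots p t).card = t := (card_roots_and_level het).1

theorem card_level {a : ZMod p} (ha : a ∈ roots p t) : (level e a).card = e :=
  (card_roots_and_level het).2 a ha

/-- The row sums. -/
theorem sum_cyc {a : ZMod p} (ha : a ∈ roots p t) :
    (∑ l ∈ roots p t, cyc e a l) + (if a = (-1) ^ e then 1 else 0) = e := by
  classical
  have he := e_pos het
  have h1 : ∑ l ∈ roots p t, cyc e a l = ((level e a).filter fun x => 1 + x ≠ 0).card := by
    rw [card_eq_sum_card_fiberwise (f := fun x : ZMod p => (1 + x) ^ e) (t := roots p t)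
      fun x hx => pow_mem_roots het (mem_filter.1 hx).2]
    refine sum_congr rfl fun l hl => congrArg card ?_
    ext x
    simp only [mem_filter]
    refine ⟨fun h => ⟨⟨h.1, fun h0 => ne_zero_of_mem_roots (t_pos het) hl ?_⟩, h.2⟩, fun h => ⟨h.1.1, h.2⟩⟩
    rw [← h.2, h0, zero_pow he.ne']
  have h2 : ((level e a).filter fun x => ¬ 1 + x ≠ 0).card = if a = (-1) ^ e then 1 else 0 := by
    split_ifs with h
    · rw [card_eq_one]
      refine ⟨-1, ?_⟩
      ext x
      simp only [mem_filter, mem_level, not_not, mem_singleton]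
      exact ⟨fun hx => eq_neg_of_add_eq_zero_right hx.2, fun hx => by subst hx; exact ⟨h.symm, add_neg_cancel 1⟩⟩
    · rw [card_eq_zero, filter_eq_empty_iff]
      intro x hx h0
      rw [not_not] at h0
      exact h (by rw [← mem_level.1 hx, eq_neg_of_add_eq_zero_right h0])
  rw [h1, ← h2, card_filter_add_card_filter_not, card_level het ha]

theorem cyc_inv {a l : ZMod p} (ha : a ∈ roots p t) : cyc e a⁻¹ (l * a⁻¹) = cyc e a l := by
  have ha0 := ne_zero_of_mem_roots (t_pos het) ha
  have hx0 : ∀ {x : ZMod p} {b : ZMod p}, b ≠ 0 → x ^ e = b → x ≠ 0 := fun hb h h0 => by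
    rw [h0, zero_pow (e_pos het).ne'] at h
    exact hb h.symm
  refine card_bij' (fun x _ => x⁻¹) (fun x _ => x⁻¹) ?_ ?_ (fun x _ => inv_inv x) fun x _ => inv_inv x
  · intro x hx
    obtain ⟨h1, h2⟩ := mem_filter.1 hx
    rw [mem_level] at h1
    have hx := hx0 (inv_ne_zero ha0) h1
    refine mem_filter.2 ⟨mem_level.2 (by rw [inv_pow, h1, inv_inv]), ?_⟩
    rw [show 1 + x⁻¹ = (1 + x) * x⁻¹ by rw [add_mul, one_mul, mul_inv_cancel₀ hx, add_comm], mul_pow, h2,
      inv_pow, h1, inv_inv, mul_assoc, inv_mul_cancel₀ ha0, mul_one]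
  · intro x hx
    obtain ⟨h1, h2⟩ := mem_filter.1 hx
    rw [mem_level] at h1
    have hx := hx0 ha0 h1
    refine mem_filter.2 ⟨mem_level.2 (by rw [inv_pow, h1]), ?_⟩
    rw [show 1 + x⁻¹ = (1 + x) * x⁻¹ by rw [add_mul, one_mul, mul_inv_cancel₀ hx, add_comm], mul_pow, h2,
      inv_pow, h1]

omit het in
theorem cyc_swap {a l : ZMod p} : cyc e ((-1) ^ e * l) ((-1) ^ e * a) = cyc e a l := by
  have hσ : ((-1 : ZMod p) ^ e) * (-1) ^ e = 1 := by rw [← mul_pow, neg_one_mul, neg_neg, one_pow]
  refine card_bij' (fun x _ => -(1 + x)) (fun x _ => -(1 + x)) ?_ ?_ (fun x _ => by ring) fun x _ => by ring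
  · intro x hx
    obtain ⟨h1, h2⟩ := mem_filter.1 hx
    rw [mem_level] at h1
    refine mem_filter.2 ⟨mem_level.2 ?_, ?_⟩
    · rw [neg_pow, h2, ← mul_assoc, hσ, one_mul]
    · rw [show 1 + -(1 + x) = -x by ring, neg_pow, h1, ← mul_assoc, hσ, one_mul]
  · intro x hx
    obtain ⟨h1, h2⟩ := mem_filter.1 hx
    rw [mem_level] at h1
    refine mem_filter.2 ⟨mem_level.2 ?_, ?_⟩
    · rw [neg_pow, h2]
    · rw [show 1 + -(1 + x) = -x by ring, neg_pow, h1]

/-- The sum of the squares of all cyclotomic numbers. -/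
theorem sum_sq_cyc : (∑ a ∈ roots p t, ∑ l ∈ roots p t, cyc e a l ^ 2) + 3 * e = p + e ^ 2 := by
  classical
  have he := e_pos het
  set D : Finset (ZMod p) := univ.filter fun x => x ≠ 0 ∧ 1 + x ≠ 0 with hD
  set cl : ZMod p → ZMod p × ZMod p := fun x => (x ^ e, (1 + x) ^ e) with hcl
  have hne : ∀ {a x : ZMod p}, a ∈ roots p t → x ^ e = a → x ≠ 0 := fun ha h h0 =>
    ne_zero_of_mem_roots (t_pos het) ha (by rw [← h, h0, zero_pow he.ne'])
  have hfib : ∀ a ∈ roots p t, ∀ l ∈ roots p t,
      cyc e a l = (D.filter fun x => cl x = (a, l)).card := by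
    intro a ha l hl
    refine congrArg card ?_
    ext x
    simp only [mem_filter, mem_level, hD, hcl, mem_univ, true_and, Prod.mk.injEq]
    exact ⟨fun h => ⟨⟨hne ha h.1, hne hl h.2⟩, h⟩, fun h => h.2⟩
  -- pairs in one fibre
  set S := (D ×ˢ D).filter fun xy => cl xy.1 = cl xy.2 with hS
  have hSum : ∑ a ∈ roots p t, ∑ l ∈ roots p t, cyc e a l ^ 2 = S.card := by
    rw [← sum_product', card_eq_sum_card_fiberwise (f := fun xy : ZMod p × ZMod p => cl xy.1)
      (t := roots p t ×ˢ roots p t) fun xy hxy => ?_]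
    · refine sum_congr rfl fun al hal => ?_
      obtain ⟨ha, hl⟩ := mem_product.1 hal
      rw [hfib _ ha _ hl, sq, ← card_product]
      refine congrArg card ?_
      ext xy
      simp only [hS, mem_filter, mem_product, Prod.mk.eta]
      constructor
      · rintro ⟨⟨h1, e1⟩, h2, e2⟩; exact ⟨⟨⟨h1, h2⟩, e1.trans e2.symm⟩, e1⟩
      · rintro ⟨⟨⟨h1, h2⟩, e12⟩, e1⟩; exact ⟨⟨h1, e1⟩, h2, e12.symm.trans e1⟩
    · obtain ⟨h1, -⟩ := mem_filter.1 hxy
      obtain ⟨hx, hx'⟩ := (mem_filter.1 (mem_product.1 h1).1).2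
      exact mem_product.2 ⟨pow_mem_roots het hx, pow_mem_roots het hx'⟩
  have hdiag : (S.filter fun xy => xy.1 = xy.2).card = p - 2 := by
    have hDc : D.card = p - 2 := by
      have : D = (univ.erase (0 : ZMod p)).erase (-1) := by
        ext x
        simp only [hD, mem_filter, mem_univ, true_and, mem_erase, and_true, ne_eq,
          show (1 + x = 0) ↔ x = -1 from ⟨eq_neg_of_add_eq_zero_right, fun h => by rw [h, add_neg_cancel]⟩]
        tauto
      rw [this, card_erase_of_mem (mem_erase.2 ⟨neg_ne_zero.2 one_ne_zero, mem_univ _⟩),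
        card_erase_of_mem (mem_univ _), card_univ, ZMod.card, Nat.sub_sub]
    rw [← hDc]
    refine card_bij' (fun xy _ => xy.1) (fun x _ => (x, x)) ?_ ?_ ?_ fun x _ => rfl
    · intro xy hxy
      exact (mem_product.1 (mem_filter.1 (mem_filter.1 hxy).1).1).1
    · intro x hx
      exact mem_filter.2 ⟨mem_filter.2 ⟨mem_product.2 ⟨hx, hx⟩, rfl⟩, rfl⟩
    · rintro ⟨x, y⟩ hxy
      simpa using (mem_filter.1 hxy).2
  set E' := (level e (1 : ZMod p)).erase 1 with hE'
  have hoff : (S.filter fun xy => ¬ xy.1 = xy.2).card = E'.offDiag.card := by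
    refine card_bij' (fun xy _ => (xy.2 / xy.1, (1 + xy.2) / (1 + xy.1)))
      (fun vw _ => ((vw.2 - 1) / (vw.1 - vw.2), vw.1 * ((vw.2 - 1) / (vw.1 - vw.2)))) ?_ ?_ ?_ ?_
    · rintro ⟨x, y⟩ hxy
      simp only [hS, mem_filter, mem_product, hD, mem_univ, true_and, hcl, Prod.mk.injEq] at hxy
      obtain ⟨⟨⟨⟨hx, hx'⟩, hy, hy'⟩, h1, h2⟩, hne'⟩ := hxy
      simp only [mem_offDiag, hE', mem_erase, mem_level, div_pow, h1, h2, ne_eq,
        div_eq_one_iff_eq hx, div_eq_one_iff_eq hx', add_right_inj]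
      refine ⟨⟨Ne.symm hne', div_self (pow_ne_zero _ hy)⟩, ⟨Ne.symm hne', div_self (pow_ne_zero _ hy')⟩, ?_⟩
      intro h
      rw [div_eq_div_iff hx hx'] at h
      exact hne' (by linear_combination -h)
    · rintro ⟨v, w⟩ hvw
      simp only [mem_offDiag, hE', mem_erase, mem_level] at hvw
      obtain ⟨⟨hv1, hv⟩, ⟨hw1, hw⟩, hvw⟩ := hvw
      have hsub : v - w ≠ 0 := sub_ne_zero.2 hvw
      have hv0 : v ≠ 0 := fun h => by rw [h, zero_pow he.ne'] at hv; exact zero_ne_one hv
      have hw0 : w ≠ 0 := fun h => by rw [h, zero_pow he.ne'] at hw; exact zero_ne_one hw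
      set x := (w - 1) / (v - w) with hx
      have hx0 : x ≠ 0 := div_ne_zero (sub_ne_zero.2 hw1) hsub
      have hrel : 1 + v * x = w * (1 + x) := by
        have : x * (v - w) = w - 1 := div_mul_cancel₀ _ hsub
        linear_combination this
      have hx' : 1 + x ≠ 0 := fun h => by
        have h1 : x = -1 := eq_neg_of_add_eq_zero_right h
        rw [h1] at hrel
        exact hv1 (by linear_combination -hrel)
      simp only [hS, mem_filter, mem_product, hD, mem_univ, true_and, hcl, Prod.mk.injEq]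
      refine ⟨⟨⟨⟨hx0, hx'⟩, mul_ne_zero hv0 hx0, by rw [hrel]; exact mul_ne_zero hw0 hx'⟩, ?_, ?_⟩, ?_⟩
      · rw [mul_pow, hv, one_mul]
      · rw [hrel, mul_pow, hw, one_mul]
      · intro h
        exact hv1 (mul_right_cancel₀ hx0 (by rw [one_mul]; exact h.symm))
    · rintro ⟨x, y⟩ hxy
      simp only [hS, mem_filter, mem_product, hD, mem_univ, true_and] at hxy
      obtain ⟨⟨⟨⟨hx, hx'⟩, -⟩, -⟩, hne'⟩ := hxy
      have hsub : y / x - (1 + y) / (1 + x) ≠ 0 := by
        rw [sub_ne_zero, Ne, div_eq_div_iff hx hx']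
        exact fun h => hne' (by linear_combination -h)
      have key : ((1 + y) / (1 + x) - 1) / (y / x - (1 + y) / (1 + x)) = x := by
        rw [div_eq_iff hsub]; field_simp; ring
      simp only [key, Prod.mk.injEq, true_and]
      exact div_mul_cancel₀ y hx
    · rintro ⟨v, w⟩ hvw
      simp only [mem_offDiag, hE', mem_erase, mem_level] at hvw
      obtain ⟨⟨hv1, -⟩, ⟨hw1, -⟩, hvw⟩ := hvw
      have hsub : v - w ≠ 0 := sub_ne_zero.2 hvw
      set x := (w - 1) / (v - w) with hx
      have hx0 : x ≠ 0 := div_ne_zero (sub_ne_zero.2 hw1) hsub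
      have hrel : 1 + v * x = w * (1 + x) := by
        have : x * (v - w) = w - 1 := div_mul_cancel₀ _ hsub
        linear_combination this
      have hx' : 1 + x ≠ 0 := fun h => by
        have h1 : x = -1 := eq_neg_of_add_eq_zero_right h
        rw [h1] at hrel
        exact hv1 (by linear_combination -hrel)
      simp only [Prod.mk.injEq]
      exact ⟨mul_div_cancel_right₀ v hx0, by rw [hrel, mul_div_cancel_right₀ w hx']⟩
  have hE'c : E'.card = e - 1 := by
    rw [hE', card_erase_of_mem (mem_level.2 (one_pow e)), card_level het one_mem_roots]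
  rw [hSum, ← card_filter_add_card_filter_not (s := S) (fun xy : ZMod p × ZMod p => xy.1 = xy.2), hdiag, hoff,
    offDiag_card, hE'c]
  have h2 := (Fact.out : p.Prime).two_le
  obtain ⟨k, rfl⟩ : ∃ k, e = k + 1 := ⟨e - 1, by omega⟩
  simp only [Nat.add_sub_cancel]
  rcases k with _ | k
  · simp; omega
  · have : (k + 1) ≤ (k + 1) * (k + 1) := Nat.le_mul_of_pos_left _ (by omega)
    zify [this, h2]
    ring

/-- For odd `e`, the energy of the first row. -/
theorem sum_sq_one (hp2 : p ≠ 2) (hodd : Odd e) :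
    ∑ l ∈ roots p t, cyc e 1 l ^ 2 = e + ∑ l ∈ roots p t, cyc e (-1 : ZMod p) l ^ 2 := by
  classical
  have he := e_pos het
  have hneg : ((-1 : ZMod p)) ^ e = -1 := hodd.neg_one_pow
  have h2ne : (2 : ZMod p) ≠ 0 := fun h => hp2 ((Nat.prime_dvd_prime_iff_eq Fact.out Nat.prime_two).1
    ((ZMod.natCast_eq_zero_iff _ _).1 (by simpa using h)))
  have hne : ∀ {l x : ZMod p}, l ∈ roots p t → x ^ e = l → x ≠ 0 := fun hl h h0 =>
    ne_zero_of_mem_roots (t_pos het) hl (by rw [← h, h0, zero_pow he.ne'])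
  have hne2 : ∀ {x : ZMod p}, x ^ e = 1 → 1 + x ≠ 0 := fun {x} hx h0 => by
    rw [eq_neg_of_add_eq_zero_right h0, hneg] at hx
    exact h2ne (by linear_combination -hx)
  -- pairs in one row with equal sums
  set S : ZMod p → Finset (ZMod p × ZMod p) := fun a =>
    (((level e a).filter fun x => 1 + x ≠ 0) ×ˢ ((level e a).filter fun x => 1 + x ≠ 0)).filter
      fun xy => (1 + xy.1) ^ e = (1 + xy.2) ^ e with hSdef
  have hSum : ∀ a, ∑ l ∈ roots p t, cyc e a l ^ 2 = (S a).card := by
    intro a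
    rw [card_eq_sum_card_fiberwise (f := fun xy : ZMod p × ZMod p => (1 + xy.1) ^ e) (t := roots p t)
      fun xy hxy => pow_mem_roots het (mem_filter.1 (mem_product.1 (mem_filter.1 hxy).1).1).2]
    refine sum_congr rfl fun l hl => ?_
    rw [cyc, sq, ← card_product]
    refine congrArg card ?_
    ext xy
    simp only [hSdef, mem_filter, mem_product]
    constructor
    · rintro ⟨⟨h1, e1⟩, h2, e2⟩
      exact ⟨⟨⟨⟨h1, hne hl e1⟩, h2, hne hl e2⟩, e1.trans e2.symm⟩, e1⟩
    · rintro ⟨⟨⟨⟨h1, -⟩, h2, -⟩, e12⟩, e1⟩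
      exact ⟨⟨h1, e1⟩, h2, e12.symm.trans e1⟩
  rw [hSum, hSum, ← card_filter_add_card_filter_not (s := S 1) (fun xy : ZMod p × ZMod p => xy.1 = xy.2)]
  congr 1
  · refine Eq.trans ?_ (card_level het (one_mem_roots (p := p) (t := t)))
    refine card_bij' (fun xy _ => xy.1) (fun x _ => (x, x)) ?_ ?_ ?_ fun x _ => rfl
    · intro xy hxy
      exact (mem_filter.1 (mem_product.1 (mem_filter.1 (mem_filter.1 hxy).1).1).1).1
    · intro x hx
      have h : x ∈ (level e (1 : ZMod p)).filter fun x => 1 + x ≠ 0 :=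
        mem_filter.2 ⟨hx, hne2 (mem_level.1 hx)⟩
      exact mem_filter.2 ⟨mem_filter.2 ⟨mem_product.2 ⟨h, h⟩, rfl⟩, rfl⟩
    · rintro ⟨x, y⟩ hxy
      simpa using (mem_filter.1 hxy).2
  have key : ∀ {u v : ZMod p}, u ^ e = -1 → v ^ e = -1 → 1 + u ≠ 0 → 1 + v ≠ 0 →
      (1 + u) ^ e = (1 + v) ^ e →
      ∀ m, m = (1 + u) / (1 + v) →
        (-v * m) ^ e = 1 ∧ (m / -u) ^ e = 1 ∧ 1 + -v * m = -u * (1 + m / -u) := by
    intro u v hu hv hu' hv' huv m hm
    have hu0 : u ≠ 0 := fun h => by rw [h, zero_pow he.ne'] at hu; exact neg_ne_zero.2 one_ne_zero hu.symm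
    have hme : m ^ e = 1 := by rw [hm, div_pow, huv, div_self (pow_ne_zero _ hv')]
    refine ⟨by rw [mul_pow, neg_pow, hneg, hv, hme, neg_one_mul, neg_neg, one_mul],
      by rw [div_pow, hme, neg_pow, hneg, hu, neg_one_mul, neg_neg, div_one], ?_⟩
    have hrel : 1 + u = m * (1 + v) := by rw [hm, div_mul_cancel₀ _ hv']
    rw [mul_add, mul_one, mul_div_cancel₀ m (neg_ne_zero.2 hu0)]
    linear_combination hrel
  refine card_bij' (fun xy _ => (-((1 + xy.1) / (1 + xy.2)), -(xy.1 / ((1 + xy.1) / (1 + xy.2) * xy.2))))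
    (fun uv _ => (-uv.2 * ((1 + uv.1) / (1 + uv.2)), (1 + uv.1) / (1 + uv.2) / (-uv.1))) ?_ ?_ ?_ ?_
  · rintro ⟨x, y⟩ hxy
    simp only [hSdef, mem_filter, mem_product, mem_level] at hxy ⊢
    obtain ⟨⟨⟨⟨hx, hx'⟩, hy, hy'⟩, hxy⟩, hne'⟩ := hxy
    have hy0 : y ≠ 0 := hne one_mem_roots hy
    set k := (1 + x) / (1 + y) with hk
    have hke : k ^ e = 1 := by rw [hk, div_pow, hxy, div_self (pow_ne_zero _ hy')]
    have hk0 : k ≠ 0 := div_ne_zero hx' hy'
    have hrel : 1 + x = k * (1 + y) := (div_mul_cancel₀ _ hy').symm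
    have hk1 : 1 + -k ≠ 0 := fun h => hne' (by
      have h1 : k = 1 := by linear_combination -h
      rw [h1, one_mul] at hrel
      exact add_left_cancel hrel)
    have hky0 : k * y ≠ 0 := mul_ne_zero hk0 hy0
    have hv : 1 + -(x / (k * y)) = (1 + -k) / (k * y) := by
      rw [eq_div_iff hky0, add_mul, one_mul, neg_mul, div_mul_cancel₀ x hky0]
      linear_combination -hrel
    have hky : (k * y) ^ e = 1 := by rw [mul_pow, hke, hy, one_mul]
    refine ⟨⟨⟨by rw [neg_pow, hke, hneg, mul_one], hk1⟩, ?_, ?_⟩, ?_⟩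
    · rw [neg_pow, div_pow, hx, hky, hneg, div_one, mul_one]
    · rw [hv]; exact div_ne_zero hk1 hky0
    · rw [hv, div_pow, hky, div_one]
  · rintro ⟨u, v⟩ huv
    simp only [hSdef, mem_filter, mem_product, mem_level] at huv ⊢
    obtain ⟨⟨⟨hu, hu'⟩, hv, hv'⟩, huv⟩ := huv
    have hu0 : u ≠ 0 := fun h => by rw [h, zero_pow he.ne'] at hu; exact neg_ne_zero.2 one_ne_zero hu.symm
    obtain ⟨hx, hy, hsum⟩ := key hu hv hu' hv' huv _ rfl
    refine ⟨⟨⟨⟨hx, hne2 hx⟩, hy, hne2 hy⟩, ?_⟩, ?_⟩
    · rw [hsum, mul_pow, neg_pow, hneg, hu, neg_one_mul, neg_neg, one_mul]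
    · intro h
      rw [h] at hsum
      have h4 : (1 + u) * (1 + (1 + u) / (1 + v) / -u) = 0 := by linear_combination hsum
      exact mul_ne_zero hu' (hne2 hy) h4
  · rintro ⟨x, y⟩ hxy
    simp only [hSdef, mem_filter, mem_product, mem_level] at hxy
    obtain ⟨⟨⟨⟨hx, hx'⟩, hy, hy'⟩, hxy⟩, hne'⟩ := hxy
    have hy0 : y ≠ 0 := hne one_mem_roots hy
    set k := (1 + x) / (1 + y) with hk
    have hk0 : k ≠ 0 := div_ne_zero hx' hy'
    have hky0 : k * y ≠ 0 := mul_ne_zero hk0 hy0
    have hrel : 1 + x = k * (1 + y) := (div_mul_cancel₀ _ hy').symm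
    have hk1 : 1 + -k ≠ 0 := fun h => hne' (by
      have h1 : k = 1 := by linear_combination -h
      rw [h1, one_mul] at hrel
      exact add_left_cancel hrel)
    have hv : 1 + -(x / (k * y)) = (1 + -k) / (k * y) := by
      rw [eq_div_iff hky0, add_mul, one_mul, neg_mul, div_mul_cancel₀ x hky0]
      linear_combination -hrel
    have hm : (1 + -k) / (1 + -(x / (k * y))) = k * y := by rw [hv, div_div_cancel₀ hk1]
    simp only [hm, neg_neg, Prod.mk.injEq]
    exact ⟨div_mul_cancel₀ x hky0, mul_div_cancel_left₀ y hk0⟩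
  · rintro ⟨u, v⟩ huv
    simp only [hSdef, mem_filter, mem_product, mem_level] at huv
    obtain ⟨⟨⟨hu, hu'⟩, hv, hv'⟩, huv⟩ := huv
    have hu0 : u ≠ 0 := fun h => by rw [h, zero_pow he.ne'] at hu; exact neg_ne_zero.2 one_ne_zero hu.symm
    obtain ⟨hx, hy, hsum⟩ := key hu hv hu' hv' huv _ rfl
    have hk : (1 + -v * ((1 + u) / (1 + v))) / (1 + (1 + u) / (1 + v) / -u) = -u := by
      rw [hsum, mul_div_cancel_right₀ _ (hne2 hy)]
    have hm0 : (1 + u) / (1 + v) ≠ 0 := div_ne_zero hu' hv'
    simp only [hk, neg_neg, Prod.mk.injEq, true_and]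
    rw [mul_div_cancel₀ _ (neg_ne_zero.2 hu0), mul_div_cancel_right₀ _ hm0, neg_neg]

/-- All cyclotomic numbers cannot be at least `q` with small row excess. -/
theorem false_of_le_cyc {q r : ℕ} (hr : r + 1 < t) (hre : r + 1 ≤ e) (heq : e = q * t + r)
    (hge : ∀ a ∈ roots p t, ∀ l ∈ roots p t, q ≤ cyc e a l) : False := by
  classical
  have he := e_pos het
  have ht := t_pos het
  set E := level e (1 : ZMod p) with hE
  let F : (ZMod p)[X][X] := ∏ v ∈ E, (1 - C ((1 + C v * X) ^ e) * X)
  have hdeg : ∀ (s : Finset (ZMod p)) (i : ℕ),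
      ((∏ v ∈ s, (1 - C ((1 + C v * X : (ZMod p)[X]) ^ e) * X)).coeff i).natDegree ≤ e * i := by
    intro s
    induction s using Finset.induction with
    | empty =>
      intro i
      simp only [prod_empty, coeff_one]
      split_ifs <;> simp
    | insert v s hv ih =>
      intro i
      rw [prod_insert hv, coeff_mul]
      refine natDegree_sum_le_of_forall_le _ _ fun jk hjk => natDegree_mul_le.trans ?_
      have h1 : ((1 - C ((1 + C v * X : (ZMod p)[X]) ^ e) * X).coeff jk.1).natDegree ≤ e * jk.1 := by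
        rcases Nat.lt_trichotomy jk.1 1 with h | h | h
        · rw [Nat.lt_one_iff.1 h]; simp
        · rw [h, coeff_sub, coeff_C_mul, coeff_X_one, coeff_one, if_neg one_ne_zero, mul_one, zero_sub,
            natDegree_neg, mul_one]
          refine natDegree_pow_le.trans ?_
          refine (Nat.mul_le_mul_left e ?_).trans (mul_one e).le
          exact (natDegree_add_le _ _).trans (max_le (by simp) ((natDegree_C_mul_le _ _).trans natDegree_X_le))
        · rw [coeff_sub, coeff_C_mul, coeff_X, coeff_one, if_neg (by omega), if_neg (by omega)]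
          simp
      calc _ ≤ e * jk.1 + e * jk.2 := add_le_add h1 (ih _)
        _ = e * i := by rw [← mul_add, mem_antidiagonal.1 hjk]
  set Q := F.coeff (r + 1) with hQ
  -- every unit is a root
  have hroot : ∀ g : ZMod p, g ≠ 0 → Q.eval g = 0 := by
    intro g hg
    set a := g ^ e with ha'
    have ha : a ∈ roots p t := pow_mem_roots het hg
    have h1 : F.map (evalRingHom g) = ∏ l ∈ roots p t, (1 - C l * X) ^ cyc e a l := by
      have e1 : F.map (evalRingHom g) = ∏ x ∈ level e a, (1 - C ((1 + x) ^ e) * X) := by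
        rw [Polynomial.map_prod]
        refine prod_bij' (fun v _ => g * v) (fun x _ => x / g) ?_ ?_ ?_ ?_ ?_
        · exact fun v hv => mem_level.2 (by rw [mul_pow, mem_level.1 hv, mul_one])
        · exact fun x hx => mem_level.2 (by rw [div_pow, mem_level.1 hx, div_self (pow_ne_zero _ hg)])
        · exact fun v _ => mul_div_cancel_left₀ v hg
        · exact fun x _ => mul_div_cancel₀ x hg
        · intro v _
          simp
          ring
      rw [e1, ← prod_filter_of_ne (p := fun x => 1 + x ≠ 0) (fun x _ hx h0 => hx (by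
        rw [h0, zero_pow he.ne', C_0, zero_mul, sub_zero])),
        ← prod_fiberwise_of_maps_to (g := fun x : ZMod p => (1 + x) ^ e) (t := roots p t)
          (fun x hx => pow_mem_roots het (mem_filter.1 hx).2)]
      refine prod_congr rfl fun l hl => ?_
      rw [cyc, prod_congr rfl fun x hx => by rw [(mem_filter.1 hx).2], prod_const]
      congr 2
      ext x
      simp only [mem_filter]
      refine ⟨fun h => ⟨h.1.1, h.2⟩, fun h => ⟨⟨h.1, fun h0 => ne_zero_of_mem_roots ht hl ?_⟩, h.2⟩⟩
      rw [← h.2, h0, zero_pow he.ne']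
    have h2 : ∏ l ∈ roots p t, (1 - C l * X) = 1 - (X : (ZMod p)[X]) ^ t := by
      have hset : nthRootsFinset t (1 : ZMod p) = roots p t := by
        ext x; rw [mem_nthRootsFinset ht, mem_roots]
      obtain ⟨z, hz⟩ : ∃ z : ZMod p, IsPrimitiveRoot z t := by
        haveI : NeZero ((t : ℕ) : ZMod p) := ⟨fun h => by
          have hd := Nat.le_of_dvd ht ((ZMod.natCast_eq_zero_iff _ _).1 h)
          have : 1 * t ≤ e * t := Nat.mul_le_mul_right t he
          have := (Fact.out : p.Prime).two_le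
          omega⟩
        obtain ⟨u, hu⟩ := IsCyclic.exists_generator (α := (ZMod p)ˣ)
        have hou : orderOf u = p - 1 := by
          rw [orderOf_eq_card_of_forall_mem_zpowers hu, Nat.card_eq_fintype_card, ZMod.card_units]
        have h3 : IsPrimitiveRoot (u : ZMod p) (p - 1) :=
          IsPrimitiveRoot.coe_units_iff.2 (hou ▸ IsPrimitiveRoot.orderOf u)
        exact ⟨_, h3.pow (by have := (Fact.out : p.Prime).two_le; omega) het.symm⟩
      have hX : (X : (ZMod p)[X]) ^ t - 1 = ∏ l ∈ roots p t, (X - C l) := by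
        rw [← hset]; exact X_pow_sub_one_eq_prod ht hz
      have e1 : ∏ l ∈ roots p t, (1 - C l * X) =
          C (∏ l ∈ roots p t, -l) * ((X : (ZMod p)[X]) ^ t - 1) := by
        rw [hX, map_prod,
          show ∏ l ∈ roots p t, (X - C l) = ∏ l ∈ roots p t, (X - C l⁻¹) from
            prod_bij' (fun l _ => l⁻¹) (fun l _ => l⁻¹) (fun l hl => inv_mem_roots hl)
              (fun l hl => inv_mem_roots hl) (fun l _ => inv_inv l) (fun l _ => inv_inv l)
              fun l _ => by rw [inv_inv],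
          ← prod_mul_distrib]
        refine prod_congr rfl fun l hl => ?_
        rw [mul_sub, C_neg, neg_mul, neg_mul, sub_neg_eq_add, ← C_mul,
          mul_inv_cancel₀ (ne_zero_of_mem_roots ht hl), C_1]
        ring
      have hc := congrArg (Polynomial.eval 0) e1
      simp only [eval_prod, eval_sub, eval_one, eval_mul, eval_C, eval_X, eval_pow, mul_zero,
        zero_pow ht.ne', zero_sub, sub_zero, prod_const_one] at hc
      rw [e1, show (∏ l ∈ roots p t, -l) = -1 by linear_combination hc, C_neg, C_1]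
      ring
    have h3 : F.map (evalRingHom g) =
        (1 - X ^ t) ^ q * ∏ l ∈ roots p t, (1 - C l * X) ^ (cyc e a l - q) := by
      rw [h1, ← h2, ← prod_pow, ← prod_mul_distrib]
      exact prod_congr rfl fun l hl => by rw [← pow_add, Nat.add_sub_cancel' (hge a ha l hl)]
    have h4 : (∏ l ∈ roots p t, (1 - C l * X : (ZMod p)[X]) ^ (cyc e a l - q)).natDegree ≤ r := by
      refine (natDegree_prod_le _ _).trans ?_
      have hsum := sum_cyc het ha
      have hsub : ∑ l ∈ roots p t, (cyc e a l - q) + t * q = ∑ l ∈ roots p t, cyc e a l := by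
        rw [show t * q = ∑ _l ∈ roots p t, q by rw [sum_const, smul_eq_mul, card_roots het],
          ← sum_add_distrib]
        exact sum_congr rfl fun l hl => Nat.sub_add_cancel (hge a ha l hl)
      have : ∑ l ∈ roots p t, ((1 - C l * X : (ZMod p)[X]) ^ (cyc e a l - q)).natDegree ≤
          ∑ l ∈ roots p t, (cyc e a l - q) := by
        refine sum_le_sum fun l _ => natDegree_pow_le.trans ?_
        refine (Nat.mul_le_mul_left _ ?_).trans (mul_one _).le
        exact (natDegree_sub_le _ _).trans (max_le (by simp) ((natDegree_C_mul_le _ _).trans natDegree_X_le))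
      rw [mul_comm t q] at hsub
      omega
    have h5 : (F.map (evalRingHom g)).coeff (r + 1) = 0 := by
      rw [h3]
      obtain ⟨H, hH⟩ : (X : (ZMod p)[X]) ^ t ∣ (1 - X ^ t) ^ q - 1 := by
        have := sub_dvd_pow_sub_pow (1 - (X : (ZMod p)[X]) ^ t) 1 q
        rw [one_pow, show (1 - (X : (ZMod p)[X]) ^ t) - 1 = -X ^ t by ring] at this
        exact neg_dvd.1 this
      rw [sub_eq_iff_eq_add.1 hH, add_mul, one_mul, mul_assoc, coeff_add, coeff_X_pow_mul',
        if_neg (by omega), zero_add]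
      exact coeff_eq_zero_of_natDegree_lt (by omega)
    rwa [coeff_map, coe_evalRingHom] at h5
  -- the constant term is a binomial coefficient
  have hzero : Q = 0 := by
    have hle : Q.natDegree < (univ.erase (0 : ZMod p)).card := by
      rw [card_erase_of_mem (mem_univ _), card_univ, ZMod.card, ← het]
      exact (hdeg E (r + 1)).trans_lt (Nat.mul_lt_mul_of_pos_left hr he)
    exact eq_zero_of_natDegree_lt_card_of_eval_eq_zero' Q (univ.erase 0)
      (fun g hg => hroot g (ne_of_mem_erase hg)) hle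
  have h6 : (F.map (evalRingHom (0 : ZMod p))).coeff (r + 1) = 0 := by
    rw [coeff_map, ← hQ, hzero, map_zero]
  have h7 : F.map (evalRingHom (0 : ZMod p)) = (1 - X : (ZMod p)[X]) ^ e := by
    rw [Polynomial.map_prod]
    refine (prod_congr rfl fun v _ => ?_).trans
      ((prod_const _).trans (by rw [card_level het one_mem_roots]))
    simp
  rw [h7, show (1 - X : (ZMod p)[X]) = C (-1) * (X + C (-1)) by rw [C_neg, C_1]; ring, mul_pow, ← C_pow,
    coeff_C_mul, coeff_X_add_C_pow] at h6
  have h8 : ((e.choose (r + 1) : ℕ) : ZMod p) = 0 := by simpa using h6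
  have hd : p ∣ e.factorial := by
    rw [← Nat.choose_mul_factorial_mul_factorial hre]
    exact Dvd.dvd.mul_right (Dvd.dvd.mul_right ((ZMod.natCast_eq_zero_iff _ _).1 h8) _) _
  exact absurd ((Nat.Prime.dvd_factorial Fact.out).1 hd) (not_le.2 (e_lt het))

end Setting

end CfsgLib.Char.FeitSmall
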