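import Cfsg.Agent.Lib.Char.HalfDegree.FixedTrace
import Cfsg.Agent.Lib.Char.HalfDegree.SylowPrime

/-!
# Maps commuting with the normalizer of a subgroup of order `p`

The coset sum of such a map agrees with it on the fixed space of `x` modulo the image of the top power
of `x - 1`, and every eigenvector of the normalizer in that fixed space has an equivariant retraction.
-/

set_option autoImplicit false
set_option maxHeartbeats 800000

namespace CfsgLib.Char.FeitSmall

open CfsgLib.Char.HalfDegree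
open scoped _root_.Classical

section Trace

variable {k : Type*} [Field k] {G : Type*} [Group G] [Finite G]
  {W W' : Type*} [AddCommGroup W] [Module k W] [AddCommGroup W'] [Module k W']
  {ρ : G →* Module.End k W} {ρ' : G →* Module.End k W'} {N : Subgroup G} {φ : W →ₗ[k] W'}
  {p : ℕ} [Fact p.Prime] [CharP k p] {x : G}

/-- The coset sum on a fixed vector. -/
theorem cosetTrace_sub_mem_range (hφ : ∀ n ∈ N, φ ∘ₗ ρ n = ρ' n ∘ₗ φ) (hx : orderOf x = p) (hxN : x ∈ N)
    (hfix : ∀ g : G, g⁻¹ * x * g ∈ N → g ∈ N) {w₀ : W} (hw₀ : ρ x w₀ = w₀) :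
    cosetTrace ρ ρ' N φ w₀ - φ w₀ ∈ LinearMap.range ((ρ' x - 1) ^ (p - 1)) := by
  classical
  have hp : p.Prime := Fact.out
  set D := cosetTrace ρ ρ' N φ - φ with hD
  show D w₀ ∈ _
  have hw₀' : ∀ i : ℕ, ρ (x ^ i)⁻¹ w₀ = w₀ := by
    intro i
    have hi : ρ (x ^ i) w₀ = w₀ := by
      induction i with
      | zero => simp
      | succ i ih => rw [pow_succ, map_mul, Module.End.mul_apply, hw₀, ih]
    conv_lhs => rw [← hi]
    rw [← Module.End.mul_apply, ← map_mul, inv_mul_cancel, map_one, Module.End.one_apply]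
  letI := Fintype.ofFinite (G ⧸ N)
  set F : G ⧸ N → W' := fun q => ρ' q.out (φ (ρ q.out⁻¹ w₀)) with hF
  have hFrep : ∀ g : G, F (g : G ⧸ N) = ρ' g (φ (ρ g⁻¹ w₀)) := fun g =>
    congrArg (fun f : W →ₗ[k] W' => f w₀) (conj_out hφ g)
  have hFpow : ∀ (i : ℕ) q, F (x ^ i • q) = ((ρ' x) ^ i) (F q) := by
    intro i q
    induction q using QuotientGroup.induction_on with | _ g =>
    rw [show x ^ i • ((g : G) : G ⧸ N) = ((x ^ i * g : G) : G ⧸ N) from rfl, hFrep, hFrep, map_mul,
      mul_inv_rev, map_mul ρ, Module.End.mul_apply, Module.End.mul_apply, hw₀', map_pow]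
  set q₀ : G ⧸ N := ((1 : G) : G ⧸ N)
  have hq₀ : x • q₀ = q₀ := QuotientGroup.eq.2 (by simpa using N.inv_mem hxN)
  have hfree : ∀ i < p, ∀ l < p, ∀ q : G ⧸ N, q ≠ q₀ → x ^ i • q = x ^ l • q → i = l := by
    intro i hi l hl q hq he
    by_contra hne
    apply hq
    obtain ⟨g, rfl⟩ := QuotientGroup.mk_surjective q
    have hst : x ∈ MulAction.stabilizer G ((g : G) : G ⧸ N) := by
      have hm : (x ^ l)⁻¹ * x ^ i ∈ MulAction.stabilizer G ((g : G) : G ⧸ N) := by
        rw [MulAction.mem_stabilizer_iff, mul_smul, he, inv_smul_smul]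
      rw [← zpow_natCast, ← zpow_natCast, ← zpow_neg, ← zpow_add] at hm
      have hle : Subgroup.zpowers (x ^ (-(l : ℤ) + i)) ≤ _ := Subgroup.zpowers_le.2 hm
      refine hle ?_
      have hcop : (p : ℤ).natAbs.Coprime (-(l : ℤ) + i).natAbs := by
        rw [Int.natAbs_natCast, hp.coprime_iff_not_dvd]
        intro hd
        have := Nat.le_of_dvd (by omega) hd
        omega
      obtain ⟨a, b, hab⟩ := Int.isCoprime_iff_nat_coprime.2 hcop
      refine ⟨b, ?_⟩
      show (x ^ (-(l : ℤ) + i)) ^ b = x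
      rw [← zpow_mul, show (-(l : ℤ) + i) * b = 1 + (p : ℤ) * (-a) by linear_combination hab, zpow_add,
        zpow_one, zpow_mul, zpow_natCast, ← hx, pow_orderOf_eq_one, one_zpow, mul_one]
    have hmem : g⁻¹ * x * g ∈ N := by
      have h := QuotientGroup.eq.1 (show ((x * g : G) : G ⧸ N) = (g : G ⧸ N) from hst)
      simpa [mul_assoc] using N.inv_mem h
    exact QuotientGroup.eq.2 (by simpa using hfix g hmem)
  let r := MulAction.orbitRel (Subgroup.zpowers x) (G ⧸ N)
  let c : G ⧸ N → k := fun q => if q ≠ q₀ ∧ (Quotient.mk r q).out = q then 1 else 0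
  have hne0 : ∀ (i : ℕ) q, q ≠ q₀ → x ^ i • q ≠ q₀ := by
    intro i q hq he
    refine hq ?_
    have hi : x ^ i • q₀ = q₀ := by
      exact MulAction.mem_stabilizer_iff.1 (pow_mem (MulAction.mem_stabilizer_iff.2 hq₀) i)
    exact smul_left_cancel (x ^ i) (he.trans hi.symm)
  have hc : ∀ q, ∑ i ∈ Finset.range p, c (x ^ i • q) = if q = q₀ then 0 else 1 := by
    intro q
    by_cases hq : q = q₀
    · subst hq
      rw [if_pos rfl]
      refine Finset.sum_eq_zero fun i _ => if_neg fun h => h.1 ?_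
      exact MulAction.mem_stabilizer_iff.1 (pow_mem (MulAction.mem_stabilizer_iff.2 hq₀) i)
    rw [if_neg hq]
    have horb : ∀ i : ℕ, Quotient.mk r (x ^ i • q) = Quotient.mk r q := fun i =>
      Quotient.sound ⟨⟨x ^ i, Subgroup.npow_mem_zpowers x i⟩, rfl⟩
    obtain ⟨⟨z, hz⟩, hzq⟩ := Quotient.mk_out (s := r) q
    obtain ⟨i₀, hi₀, rfl⟩ : ∃ i < p, x ^ i = z := by
      have hz' := (isOfFinOrder_of_finite x).mem_zpowers_iff_mem_range_orderOf.1 hz
      rw [hx, Finset.mem_image] at hz'
      obtain ⟨i, hi, e⟩ := hz'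
      exact ⟨i, Finset.mem_range.1 hi, e⟩
    replace hzq : x ^ i₀ • q = (Quotient.mk r q).out := hzq
    rw [Finset.sum_eq_single i₀]
    · exact if_pos ⟨hne0 _ _ hq, by rw [horb]; exact hzq.symm⟩
    · intro l hl hne
      refine if_neg fun h => hne ?_
      refine hfree l (Finset.mem_range.1 hl) i₀ hi₀ q hq ?_
      rw [← h.2, horb, hzq]
    · exact fun h => absurd (Finset.mem_range.2 hi₀) h
  have hsum : D w₀ = ∑ q, ∑ i ∈ Finset.range p, c (x ^ i • q) • F q := by
    rw [Finset.sum_congr rfl fun q _ => (Finset.sum_smul.symm.trans (by rw [hc]))]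
    simp only [ite_smul, zero_smul, one_smul, Finset.sum_ite, Finset.sum_const_zero, zero_add]
    rw [hD, LinearMap.sub_apply, cosetTrace, LinearMap.sum_apply,
      ← Finset.sum_filter_add_sum_filter_not Finset.univ (fun q => q = q₀)]
    simp only [Finset.filter_eq', Finset.mem_univ, if_true, Finset.sum_singleton, LinearMap.comp_apply]
    change F q₀ + _ - φ w₀ = _
    rw [show F q₀ = φ w₀ by rw [hFrep]; simp, add_sub_cancel_left]
  rw [hsum, Finset.sum_comm]
  have hrot : ∀ i ∈ Finset.range p, ∑ q, c (x ^ i • q) • F q =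
      ((ρ' x) ^ ((p - i) % p)) (∑ q, c q • F q) := by
    intro i hi
    rw [map_sum]
    refine Fintype.sum_equiv (MulAction.toPerm (x ^ i)) _ _ fun q => ?_
    simp only [MulAction.toPerm_apply, map_smul, hFpow, ← Module.End.mul_apply, ← pow_add]
    rw [← map_pow, show x ^ ((p - i) % p + i) = 1 by
      rw [pow_eq_pow_mod _ (by rw [← hx, pow_orderOf_eq_one] : x ^ p = 1), Nat.mod_add_mod,
        Nat.sub_add_cancel (Finset.mem_range.1 hi).le, Nat.mod_self, pow_zero],
      map_one, Module.End.one_apply]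
  rw [Finset.sum_congr rfl hrot, ← LinearMap.sum_apply]
  have he : ∑ i ∈ Finset.range p, (ρ' x) ^ ((p - i) % p) = ∑ i ∈ Finset.range p, (ρ' x) ^ i := by
    refine Finset.sum_nbij' (fun i => (p - i) % p) (fun i => (p - i) % p) ?_ ?_ ?_ ?_ fun i _ => rfl
    · exact fun i _ => Finset.mem_range.2 (Nat.mod_lt _ hp.pos)
    · exact fun i _ => Finset.mem_range.2 (Nat.mod_lt _ hp.pos)
    all_goals
      intro i hi
      replace hi : i < p := Finset.mem_range.1 (by exact_mod_cast hi)
      rcases Nat.eq_zero_or_pos i with rfl | h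
      · simp
      · simp only [Nat.mod_eq_of_lt (show p - i < p by omega), Nat.sub_sub_self hi.le, Nat.mod_eq_of_lt hi]
  rw [he, ← sub_one_pow_eq_geom (k := k) hp]
  exact LinearMap.mem_range_self _ _

end Trace

section Retraction

variable {k : Type*} [Field k] {p : ℕ} [Fact p.Prime] [CharP k p] {G : Type*} [Group G] [Finite G]
  {W : Type*} [AddCommGroup W] [Module k W]

/-- An eigenvector of the normalizer fixed by `x` has a retraction commuting with the normalizer. -/
theorem exists_retraction (hsq : ¬ p ^ 2 ∣ Nat.card G) {x : G} (hx : orderOf x = p)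
    (τ : G →* Module.End k W) {v : W} (hv : v ≠ 0) (hfix : τ x v = v)
    (heig : ∀ n ∈ Subgroup.normalizer (Subgroup.zpowers x : Set G), ∃ s : k, τ n v = s • v) :
    ∃ φ : Module.End k W,
      (∀ n ∈ Subgroup.normalizer (Subgroup.zpowers x : Set G), φ ∘ₗ τ n = τ n ∘ₗ φ) ∧ φ v = v ∧
      ∀ w, τ x w = w → ∃ r : k, φ w = r • v := by
  classical
  set N := Subgroup.normalizer (Subgroup.zpowers x : Set G) with hN
  set U := τ x - 1 with hUdef
  have hUv : U v = 0 := by rw [hUdef, LinearMap.sub_apply, hfix, Module.End.one_apply, sub_self]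
  have hUp : U ^ p = 0 := by
    haveI : Nontrivial (Module.End k W) := ⟨1, 0, fun h => hv (by simpa using LinearMap.congr_fun h v)⟩
    haveI : CharP (Module.End k W) p :=
      charP_of_injective_algebraMap (RingHom.injective (algebraMap k (Module.End k W))) p
    rw [hUdef, sub_pow_char_of_commute p (Commute.one_right (τ x)), ← map_pow, ← hx, pow_orderOf_eq_one,
      map_one, one_pow, sub_self]
  -- the last power with `v` in its image
  have hex : ∃ n, v ∉ LinearMap.range (U ^ n) := ⟨p, by rw [hUp]; simpa using hv⟩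
  obtain ⟨n, w₁, hw₁, hnot⟩ : ∃ n : ℕ, ∃ w, (U ^ n) w = v ∧ v ∉ LinearMap.range (U ^ (n + 1)) := by
    rcases h : Nat.find hex with _ | n
    · have h' := Nat.find_spec hex
      rw [h, pow_zero] at h'
      exact absurd ⟨v, rfl⟩ h'
    · obtain ⟨w, hw⟩ := not_not.1 (Nat.find_min hex (m := n) (by omega))
      exact ⟨n, w, hw, h ▸ Nat.find_spec hex⟩
  obtain ⟨lam, hlam0, hlam⟩ := Submodule.exists_dual_map_eq_bot_of_notMem hnot inferInstance
  set mu : W →ₗ[k] k := (lam v)⁻¹ • lam with hmu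
  have hmuv : mu v = 1 := inv_mul_cancel₀ hlam0
  have hmu0 : ∀ w, mu ((U ^ (n + 1)) w) = 0 := fun w => by
    rw [hmu, LinearMap.smul_apply, (Submodule.eq_bot_iff _).1 hlam _ (Submodule.mem_map_of_mem ⟨w, rfl⟩),
      smul_zero]
  set φ₀ : Module.End k W :=
    ∑ s ∈ Finset.range (n + 1), (mu ∘ₗ (U ^ (n - s))).smulRight ((U ^ s) w₁) with hφ₀
  have hφ₀apply : ∀ w, φ₀ w = ∑ s ∈ Finset.range (n + 1), mu ((U ^ (n - s)) w) • (U ^ s) w₁ := fun w => by
    simp [hφ₀, LinearMap.sum_apply]
  have hφ₀U : Commute φ₀ U := by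
    refine LinearMap.ext fun w => ?_
    rw [Module.End.mul_apply, Module.End.mul_apply, hφ₀apply, hφ₀apply, map_sum]
    simp only [map_smul, ← Module.End.mul_apply (U ^ _) U, ← Module.End.mul_apply U (U ^ _), ← pow_succ,
      ← pow_succ']
    rw [Finset.sum_range_succ', Finset.sum_range_succ (fun s => mu ((U ^ (n - s)) w) • (U ^ (s + 1)) w₁),
      Nat.sub_zero, hmu0, zero_smul, pow_succ' U n, Module.End.mul_apply U, hw₁, hUv, smul_zero]
    congr 1
    refine Finset.sum_congr rfl fun s hs => ?_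
    rw [show n - (s + 1) + 1 = n - s by have := Finset.mem_range.1 hs; omega]
  have hφ₀fix : ∀ w, τ x w = w → φ₀ w = mu w • v := by
    intro w hw
    have hU0 : ∀ i, 1 ≤ i → (U ^ i) w = 0 := fun i hi => by
      obtain ⟨i, rfl⟩ := Nat.exists_eq_add_of_le' hi
      rw [pow_succ, Module.End.mul_apply, hUdef, LinearMap.sub_apply, hw, Module.End.one_apply, sub_self,
        map_zero]
    rw [hφ₀apply, Finset.sum_eq_single n]
    · rw [Nat.sub_self, pow_zero, Module.End.one_apply, hw₁]
    · intro s hs hne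
      rw [hU0 _ (by have := Finset.mem_range.1 hs; omega), map_zero, zero_smul]
    · exact fun h => absurd (Finset.mem_range.2 (Nat.lt_succ_self n)) h
  have hφ₀x : ∀ i : ℕ, Commute φ₀ ((τ x) ^ i) := fun i => by
    refine Commute.pow_right ?_ i
    have : τ x = 1 + U := by rw [hUdef]; abel
    rw [this]
    exact (Commute.one_right _).add_right hφ₀U
  -- averaging
  obtain ⟨H, hHp, hHN, hHgen⟩ := exists_complement_normalizer hsq hx
  letI := Fintype.ofFinite H
  set cH : k := ((Fintype.card H : ℕ) : k) with hcH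
  have hcH0 : cH ≠ 0 := by
    rw [hcH, ← Nat.card_eq_fintype_card, Ne, CharP.cast_eq_zero_iff k p]; exact hHp
  set φ : Module.End k W := cH⁻¹ • ∑ h : H, τ (h : G) * φ₀ * τ ((h : G)⁻¹) with hφ
  have hstab : ∀ g ∈ N, ∀ w, τ x w = w → τ x (τ g w) = τ g w := by
    intro g hg w hw
    obtain ⟨b, -, hb⟩ := exists_exponent hx (N.inv_mem hg)
    have hgx : x * g = g * x ^ b.val := by
      calc x * g = g * (g⁻¹ * x) * g := by group
        _ = g * x ^ b.val := by rw [hb]; group
    have hpw : ∀ i : ℕ, (τ x ^ i) w = w := fun i => by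
      induction i with
      | zero => rfl
      | succ i ih => rw [pow_succ, Module.End.mul_apply, hw, ih]
    rw [← Module.End.mul_apply, ← map_mul, hgx, map_mul, Module.End.mul_apply, map_pow, hpw]
  refine ⟨φ, ?_, ?_, ?_⟩
  · intro g hg
    let C : Subgroup G :=
      { carrier := {g | φ * τ g = τ g * φ}
        one_mem' := by simp
        mul_mem' := fun {a b} ha hb => by
          show φ * τ (a * b) = τ (a * b) * φ
          rw [map_mul, ← mul_assoc, ha, mul_assoc, hb, mul_assoc]
        inv_mem' := fun {a} ha => by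
          show φ * τ a⁻¹ = τ a⁻¹ * φ
          calc φ * τ a⁻¹ = τ a⁻¹ * (τ a * φ) * τ a⁻¹ := by
                rw [← mul_assoc (τ a⁻¹), ← map_mul, inv_mul_cancel, map_one, one_mul]
            _ = τ a⁻¹ * φ := by
                rw [← ha, mul_assoc, mul_assoc, ← map_mul, mul_inv_cancel, map_one, mul_one] }
    have hxC : x ∈ C := by
      show φ * τ x = τ x * φ
      rw [hφ, smul_mul_assoc, mul_smul_comm, Finset.sum_mul, Finset.mul_sum]
      congr 1
      refine Finset.sum_congr rfl fun h _ => ?_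
      obtain ⟨b, -, hb'⟩ := exists_exponent hx (hHN (h⁻¹).2)
      rw [Subgroup.coe_inv] at hb'
      have h1 : τ ((h : G)⁻¹) * τ x = (τ x) ^ b.val * τ ((h : G)⁻¹) := by
        rw [← map_mul, ← map_pow, ← map_mul, hb']
      have h2 : τ (h : G) * (τ x) ^ b.val = τ x * τ (h : G) := by
        rw [← map_pow, ← map_mul, ← map_mul]
        congr 1
        rw [show x ^ b.val = (h : G)⁻¹ * x * h by rw [hb']; group]
        group
      rw [mul_assoc, h1, ← mul_assoc, mul_assoc (τ (h : G)) φ₀, (hφ₀x _).eq, ← mul_assoc, h2]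
      simp only [mul_assoc]
    have hHC : H ≤ C := fun g hg => by
      show φ * τ g = τ g * φ
      rw [hφ, smul_mul_assoc, mul_smul_comm, Finset.sum_mul, Finset.mul_sum]
      congr 1
      refine Fintype.sum_equiv (Equiv.mulLeft (⟨g, hg⟩ : H)⁻¹) _ _ fun h => ?_
      rw [Equiv.coe_mulLeft, Subgroup.coe_mul, Subgroup.coe_inv, ← mul_assoc (τ g), ← mul_assoc (τ g),
        ← map_mul, mul_inv_cancel_left, mul_assoc (τ (h : G) * φ₀), ← map_mul]
      congr 2
      group
    have hle : Subgroup.zpowers x ⊔ H ≤ C := sup_le (Subgroup.zpowers_le.2 hxC) hHC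
    exact hle (hHgen g hg)
  · rw [hφ, LinearMap.smul_apply, LinearMap.sum_apply]
    have e : ∀ h : H, (τ (h : G) * φ₀ * τ ((h : G)⁻¹)) v = v := fun h => by
      obtain ⟨s, hs⟩ := heig _ (N.inv_mem (hHN h.2))
      rw [Module.End.mul_apply, Module.End.mul_apply, hs, map_smul φ₀, hφ₀fix v hfix, hmuv, one_smul, ← hs,
        ← Module.End.mul_apply, ← map_mul, mul_inv_cancel, map_one, Module.End.one_apply]
    rw [Finset.sum_congr rfl fun h _ => e h, Finset.sum_const, Finset.card_univ, ← Nat.cast_smul_eq_nsmul k,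
      ← hcH, inv_smul_smul₀ hcH0]
  · intro w hw
    have hterm : ∀ h : H, ∃ r : k, (τ (h : G) * φ₀ * τ ((h : G)⁻¹)) w = r • v := fun h => by
      obtain ⟨s, hs⟩ := heig _ (hHN h.2)
      refine ⟨mu (τ ((h : G)⁻¹) w) * s, ?_⟩
      rw [Module.End.mul_apply, Module.End.mul_apply, hφ₀fix _ (hstab _ (N.inv_mem (hHN h.2)) w hw), map_smul,
        hs, smul_smul]
    choose r hr using hterm
    refine ⟨cH⁻¹ * ∑ h : H, r h, ?_⟩
    rw [hφ, LinearMap.smul_apply, LinearMap.sum_apply, Finset.sum_congr rfl fun h _ => hr h, ← Finset.sum_smul,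
      smul_smul]

end Retraction

end CfsgLib.Char.FeitSmall
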