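import Cfsg.Agent.Lib.Char.FeitSmall.Averages
import Cfsg.Agent.Lib.Blocks.PrimeSylow.Families

/-!
# The characters over a character of the centre

Each is constant on `P` minus the identity or is, up to a fixed sign, a Gauss period there; the
latter ones agree on the `p`-regular elements.
-/

set_option autoImplicit false
set_option maxHeartbeats 1200000

universe u

open scoped ComplexConjugate _root_.Classical

namespace CfsgLib.Char.FeitSmall

open Cfsg CfsgLib.Char CfsgLib.Blocks.PrimeSylow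

variable {p : ℕ} [hp : Fact p.Prime] {G : Type u} [Group G] [Fintype G]
variable {P : Subgroup G} {u : G} {ζ : IrrCharacter G} {e t : ℕ}

/-- Constant value on the nontrivial powers of `u`. -/
def Const (p : ℕ) [Fact p.Prime] (u : G) (χ : G → ℂ) : Prop :=
  ∃ w : ℤ, ∀ j : ZMod p, j ≠ 0 → χ (u ^ j.val) = w

/-- An exceptional character: periods on `P` and the regular values of `R`. -/
def IsExc (p : ℕ) [Fact p.Prime] (u : G) (e t : ℕ) (ε : ℤ) (R χ : G → ℂ) : Prop :=
  ∃ l ∈ roots p t, (∀ j : ZMod p, j ≠ 0 → χ (u ^ j.val) = ε * per e l j) ∧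
    ∀ g, ¬ p ∣ orderOf g → χ g = R g

theorem over_of_classInner_ne {η : Subgroup.center G →* ℂˣ} {f : G → ℂ} (hf : Over η f)
    (χ : IrrCharacter G) (hne : classInner f (χ : G → ℂ) ≠ 0) : Over η (χ : G → ℂ) := by
  obtain ⟨l, hl⟩ := CfsgLib.Char.FeitDegree.exists_centralHom χ (Subgroup.center G) le_rfl
  intro g z
  suffices h : (η z : ℂ) = (l z : ℂ) by rw [h]; exact hl g z
  have h1 : (∑ x : G, f x * conj ((χ : G → ℂ) x)) ≠ 0 := fun h0 => hne (by rw [classInner, h0, mul_zero])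
  have h2 : ∑ x : G, f x * conj ((χ : G → ℂ) x) =
      ∑ x : G, f (x * (z : G)) * conj ((χ : G → ℂ) (x * (z : G))) :=
    (Fintype.sum_equiv (Equiv.mulRight (z : G)) _ _ fun x => rfl).symm
  simp only [hf _ z, hl _ z, map_mul] at h2
  have h3 : ∑ x : G, (η z : ℂ) * f x * (conj (l z : ℂ) * conj ((χ : G → ℂ) x)) =
      (η z : ℂ) * conj (l z : ℂ) * ∑ x : G, f x * conj ((χ : G → ℂ) x) := by
    rw [Finset.mul_sum]
    exact Finset.sum_congr rfl fun x _ => by ring
  rw [h3] at h2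
  have h5 := congrArg (· * (l z : ℂ)) (mul_right_cancel₀ h1 (h2.symm.trans (one_mul _).symm))
  simp only [one_mul] at h5
  rw [mul_assoc, mul_comm (conj _), norm_unit, mul_one] at h5
  exact h5

namespace Data

variable (D : Data (p := p) P u ζ e t)
include D

/-- The characters over `η`. -/
theorem exists_family (η : Subgroup.center G →* ℂˣ) :
    ∃ (ε : ℤ) (R : IrrCharacter G), (ε = 1 ∨ ε = -1) ∧ Over η (R : G → ℂ) ∧
      IsExc p u e t ε (R : G → ℂ) (R : G → ℂ) ∧
      ∀ χ : IrrCharacter G, Over η (χ : G → ℂ) →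
        Const p u (χ : G → ℂ) ∨ IsExc p u e t ε (R : G → ℂ) (χ : G → ℂ) := by
  have h := D.setup
  have := Fintype.ofFinite P
  have := Fintype.ofFinite (Subgroup.center G)
  have := Fintype.ofFinite (IrrCharacter G)
  have := Fintype.ofFinite (IrrCharacter P)
  have := Fintype.ofFinite (IrrCharacter (Subgroup.center G))
  obtain ⟨M, hM⟩ := CfsgLib.ZStar.exists_isPModular hp.out
  haveI : M.IsMaximal := hM.2.1
  let ηI : IrrCharacter (Subgroup.center G) := ⟨fun z => (η z : ℂ), isIrrCharacter_linear η⟩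
  -- the orbit and the inertial index
  have horb : orbitV P ηI = {ηI} := by
    ext η'
    constructor
    · rintro ⟨n, hn, e'⟩
      refine Subtype.ext (e'.trans (funext fun z => ?_))
      rw [h.cjFun_apply _ hn]
      refine congrArg _ (Subtype.ext ?_)
      show n * (z : G) * n⁻¹ = z
      rw [Subgroup.mem_center_iff.1 z.2 n, mul_inv_cancel_right]
    · rintro rfl
      exact h.mem_orbit_self _
  have hidx : h.inertialIndex (ηI : Subgroup.center G → ℂ) = e := by
    have h1 := h.card_orbit_mul ηI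
    rw [horb, Nat.card_coe_set_eq, Set.ncard_singleton, one_mul, D.index] at h1
    exact h1
  have hdval : ∀ (f : G → ℂ) (l : Subgroup.center G →* ℂˣ), Over l f → ∀ x : G,
      dval f x (ηI : Subgroup.center G → ℂ) = if l = η then f x else 0 := by
    intro f l hl x
    have e1 : (fun z : Subgroup.center G => f (x * z)) =
        f x • ((⟨fun z => (l z : ℂ), isIrrCharacter_linear l⟩ : IrrCharacter (Subgroup.center G)) :
          Subgroup.center G → ℂ) := funext fun z => by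
      rw [hl x z, Pi.smul_apply, smul_eq_mul]; ring
    rw [dval, e1, classInner_smul_left, classInner_irr]
    by_cases hlη : l = η
    · subst hlη; simp [ηI]
    · rw [if_neg hlη, if_neg, mul_zero]
      intro e2
      exact hlη (MonoidHom.ext fun z => Units.ext (congrFun (congrArg Subtype.val e2) z))
  have hdvalη : ∀ χ : IrrCharacter G, Over η (χ : G → ℂ) → ∀ x : G,
      dval (χ : G → ℂ) x (ηI : Subgroup.center G → ℂ) = (χ : G → ℂ) x := fun χ hχ x => by
    rw [hdval _ η hχ, if_pos rfl]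
  obtain ⟨χ₀, hχ₀⟩ := h.exists_blockSet hM ηI
  obtain ⟨-, Y, ε, w, θ, hε, hYB, hθY, hYθ, -, -, -, hX, hY, -, hrel⟩ :=
    h.exists_structure hM ηI (B := blockOf M (χ₀ : G → ℂ))
      (CfsgLib.Blocks.isPBlock_blockOf χ₀) (CfsgLib.Blocks.mem_blockOf_self χ₀) hχ₀
  have hBeq := blockSet_eq (CfsgLib.Blocks.isPBlock_blockOf χ₀) (CfsgLib.Blocks.mem_blockOf_self χ₀) hχ₀
  have hu1 : (⟨u, D.mem⟩ : P) ≠ 1 := fun e' => D.ne_one (congrArg Subtype.val e')
  have hgen : ∀ l l' : IrrCharacter P, (l : P → ℂ) ⟨u, D.mem⟩ = (l' : P → ℂ) ⟨u, D.mem⟩ → l = l' := by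
    intro l l' e'
    refine irr_ext fun x => ?_
    obtain ⟨i, hi⟩ : ∃ i : ℕ, (⟨u, D.mem⟩ : P) ^ i = x :=
      (mem_powers_iff_mem_zpowers.2 ((zpowers_eq_top_of_prime_card h.card hu1).symm ▸ Subgroup.mem_top x))
    rw [← hi, h.lchar_pow, h.lchar_pow, e']
  -- the values of the exceptional members
  have hθval : ∀ μ : IrrCharacter P, μ ≠ trivChar P → ∃ a ∈ roots p t, ∀ j : ZMod p, j ≠ 0 →
      dval (θ μ : G → ℂ) (u ^ j.val) (ηI : Subgroup.center G → ℂ) = (ε : ℂ) * per e a j := by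
    intro μ hμ
    have hex : ∀ l : IrrCharacter P, ∃ b : ZMod p, (l : P → ℂ) ⟨u, D.mem⟩ = ZMod.stdAddChar b := by
      intro l
      have hω : IsPrimitiveRoot (ZMod.stdAddChar (1 : ZMod p) : ℂ) p := by
        refine IsPrimitiveRoot.iff_orderOf.2 (orderOf_eq_prime ?_ fun e' => ?_)
        · rw [std_pow, one_mul, ZMod.natCast_self, AddChar.map_zero_eq_one]
        · exact one_ne_zero (ZMod.injective_stdAddChar (e'.trans (AddChar.map_zero_eq_one _).symm))
      obtain ⟨i, -, hi⟩ := hω.eq_pow_of_pow_eq_one (ξ := (l : P → ℂ) ⟨u, D.mem⟩) (by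
        rw [← h.lchar_pow l _ p, show (⟨u, D.mem⟩ : P) ^ p = 1 from Subtype.ext (h.pow_eq_one D.mem),
          h.lchar_one])
      exact ⟨i, by rw [← hi, std_pow, one_mul]⟩
    choose B hB using hex
    have hB0 : B μ ≠ 0 := fun h0 => hμ (hgen μ _ (by
      rw [hB μ, h0, AddChar.map_zero_eq_one, trivChar_apply]))
    refine ⟨B μ ^ e, pow_mem_roots D.het hB0, fun j hj => ?_⟩
    rw [show u ^ j.val = (((⟨u, D.mem⟩ : P) ^ j.val : P) : G) from rfl, h.dval_of_rel ηI (θ μ) hμ (fun l hl => (hY l μ hl hμ).2.1) (fun l hl => (hY l μ hl hμ).2.2)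
      (x := (⟨u, D.mem⟩ : P) ^ j.val) (fun e' => D.pow_val_ne_one hj (congrArg Subtype.val e'))]
    congr 1
    set O := Finset.univ.filter fun l => h.Rel (ηI : Subgroup.center G → ℂ) l μ with hO
    have hBinj : Set.InjOn B (O : Set (IrrCharacter P)) := fun a _ b _ e' => hgen a b (by rw [hB, hB, e'])
    have hlev : level e (B μ ^ e) = O.image B := by
      symm
      refine Finset.eq_of_subset_of_card_le (fun x hx => ?_) ?_
      · obtain ⟨l, hl, rfl⟩ := Finset.mem_image.1 hx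
        obtain ⟨g, hg, hgl⟩ := (Finset.mem_filter.1 hl).2
        obtain ⟨c, hc, hcu⟩ := D.exists_exp hg.1
        have h1 : (l : P → ℂ) ⟨u, D.mem⟩ = ZMod.stdAddChar (B μ * c) := by
          rw [← hgl, h.cjFunP_apply _ hg.1,
            show (⟨g * u * g⁻¹, _⟩ : P) = (⟨u, D.mem⟩ : P) ^ c.val from Subtype.ext (by simpa using hcu),
            h.lchar_pow, hB, std_pow, ZMod.natCast_zmod_val]
        rw [mem_level, ZMod.injective_stdAddChar ((hB l).symm.trans h1), mul_pow, hc, mul_one]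
      · rw [Finset.card_image_of_injOn hBinj, hO, h.card_orbit ηI μ hμ, hidx]
        exact card_level_le D.het _
    rw [per, hlev, Finset.sum_image hBinj]
    refine Finset.sum_congr rfl fun l _ => ?_
    rw [h.lchar_pow, hB, std_pow, ZMod.natCast_zmod_val]
  have hθover : ∀ μ : IrrCharacter P, μ ≠ trivChar P → Over η (θ μ : G → ℂ) := by
    intro μ hμ
    obtain ⟨a, ha, hv⟩ := hθval μ hμ
    obtain ⟨l, hl⟩ := CfsgLib.Char.FeitDegree.exists_centralHom (θ μ) (Subgroup.center G) le_rfl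
    by_cases hlη : l = η
    · exact hlη ▸ hl
    exfalso
    have h0 : ∀ j : ZMod p, j ≠ 0 → per e a j = 0 := fun j hj => by
      have h1 := hv j hj
      rw [hdval _ l hl, if_neg hlη] at h1
      exact (mul_eq_zero.1 h1.symm).resolve_left (by rcases hε with rfl | rfl <;> simp)
    have h2 := sum_units_per D.het ha
    rw [Finset.sum_eq_zero fun j hj => h0 j (Finset.ne_of_mem_erase hj), eq_comm, neg_eq_zero,
      Nat.cast_eq_zero] at h2
    exact (e_pos D.het).ne' h2
  obtain ⟨μ₀, hμ₀⟩ : ∃ μ : IrrCharacter P, μ ≠ trivChar P := by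
    by_contra hcon
    push Not at hcon
    have h1 : Nat.card (IrrCharacter P) ≤ 1 :=
      Finite.card_le_one_iff_subsingleton.2 ⟨fun a b => by rw [hcon a, hcon b]⟩
    have h2 := h.card_lchar
    have := hp.out.two_le
    omega
  have hexc : ∀ μ : IrrCharacter P, μ ≠ trivChar P →
      IsExc p u e t ε (θ μ₀ : G → ℂ) (θ μ : G → ℂ) := by
    intro μ hμ
    obtain ⟨a, ha, hv⟩ := hθval μ hμ
    refine ⟨a, ha, fun j hj => ?_, fun g hg => ?_⟩
    · rw [← hdvalη _ (hθover μ hμ)]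
      exact hv j hj
    · have h1 := hrel μ hμ g hg
      have h2 := hrel μ₀ hμ₀ g hg
      exact mul_left_cancel₀ (by rcases hε with rfl | rfl <;> simp) (add_right_cancel (h1.trans h2.symm))
  refine ⟨ε, θ μ₀, hε, hθover μ₀ hμ₀, hexc μ₀ hμ₀, fun χ hχ => ?_⟩
  by_cases hχB : χ ∈ blockSet M P (ηI : Subgroup.center G → ℂ)
  · by_cases hχY : χ ∈ Y
    · obtain ⟨μ, hμ, rfl⟩ := hYθ χ hχY
      exact Or.inr (hexc μ hμ)
    · obtain ⟨-, hwc⟩ := hX χ ⟨hBeq.symm ▸ hχB, hχY⟩
      refine Or.inl ⟨-w χ, fun j hj => ?_⟩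
      rw [← hdvalη χ hχ, h.dval_of_const ηI χ hwc (P.pow_mem D.mem _) (D.pow_val_ne_one hj)]
      push_cast
      rfl
  · refine Or.inl ⟨0, fun j hj => ?_⟩
    rw [Int.cast_zero, ← hdvalη χ hχ]
    by_contra hne
    exact hχB (h.mem_blockSet_of_dval hM (P.pow_mem D.mem _) (D.pow_val_ne_one hj) χ ηI hne)

/-- The sum over `P` of an exceptional character. -/
theorem sum_P_exc [Fintype P] {ε : ℤ} {R χ : G → ℂ} (hχ : IsExc p u e t ε R χ) :
    ∑ y : P, χ y = R 1 - (ε : ℂ) * e := by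
  obtain ⟨l, hl, hv, hr⟩ := hχ
  rw [D.sum_P, hr 1 (by rw [orderOf_one, Nat.dvd_one]; exact hp.out.ne_one),
    Finset.sum_congr rfl fun j hj => hv j (Finset.ne_of_mem_erase hj), ← Finset.mul_sum,
    sum_units_per D.het hl]
  ring

/-- Some linear character occurs in the exceptional characters. -/
theorem exists_lin_exc (ht : 3 ≤ t) (η : Subgroup.center G →* ℂˣ) {ε : ℤ} (hε : ε = 1 ∨ ε = -1)
    (R : IrrCharacter G) (hov : Over η (R : G → ℂ)) (hR : IsExc p u e t ε (R : G → ℂ) (R : G → ℂ)) :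
    ∃ ψ, IsLin P η ψ ∧ nInner (R : G → ℂ) ψ ≠ 0 := by
  have := Fintype.ofFinite P
  refine D.exists_lin_of_sum_ne η (IsIrr.isCharacter R.2) hov ?_
  rw [D.sum_P_exc hR, sub_ne_zero, CfsgLib.Blocks.apply_one_eq_charDegree]
  intro hd
  have hd' : (charDegree (R : G → ℂ) : ℤ) = ε * e := by exact_mod_cast hd
  rcases hε with rfl | rfl
  · have hde : charDegree (R : G → ℂ) = e := by exact_mod_cast (hd'.trans (one_mul _))
    have he := e_pos D.het
    have hsmall : 2 * charDegree (R : G → ℂ) + 1 < p := by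
      rw [hde]
      have h3 : e * 3 ≤ e * t := Nat.mul_le_mul_left e ht
      rw [D.het] at h3
      have := hp.out.two_le
      omega
    obtain ⟨l, hl, hv, -⟩ := hR
    have hconst : ∀ j ∈ Finset.univ.erase (0 : ZMod p), per e l j = (e : ℂ) := fun j hj => by
      have h1 := hv j (Finset.ne_of_mem_erase hj)
      rw [D.apply_eq_of_small R hsmall (P.pow_mem D.mem _), CfsgLib.Blocks.apply_one_eq_charDegree, hde,
        Int.cast_one, one_mul] at h1
      exact h1.symm
    have h2 := sum_units_per D.het hl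
    rw [Finset.sum_congr rfl hconst, Finset.sum_const, nsmul_eq_mul] at h2
    have h3 : (((Finset.univ.erase (0 : ZMod p)).card + 1) * e : ℕ) = 0 := by
      apply Nat.cast_injective (R := ℂ)
      push_cast
      linear_combination h2
    simp only [mul_eq_zero, Nat.succ_ne_zero, false_or] at h3
    omega
  · have h1 := CfsgLib.Blocks.charDegree_pos R
    omega

/-- The exceptional constituents of a character over `η`. -/
theorem decomp (η : Subgroup.center G →* ℂˣ) {ε : ℤ} (R : IrrCharacter G)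
    (hov : Over η (R : G → ℂ)) (hR : IsExc p u e t ε (R : G → ℂ) (R : G → ℂ))
    (hall : ∀ χ : IrrCharacter G, Over η (χ : G → ℂ) →
      Const p u (χ : G → ℂ) ∨ IsExc p u e t ε (R : G → ℂ) (χ : G → ℂ))
    {f : G → ℂ} (hf : IsCharacter G f) (hfo : Over η f) :
    ∃ (A : ℤ) (b : ZMod p → ℕ),
      (∀ j : ZMod p, j ≠ 0 → f (u ^ j.val) = A + ε * ∑ l ∈ roots p t, (b l : ℂ) * per e l j) ∧
      (∀ ψ, IsLin P η ψ → ∀ r n : ℕ, nInner (R : G → ℂ) ψ = r → nInner f ψ = n →
        (∑ l ∈ roots p t, b l) * r ≤ n) ∧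
      ∀ χ₀ : IrrCharacter G, Const p u (χ₀ : G → ℂ) → ∀ ψ, IsLin P η ψ → ∀ r n m k : ℕ,
        nInner (R : G → ℂ) ψ = r → nInner f ψ = n → classInner f (χ₀ : G → ℂ) = m →
        nInner (χ₀ : G → ℂ) ψ = k → (∑ l ∈ roots p t, b l) * r + m * k ≤ n := by
  have := Fintype.ofFinite P
  have := Fintype.ofFinite (IrrCharacter G)
  obtain ⟨m, hm⟩ := IsChar.exists_sum hf
  have hm' : ∀ g, f g = ∑ χ : IrrCharacter G, (m χ : ℂ) * (χ : G → ℂ) g := fun g => by
    rw [hm, Finset.sum_apply]; simp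
  have hcm : ∀ χ : IrrCharacter G, classInner f (χ : G → ℂ) = (m χ : ℂ) := fun χ => by
    rw [hm]; exact classInner_sum_irr (fun χ => (m χ : ℂ)) χ
  have hmo : ∀ χ : IrrCharacter G, m χ ≠ 0 → Over η (χ : G → ℂ) := fun χ hχ =>
    over_of_classInner_ne hfo χ (by rw [hcm]; exact_mod_cast hχ)
  set E := Finset.univ.filter fun χ : IrrCharacter G => m χ ≠ 0 ∧ ¬ Const p u (χ : G → ℂ) with hE
  have hEexc : ∀ χ ∈ E, IsExc p u e t ε (R : G → ℂ) (χ : G → ℂ) := fun χ hχ =>
    (hall χ (hmo χ (Finset.mem_filter.1 hχ).2.1)).resolve_left (Finset.mem_filter.1 hχ).2.2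
  have hW : ∀ χ : IrrCharacter G, ∃ w : ℤ, χ ∉ E → m χ ≠ 0 →
      ∀ j : ZMod p, j ≠ 0 → (χ : G → ℂ) (u ^ j.val) = w := by
    intro χ
    by_cases hc : Const p u (χ : G → ℂ)
    · exact hc.imp fun w hw => fun _ _ => hw
    · exact ⟨0, fun h1 h2 => absurd (show χ ∈ E from Finset.mem_filter.2 ⟨Finset.mem_univ χ, h2, hc⟩) h1⟩
  choose W hW using hW
  choose! L hL hLv hLr using hEexc
  refine ⟨∑ χ ∈ Eᶜ, (m χ : ℤ) * W χ, fun l => ∑ χ ∈ E.filter (fun χ => L χ = l), m χ, fun j hj => ?_, ?_⟩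
  · rw [hm', ← Finset.sum_add_sum_compl E, add_comm]
    congr 1
    · push_cast
      refine Finset.sum_congr rfl fun χ hχ => ?_
      by_cases h0 : m χ = 0
      · simp [h0]
      · rw [hW χ (Finset.mem_compl.1 hχ) h0 j hj]
    · rw [Finset.mul_sum, ← Finset.sum_fiberwise_of_maps_to hL]
      refine Finset.sum_congr rfl fun l _ => ?_
      push_cast
      rw [Finset.sum_mul, Finset.mul_sum]
      refine Finset.sum_congr rfl fun χ hχ => ?_
      obtain ⟨hχE, rfl⟩ := Finset.mem_filter.1 hχ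
      rw [hLv χ hχE j hj]
      ring
  have hb : ∑ l ∈ roots p t, ∑ χ ∈ E.filter (fun χ => L χ = l), m χ = ∑ χ ∈ E, m χ :=
    Finset.sum_fiberwise_of_maps_to hL _
  have key : ∀ ψ, IsLin P η ψ → ∀ r n : ℕ, nInner (R : G → ℂ) ψ = r → nInner f ψ = n →
      ∃ k : IrrCharacter G → ℕ, (∀ χ : IrrCharacter G, nInner (χ : G → ℂ) ψ = k χ) ∧
        n = (∑ l ∈ roots p t, ∑ χ ∈ E.filter (fun χ => L χ = l), m χ) * r + ∑ χ ∈ Eᶜ, m χ * k χ := by
    intro ψ hψ r n hr hn
    choose k hk using fun χ : IrrCharacter G => exists_nat_nInner (P := P) (IsIrr.isCharacter χ.2) ψ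
    refine ⟨k, hk, ?_⟩
    have hE' : ∀ χ ∈ E, k χ = r := fun χ hχ => by
      apply Nat.cast_injective (R := ℂ)
      rw [← hk, ← hr]
      refine D.nInner_congr η (hmo χ (Finset.mem_filter.1 hχ).2.1) hov (hLr χ hχ) ?_ hψ
      rw [D.sum_P_exc (⟨L χ, hL χ hχ, hLv χ hχ, hLr χ hχ⟩ : IsExc p u e t ε (R : G → ℂ) (χ : G → ℂ)),
        D.sum_P_exc hR]
    apply Nat.cast_injective (R := ℂ)
    have e1 : nInner f ψ = ∑ χ : IrrCharacter G, ((m χ * k χ : ℕ) : ℂ) := by
      rw [nInner, show (fun n : Subgroup.normalizer (P : Set G) => f n) =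
        ∑ χ : IrrCharacter G, (m χ : ℂ) • fun n : Subgroup.normalizer (P : Set G) => (χ : G → ℂ) n from
          funext fun n => by rw [hm', Finset.sum_apply]; simp, classInner_sum_left]
      refine Finset.sum_congr rfl fun χ _ => ?_
      rw [classInner_smul_left, Nat.cast_mul, ← hk]
      rfl
    rw [← hn, e1, ← Nat.cast_sum, hb, Finset.sum_mul, ← Finset.sum_add_sum_compl E,
      Finset.sum_congr rfl (s₁ := E) fun χ hχ => by rw [hE' χ hχ]]
  refine ⟨fun ψ hψ r n hr hn => ?_, fun χ₀ hc ψ hψ r n m₀ k₀ hr hn hm₀ hk₀ => ?_⟩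
  · obtain ⟨k, -, hn'⟩ := key ψ hψ r n hr hn
    rw [hn']
    exact Nat.le_add_right _ _
  · obtain ⟨k, hk, hn'⟩ := key ψ hψ r n hr hn
    rw [hn']
    refine Nat.add_le_add_left ?_ _
    have h1 : m₀ = m χ₀ := by exact_mod_cast hm₀.symm.trans (hcm χ₀)
    have h2 : k₀ = k χ₀ := by exact_mod_cast hk₀.symm.trans (hk χ₀)
    rw [h1, h2]
    exact Finset.single_le_sum (f := fun χ => m χ * k χ) (fun _ _ => Nat.zero_le _)
      (Finset.mem_compl.2 fun hmem => (Finset.mem_filter.1 hmem).2.2 hc)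

end Data

end CfsgLib.Char.FeitSmall
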