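import Cfsg.Agent.Lib.Char.HalfDegree.NilSquare

/-!
# The commutator with a single nilpotent Jordan block

The commutant of a block of size `e + 1`, with `2 e < p`, the position of its first powers in the
filtration by the powers of the commutator map, and the image of the top power of that map.
-/

set_option autoImplicit false
set_option maxHeartbeats 1000000

namespace CfsgLib.Char.FeitSmall

open CfsgLib.Char.HalfDegree

variable {k : Type*} [Field k] {V : Type*} [AddCommGroup V] [Module k V]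

theorem adMap_mul (y a b : Module.End k V) : adMap y (a * b) = adMap y a * b + a * adMap y b := by
  simp only [adMap_apply, sub_mul, mul_sub, mul_assoc]
  abel

theorem adMap_pow_self (y : Module.End k V) (n : ℕ) : adMap y (y ^ n) = 0 := by
  rw [adMap_apply, ((Commute.refl y).pow_right n).eq, sub_self]

theorem trace_adMap_mul (y w B : Module.End k V) :
    LinearMap.trace k V (adMap y w * B) = -LinearMap.trace k V (w * adMap y B) := by
  simp only [adMap_apply, sub_mul, mul_sub, map_sub, neg_sub, mul_assoc]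
  rw [LinearMap.trace_mul_comm k y (w * B), mul_assoc]

theorem trace_adMap_pow_mul (y : Module.End k V) (n : ℕ) : ∀ w B : Module.End k V,
    LinearMap.trace k V ((adMap y ^ n) w * B) = (-1) ^ n * LinearMap.trace k V (w * (adMap y ^ n) B) := by
  induction n with
  | zero => simp
  | succ n ih =>
    intro w B
    rw [pow_succ', Module.End.mul_apply, trace_adMap_mul, ih, ← Module.End.mul_apply (adMap y ^ n),
      ← pow_succ, ← pow_succ', pow_succ]
    ring

/-- The sum behind `tr (y A)`. -/
theorem six_mul_sum (M : k) (n : ℕ) :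
    6 * ∑ j ∈ Finset.range n, (j : k) * (M - j) = (n : k) * (n - 1) * (3 * M - (2 * n - 1)) := by
  induction n with
  | zero => simp
  | succ n ih => rw [Finset.sum_range_succ, mul_add, ih]; push_cast; ring

/-- The sum behind `tr (y ^ 2 A ^ 2)`. -/
theorem sixty_mul_sum (M : k) (n : ℕ) :
    60 * ∑ j ∈ Finset.range n, (j : k) * (M - j) * (((j : k) - 1) * (M - ((j : k) - 1))) =
      20 * (M ^ 2 - 3 * M + 2) * ((n : k) * (n - 1) * (n - 2)) +
        15 * (4 - 2 * M) * ((n : k) * (n - 1) * (n - 2) * (n - 3)) +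
        12 * ((n : k) * (n - 1) * (n - 2) * (n - 3) * (n - 4)) := by
  induction n with
  | zero => simp
  | succ n ih => rw [Finset.sum_range_succ, mul_add, ih]; push_cast; ring

variable [FiniteDimensional k V] {p : ℕ} [CharP k p] {e : ℕ}

omit [CharP k p] in
theorem exists_jordan_basis (hV : Module.finrank k V = e + 1) {y : Module.End k V} (hy : y ^ (e + 1) = 0)
    (hye : y ^ e ≠ 0) : ∃ b : Module.Basis (Fin (e + 1)) k V, ∀ j, b j = (y ^ (j : ℕ)) (b 0) := by
  obtain ⟨v, hv⟩ : ∃ v, (y ^ e) v ≠ 0 := by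
    by_contra hcon
    push Not at hcon
    exact hye (LinearMap.ext hcon)
  have hli : LinearIndependent k fun j : Fin (e + 1) => (y ^ (j : ℕ)) v := by
    rw [Fintype.linearIndependent_iff]
    intro c hc
    suffices ∀ n : ℕ, ∀ j : Fin (e + 1), (j : ℕ) = n → c j = 0 from fun j => this j j rfl
    intro n
    induction n using Nat.strong_induction_on with
    | _ n ih =>
      intro j hj
      have h := congrArg (⇑(y ^ (e - n))) hc
      rw [map_sum, map_zero, Finset.sum_eq_single j ?_ (fun hi => absurd (Finset.mem_univ j) hi)] at h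
      · rw [map_smul, ← Module.End.mul_apply, ← pow_add, show e - n + (j : ℕ) = e by have := j.2; omega] at h
        exact (smul_eq_zero.1 h).resolve_right hv
      · intro i _ hne
        rcases Nat.lt_or_ge (i : ℕ) n with h1 | h1
        · rw [ih _ h1 i rfl, zero_smul, map_zero]
        · have h2 : n < (i : ℕ) := lt_of_le_of_ne h1 fun e' => hne (Fin.ext (e'.symm.trans hj.symm))
          rw [map_smul, ← Module.End.mul_apply, ← pow_add,
            pow_eq_zero_of_le (by omega : e + 1 ≤ e - n + (i : ℕ)) hy, LinearMap.zero_apply, smul_zero]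
  refine ⟨basisOfLinearIndependentOfCardEqFinrank hli (by rw [hV, Fintype.card_fin]), fun j => ?_⟩
  simp

omit [CharP k p] in
/-- The commutant of a single block. -/
theorem exists_sum_of_commute {y : Module.End k V} (b : Module.Basis (Fin (e + 1)) k V)
    (hb : ∀ j, b j = (y ^ (j : ℕ)) (b 0)) {z : Module.End k V} (hz : Commute z y) :
    ∃ c : Fin (e + 1) → k, z = ∑ j, c j • y ^ (j : ℕ) := by
  refine ⟨fun j => b.repr (z (b 0)) j, b.ext fun i => ?_⟩
  have hcomm : Commute (∑ j : Fin (e + 1), b.repr (z (b 0)) j • y ^ (j : ℕ)) (y ^ (i : ℕ)) :=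
    Commute.sum_left _ _ _ fun j _ => ((Commute.refl y).pow_pow _ _).smul_left _
  rw [hb i, ← Module.End.mul_apply, (hz.pow_right (i : ℕ)).eq, Module.End.mul_apply,
    ← Module.End.mul_apply (∑ j : Fin (e + 1), b.repr (z (b 0)) j • y ^ (j : ℕ)), hcomm.eq,
    Module.End.mul_apply]
  congr 1
  rw [LinearMap.sum_apply]
  conv_lhs => rw [← b.sum_repr (z (b 0))]
  exact Finset.sum_congr rfl fun j _ => by rw [LinearMap.smul_apply, ← hb j]

omit [CharP k p] [FiniteDimensional k V] in
theorem coeff_eq_zero {y : Module.End k V} (b : Module.Basis (Fin (e + 1)) k V)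
    (hb : ∀ j, b j = (y ^ (j : ℕ)) (b 0)) {c : Fin (e + 1) → k}
    (hc : ∑ j, c j • y ^ (j : ℕ) = (0 : Module.End k V)) (j : Fin (e + 1)) : c j = 0 := by
  have h := congrArg (fun f : Module.End k V => f (b 0)) hc
  simp only [LinearMap.sum_apply, LinearMap.smul_apply, ← hb, LinearMap.zero_apply] at h
  exact Fintype.linearIndependent_iff.1 b.linearIndependent c h j

/-- The positions of `y` and `y ^ 2` and the image of the top power of the commutator map. -/
theorem block_facts (hp : p.Prime) (hpe : p = 2 * e + 1) (he : 5 ≤ e) {y : Module.End k V}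
    (hy : y ^ (e + 1) = 0) (b : Module.Basis (Fin (e + 1)) k V) (hb : ∀ j, b j = (y ^ (j : ℕ)) (b 0)) :
    y ∈ LinearMap.range (adMap y) ∧ y ^ 2 ∈ LinearMap.range (adMap y) ∧
      y ∉ LinearMap.range (adMap y ^ 3) ∧ y ^ 2 ∉ LinearMap.range (adMap y ^ 5) ∧
      (∀ w, ∃ r : k, (adMap y ^ (p - 1)) w = r • y ^ e) ∧ y ^ e ∈ LinearMap.range (adMap y ^ (p - 1)) := by
  classical
  haveI := Fact.mk hp
  have hcast : ∀ n : ℕ, n ≠ 0 → n < p → (n : k) ≠ 0 := fun n h0 hn h => by
    rw [CharP.cast_eq_zero_iff k p] at h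
    exact absurd (Nat.le_of_dvd (Nat.pos_of_ne_zero h0) h) (by omega)
  have hpne : ∀ n : ℕ, n ≠ 0 → n < p → ¬ p ∣ n := fun n h0 hn h =>
    absurd (Nat.le_of_dvd (Nat.pos_of_ne_zero h0) h) (by omega)
  have hzero : ∀ (i : ℕ), e < i → (y ^ i) (b 0) = 0 := fun i hi => by
    rw [pow_eq_zero_of_le (by omega : e + 1 ≤ i) hy, LinearMap.zero_apply]
  have hye : ∀ i (hi : i ≤ e), y ((y ^ i) (b 0)) = (y ^ (i + 1)) (b 0) := fun i _ => by
    rw [pow_succ', Module.End.mul_apply]
  -- the lowering map and the diagonal map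
  let cf : Fin (e + 1) → k := fun j => ((j : ℕ) : k) * ((e : k) + 1 - ((j : ℕ) : k))
  let A : Module.End k V := b.constr k fun j => cf j • (y ^ ((j : ℕ) - 1)) (b 0)
  let H : Module.End k V := b.constr k fun j => (2 * ((j : ℕ) : k) - (e : k)) • (y ^ (j : ℕ)) (b 0)
  have hAb : ∀ i, i ≤ e → A ((y ^ i) (b 0)) =
      ((i : k) * ((e : k) + 1 - i)) • (y ^ (i - 1)) (b 0) := fun i hi => by
    have h := b.constr_basis k (fun j => cf j • (y ^ ((j : ℕ) - 1)) (b 0)) ⟨i, by omega⟩
    rwa [hb ⟨i, by omega⟩] at h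
  have hHb : ∀ i, i ≤ e → H ((y ^ i) (b 0)) = (2 * (i : k) - (e : k)) • (y ^ i) (b 0) := fun i hi => by
    have h := b.constr_basis k (fun j => (2 * ((j : ℕ) : k) - (e : k)) • (y ^ (j : ℕ)) (b 0)) ⟨i, by omega⟩
    rwa [hb ⟨i, by omega⟩] at h
  have hyA : ∀ i, i ≤ e → (y * A) ((y ^ i) (b 0)) = ((i : k) * ((e : k) + 1 - i)) • (y ^ i) (b 0) := by
    intro i hi
    rw [Module.End.mul_apply, hAb i hi, map_smul]
    rcases i with _ | i
    · simp
    · rw [show i + 1 - 1 = i by omega, hye i (by omega)]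
  have hDA : adMap y A = H := b.ext fun j => by
    have hj : (j : ℕ) ≤ e := Nat.lt_succ_iff.1 j.2
    rw [hb j, adMap_apply, LinearMap.sub_apply, hyA _ hj, Module.End.mul_apply, hye _ hj, hHb _ hj]
    rcases eq_or_lt_of_le hj with h | h
    · rw [hzero (j + 1) (by omega), map_zero A, sub_zero]
      congr 1
      rw [h]; ring
    · rw [hAb _ h, show (j : ℕ) + 1 - 1 = j by omega, ← sub_smul]
      congr 1
      push_cast; ring
  have hDH : adMap y H = (-2 : k) • y := b.ext fun j => by
    have hj : (j : ℕ) ≤ e := Nat.lt_succ_iff.1 j.2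
    rw [hb j, adMap_apply, LinearMap.sub_apply, Module.End.mul_apply, Module.End.mul_apply, hHb _ hj,
      map_smul, LinearMap.smul_apply, hye _ hj]
    rcases eq_or_lt_of_le hj with h | h
    · rw [hzero (j + 1) (by omega), smul_zero, map_zero H, sub_zero, smul_zero]
    · rw [hHb _ h, ← sub_smul]
      congr 1
      push_cast; ring
  have hDy : adMap y y = 0 := by simpa using adMap_pow_self y 1
  have hD2 : adMap y (adMap y (A * A)) = (-2 : k) • (y * A + A * y) + (2 : k) • (H * H) := by
    simp only [adMap_mul, hDA, hDH, map_add, smul_mul_assoc, mul_smul_comm, two_smul, smul_add]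
    abel
  have hD4 : adMap y (adMap y (adMap y (adMap y (A * A)))) = (24 : k) • y ^ 2 := by
    rw [hD2]
    simp only [map_add, map_smul, adMap_mul, hDA, hDH, hDy, map_zero, smul_zero, zero_mul, mul_zero, add_zero,
      zero_add, smul_mul_assoc, mul_smul_comm, pow_two, smul_add, smul_smul, ← add_smul]
    congr 1
    norm_num
  have hiter : ∀ w, (adMap y ^ 3) w = adMap y (adMap y (adMap y w)) ∧
      (adMap y ^ 5) w = adMap y (adMap y (adMap y (adMap y (adMap y w)))) := fun w => by
    constructor <;> simp only [pow_succ', pow_zero, Module.End.mul_apply, Module.End.one_apply]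
  have hD3A : (adMap y ^ 3) A = 0 := by rw [(hiter A).1, hDA, hDH, map_smul, hDy, smul_zero]
  have hD5A : (adMap y ^ 5) (A * A) = 0 := by rw [(hiter _).2, hD4, map_smul, adMap_pow_self, smul_zero]
  have h2 : (2 : k) ≠ 0 := by simpa using hcast 2 two_ne_zero (by omega)
  have h24 : (24 : k) ≠ 0 := by
    intro h
    have hd := (CharP.cast_eq_zero_iff k p 24).1 (by simpa using h)
    rcases (Nat.Prime.dvd_mul hp).1 (show p ∣ 8 * 3 from hd) with h' | h' <;>
      exact hpne _ (by norm_num) (by omega) h'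
  have htrace : ∀ (C : Module.End k V) (cc : ℕ → k),
      (∀ i, i ≤ e → C ((y ^ i) (b 0)) = cc i • (y ^ i) (b 0)) →
      LinearMap.trace k V C = ∑ i ∈ Finset.range (e + 1), cc i := by
    intro C cc hC
    rw [LinearMap.trace_eq_matrix_trace k b, Matrix.trace, ← Fin.sum_univ_eq_sum_range cc]
    refine Finset.sum_congr rfl fun i _ => ?_
    rw [Matrix.diag_apply, LinearMap.toMatrix_apply, hb i, hC _ (Nat.lt_succ_iff.1 i.2), ← hb i, map_smul,
      Finsupp.smul_apply, Module.Basis.repr_self, Finsupp.single_eq_same, smul_eq_mul, mul_one]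
  have htr1 : LinearMap.trace k V (y * A) ≠ 0 := by
    rw [htrace _ _ hyA]
    intro h
    have h6 := six_mul_sum (M := (e : k) + 1) (e + 1)
    rw [h, mul_zero] at h6
    have h0 : (((e + 1) * e * (e + 2) : ℕ) : k) = 0 := by push_cast at h6 ⊢; linear_combination -h6
    rw [CharP.cast_eq_zero_iff k p, hp.dvd_mul, hp.dvd_mul] at h0
    rcases h0 with (h0 | h0) | h0 <;> exact hpne _ (by omega) (by omega) h0
  have htr2 : LinearMap.trace k V (y ^ 2 * (A * A)) ≠ 0 := by
    have hC : ∀ i, i ≤ e → (y ^ 2 * (A * A)) ((y ^ i) (b 0)) =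
        ((i : k) * ((e : k) + 1 - i) * (((i : k) - 1) * ((e : k) + 1 - ((i : k) - 1)))) • (y ^ i) (b 0) := by
      intro i hi
      rw [show y ^ 2 * (A * A) = y * ((y * A) * A) by rw [pow_two]; simp only [mul_assoc], Module.End.mul_apply,
        Module.End.mul_apply, hAb i hi, map_smul, hyA _ (by omega : i - 1 ≤ e), smul_smul, map_smul]
      rcases i with _ | i
      · simp
      · rw [show i + 1 - 1 = i by omega, hye i (by omega)]
        congr 1
        push_cast
        ring
    rw [htrace _ _ hC]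
    intro h
    have h60 := sixty_mul_sum (M := (e : k) + 1) (e + 1)
    rw [h, mul_zero] at h60
    obtain ⟨e', rfl⟩ : ∃ e', e = e' + 1 := ⟨e - 1, by omega⟩
    have h0 : ((2 * ((e' + 4) * (e' + 3) * (e' + 2) * (e' + 1) * e') : ℕ) : k) = 0 := by
      push_cast at h60 ⊢; linear_combination -h60
    rw [CharP.cast_eq_zero_iff k p, hp.dvd_mul, hp.dvd_mul, hp.dvd_mul, hp.dvd_mul, hp.dvd_mul] at h0
    rcases h0 with h0 | (((h0 | h0) | h0) | h0) | h0 <;> exact hpne _ (by omega) (by omega) h0
  -- the top power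
  have htop : ∀ w, (adMap y ^ (p - 1)) w = ((-1 : k) ^ e * ((p - 1).choose e : k)) • (y ^ e * w * y ^ e) := by
    intro w
    rw [adMap, sub_eq_add_neg, (@Commute.neg_right (Module.End k (Module.End k V)) _ _ _ _
      (LinearMap.commute_mulLeft_right y y)).add_pow, LinearMap.sum_apply, Finset.sum_eq_single e]
    · rw [show p - 1 - e = e by omega, neg_pow, LinearMap.pow_mulLeft, LinearMap.pow_mulRight]
      simp only [Module.End.mul_apply, Module.End.natCast_apply, LinearMap.mulLeft_apply,
        LinearMap.mulRight_apply]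
      rcases neg_one_pow_eq_or (Module.End k (Module.End k V)) e with h1 | h1 <;>
        rcases Nat.even_or_odd e with he' | he' <;>
        simp [he'.neg_one_pow, ← Nat.cast_smul_eq_nsmul k, mul_assoc]
    · intro i hi hne
      rw [LinearMap.pow_mulLeft, neg_pow, LinearMap.pow_mulRight]
      rcases Nat.lt_or_ge e i with h | h
      · rw [pow_eq_zero_of_le h hy]; simp
      · have hi' : e + 1 ≤ p - 1 - i := by omega
        rw [pow_eq_zero_of_le hi' hy]; simp
    · intro h; exact absurd (Finset.mem_range.2 (by omega)) h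
  have hrk : ∀ w : Module.End k V, ∃ r : k, y ^ e * w * y ^ e = r • y ^ e := by
    intro w
    refine ⟨b.repr (w ((y ^ e) (b 0))) 0, b.ext fun j => ?_⟩
    rw [hb j, Module.End.mul_apply, Module.End.mul_apply, LinearMap.smul_apply]
    have hcomp : ∀ i : ℕ, (y ^ e) ((y ^ i) (b 0)) = (y ^ (e + i)) (b 0) := fun i => by
      rw [← Module.End.mul_apply, ← pow_add]
    rcases Nat.eq_zero_or_pos (j : ℕ) with h | h
    · rw [h, pow_zero, Module.End.one_apply]
      conv_lhs => rw [← b.sum_repr (w ((y ^ e) (b 0)))]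
      rw [map_sum, Finset.sum_eq_single 0]
      · rw [map_smul]
      · intro i _ hi
        rw [map_smul, hb i, hcomp, hzero (e + i) (by have : (i : ℕ) ≠ 0 := fun h' => hi (Fin.ext h'); omega), smul_zero]
      · exact fun hi => absurd (Finset.mem_univ _) hi
    · rw [hcomp, hzero _ (by omega), map_zero, map_zero, smul_zero]
  have hchoose : ((p - 1).choose e : k) ≠ 0 := by
    rw [Ne, CharP.cast_eq_zero_iff k p]
    intro hd
    have h1 : p ∣ (p - 1).factorial := by
      rw [← Nat.choose_mul_factorial_mul_factorial (show e ≤ p - 1 by omega)]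
      exact (hd.mul_right _).mul_right _
    have := hp.dvd_factorial.1 h1
    omega
  refine ⟨?_, ?_, ?_, ?_, fun w => ?_, ?_⟩
  · exact ⟨(-2 : k)⁻¹ • H, by rw [map_smul, hDH, inv_smul_smul₀ (neg_ne_zero.2 h2)]⟩
  · exact ⟨(24 : k)⁻¹ • adMap y (adMap y (adMap y (A * A))),
      by rw [map_smul, hD4, inv_smul_smul₀ h24]⟩
  · rintro ⟨w, hw⟩
    exact htr1 (by rw [← hw, trace_adMap_pow_mul, hD3A, mul_zero, map_zero, mul_zero])
  · rintro ⟨w, hw⟩
    exact htr2 (by rw [← hw, trace_adMap_pow_mul, hD5A, mul_zero, map_zero, mul_zero])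
  · obtain ⟨r, hr⟩ := hrk w
    exact ⟨_, by rw [htop, hr, smul_smul]⟩
  · let W₀ : Module.End k V := b.constr k fun j => if (j : ℕ) = e then b 0 else 0
    have hW₀ : y ^ e * W₀ * y ^ e = y ^ e := b.ext fun j => by
      rw [hb j, Module.End.mul_apply, Module.End.mul_apply, ← Module.End.mul_apply (y ^ e) (y ^ (j : ℕ)), ← pow_add]
      rcases Nat.eq_zero_or_pos (j : ℕ) with h | h
      · have h1 := b.constr_basis k (fun j : Fin (e + 1) => if (j : ℕ) = e then b 0 else 0) ⟨e, by omega⟩
        rw [hb ⟨e, _⟩, if_pos rfl] at h1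
        rw [h, add_zero]
        show (y ^ e) (W₀ ((y ^ e) (b 0))) = _
        rw [h1]
      · rw [hzero _ (by omega : e < e + (j : ℕ)), map_zero, map_zero]
    exact ⟨((-1 : k) ^ e * ((p - 1).choose e : k))⁻¹ • W₀, by
      rw [map_smul, htop, hW₀, inv_smul_smul₀ (mul_ne_zero (pow_ne_zero _ (neg_ne_zero.2 one_ne_zero)) hchoose)]⟩

end CfsgLib.Char.FeitSmall
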