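import Cfsg.Agent.Lib.Char.FeitSmall.Central
import Cfsg.Agent.Lib.Perm.CharAverage
import Cfsg.Agent.Lib.CharDegree.Basic

/-!
# The normalizer of `P`

Off the centralizer every coset of `P` in the normalizer is one class of `p`-regular elements, and
the characters of the normalizer with a fixed vector on `P` are linear.
-/

set_option autoImplicit false
set_option maxHeartbeats 800000

universe u

open scoped ComplexConjugate

namespace CfsgLib.Char.FeitSmall

open Cfsg CfsgLib.Char

variable {p : ℕ} [hp : Fact p.Prime] {G : Type u} [Group G] [Fintype G]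
variable {P : Subgroup G} {u : G} {ζ : IrrCharacter G} {e t : ℕ}

/-- A function transforming by `η` under the centre. -/
def Over (η : Subgroup.center G →* ℂˣ) (F : G → ℂ) : Prop :=
  ∀ (g : G) (z : Subgroup.center G), F (g * (z : G)) = (η z : ℂ) * F g

/-- A linear character of the normalizer, trivial on `P`, lying over `η`. -/
def IsLin (P : Subgroup G) (η : Subgroup.center G →* ℂˣ)
    (ψ : Subgroup.normalizer (P : Set G) →* ℂˣ) : Prop :=
  (∀ y : Subgroup.normalizer (P : Set G), (y : G) ∈ P → ψ y = 1) ∧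
    ∀ z : Subgroup.center G, ψ ⟨z, Subgroup.center_le_normalizer _ z.2⟩ = η z

/-- The multiplicity of a linear character of the normalizer. -/
noncomputable def nInner [Fintype (Subgroup.normalizer (P : Set G))] (F : G → ℂ)
    (ψ : Subgroup.normalizer (P : Set G) →* ℂˣ) : ℂ :=
  classInner (fun n : Subgroup.normalizer (P : Set G) => F n) fun n => (ψ n : ℂ)

namespace Data

variable (D : Data (p := p) P u ζ e t)
include D

theorem mem_centralizer_of_commute {g x : G} (hx : x ∈ P) (hx1 : x ≠ 1) (h : Commute g x) :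
    g ∈ Subgroup.centralizer (P : Set G) := by
  rw [← D.setup.centralizer_singleton hx hx1, Subgroup.mem_centralizer_singleton_iff]
  exact h

theorem exists_exp {g : G} (hg : g ∈ Subgroup.normalizer (P : Set G)) :
    ∃ c : ZMod p, c ^ e = 1 ∧ g * u * g⁻¹ = u ^ c.val := by
  have hm : g * u * g⁻¹ ∈ Subgroup.zpowers u := by
    rw [D.zpowers_eq]
    exact (Subgroup.mem_normalizer_iff.1 hg u).1 D.mem
  obtain ⟨i, hi⟩ := (isOfFinOrder_of_finite u).mem_powers_iff_mem_zpowers.2 hm
  have h' : g * u * g⁻¹ = u ^ (i : ZMod p).val := by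
    rw [CfsgLib.Char.FeitDegree.pow_val_eq D.ord]
    exact hi.symm
  exact ⟨i, D.conj_pow g hg _ h', h'⟩

/-- Off the centralizer the translates by `P` are conjugate under `P`. -/
theorem exists_conj_eq_mul {x : G} (hx : x ∈ Subgroup.normalizer (P : Set G))
    (hxC : x ∉ Subgroup.centralizer (P : Set G)) {y : G} (hy : y ∈ P) :
    ∃ y' ∈ P, x * y = y' * x * y'⁻¹ := by
  let f : P → P := fun w => ⟨x⁻¹ * w * x * (w : G)⁻¹,
    P.mul_mem ((Subgroup.mem_normalizer_iff''.1 hx w).1 w.2) (P.inv_mem w.2)⟩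
  have hinj : Function.Injective f := by
    intro a b h
    have h1 : x⁻¹ * a * x * (a : G)⁻¹ = x⁻¹ * b * x * (b : G)⁻¹ := congrArg Subtype.val h
    by_contra hne
    refine hxC (D.mem_centralizer_of_commute (P.mul_mem (P.inv_mem b.2) a.2) (fun e => hne ?_) ?_)
    · exact Subtype.ext (inv_mul_eq_one.1 e).symm
    · show x * ((b : G)⁻¹ * a) = (b : G)⁻¹ * a * x
      have h2 : x⁻¹ * ((b : G)⁻¹ * a) * x = (b : G)⁻¹ * a := by
        calc x⁻¹ * ((b : G)⁻¹ * a) * x
            = (x⁻¹ * b * x)⁻¹ * (x⁻¹ * a * x * (a : G)⁻¹) * a := by group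
          _ = (x⁻¹ * b * x)⁻¹ * (x⁻¹ * b * x * (b : G)⁻¹) * a := by rw [h1]
          _ = (b : G)⁻¹ * a := by group
      conv_lhs => rw [← h2]
      group
  obtain ⟨w, hw⟩ := (Finite.injective_iff_surjective.1 hinj) ⟨y, hy⟩
  refine ⟨w, w.2, ?_⟩
  have : x⁻¹ * w * x * (w : G)⁻¹ = y := congrArg Subtype.val hw
  rw [← this]
  group

theorem apply_mul_of_not_mem {f : G → ℂ} (hf : IsClassFunction G f) {x : G}
    (hx : x ∈ Subgroup.normalizer (P : Set G)) (hxC : x ∉ Subgroup.centralizer (P : Set G)) {y : G}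
    (hy : y ∈ P) : f (x * y) = f x := by
  obtain ⟨y', -, h⟩ := D.exists_conj_eq_mul hx hxC hy
  rw [h]
  exact hf x y'

theorem not_dvd_orderOf_of_not_mem {x : G} (hx : x ∈ Subgroup.normalizer (P : Set G))
    (hxC : x ∉ Subgroup.centralizer (P : Set G)) : ¬ p ∣ orderOf x := by
  intro hd
  set y := x ^ (orderOf x / p)
  have hyo : orderOf y = p := orderOf_pow_orderOf_div (orderOf_pos x).ne' hd
  have hyP : y ∈ P := CfsgLib.Blocks.PrimeSylow.mem_of_pow_eq_one hp.out D.setup.not_dvd
    (Subgroup.pow_mem _ hx _) (by rw [← hyo, pow_orderOf_eq_one])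
  exact hxC (D.mem_centralizer_of_commute hyP (fun h => hp.out.ne_one (by rw [← hyo, h, orderOf_one]))
    ((Commute.refl x).pow_right _))

/-- The normalizer is abelian modulo `P`. -/
theorem commutator_mem {a b : G} (ha : a ∈ Subgroup.normalizer (P : Set G))
    (hb : b ∈ Subgroup.normalizer (P : Set G)) : a * b * a⁻¹ * b⁻¹ ∈ P := by
  classical
  obtain ⟨w, hw⟩ : ∃ w : (ZMod p)ˣ, orderOf w = e := by
    obtain ⟨g, hg⟩ := IsCyclic.exists_generator (α := (ZMod p)ˣ)
    refine ⟨g ^ t, ?_⟩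
    have hgo : orderOf g = p - 1 := by
      rw [orderOf_eq_card_of_forall_mem_zpowers hg, Nat.card_eq_fintype_card, ZMod.card_units]
    rw [orderOf_pow' g (t_pos D.het).ne', hgo, ← D.het, Nat.gcd_eq_right (dvd_mul_left t e),
      Nat.mul_div_cancel _ (t_pos D.het)]
  have hw' : IsPrimitiveRoot (w : ZMod p) e := by
    rw [IsPrimitiveRoot.iff_orderOf, orderOf_units, hw]
  haveI : NeZero e := ⟨(e_pos D.het).ne'⟩
  obtain ⟨g₀, hg₀, hg₀u⟩ := D.exists_conj (w : ZMod p) hw'.pow_eq_one
  set N := Subgroup.normalizer (P : Set G) with hN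
  haveI : (P.subgroupOf N).Normal := Subgroup.normal_in_normalizer
  set π := QuotientGroup.mk' (P.subgroupOf N) with hπ
  -- every element is a power of `g₀` times a central element, modulo `P`
  have hform : ∀ n : N, ∃ (k : ℕ) (z : Subgroup.center G),
      π n = π ⟨g₀, hg₀⟩ ^ k * π ⟨z, Subgroup.center_le_normalizer _ z.2⟩ := by
    intro n
    obtain ⟨c, hc, hcu⟩ := D.exists_exp n.2
    obtain ⟨k, -, hk⟩ := hw'.eq_pow_of_pow_eq_one hc
    have hpow : ∀ k : ℕ, g₀ ^ k * u * (g₀ ^ k)⁻¹ = u ^ ((w : ZMod p) ^ k).val := by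
      intro k
      induction k with
      | zero => simp [ZMod.val_one]
      | succ k ih =>
        calc g₀ ^ (k + 1) * u * (g₀ ^ (k + 1))⁻¹ = g₀ * (g₀ ^ k * u * (g₀ ^ k)⁻¹) * g₀⁻¹ := by
              rw [pow_succ']; group
          _ = (g₀ * u * g₀⁻¹) ^ ((w : ZMod p) ^ k).val := by rw [ih, _root_.conj_pow]
          _ = u ^ ((w : ZMod p).val * ((w : ZMod p) ^ k).val) := by rw [hg₀u, pow_mul]
          _ = _ := by
            rw [← CfsgLib.Char.FeitDegree.pow_val_eq D.ord ((w : ZMod p).val * _), Nat.cast_mul,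
              ZMod.natCast_zmod_val, ZMod.natCast_zmod_val, ← pow_succ']
    have hC : (g₀ ^ k)⁻¹ * (n : G) ∈ Subgroup.centralizer ({u} : Set G) := by
      rw [Subgroup.mem_centralizer_singleton_iff]
      have h1 : g₀ ^ k * u * (g₀ ^ k)⁻¹ = (n : G) * u * (n : G)⁻¹ := by rw [hpow, hcu, hk]
      calc (g₀ ^ k)⁻¹ * (n : G) * u = (g₀ ^ k)⁻¹ * ((n : G) * u * (n : G)⁻¹) * (n : G) := by group
        _ = (g₀ ^ k)⁻¹ * (g₀ ^ k * u * (g₀ ^ k)⁻¹) * (n : G) := by rw [h1]
        _ = u * ((g₀ ^ k)⁻¹ * (n : G)) := by group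
    obtain ⟨x, hx, z, hz, hxz⟩ := D.exists_mul_center hC
    refine ⟨k, ⟨z, hz⟩, ?_⟩
    have hn : n = (⟨g₀, hg₀⟩ : N) ^ k * (⟨x, P.le_normalizer hx⟩ * ⟨z, Subgroup.center_le_normalizer _ hz⟩) :=
      Subtype.ext (by push_cast; rw [hxz]; group)
    conv_lhs => rw [hn]
    rw [map_mul, map_mul, map_pow, show π ⟨x, P.le_normalizer hx⟩ = 1 from
      (QuotientGroup.eq_one_iff _).2 (Subgroup.mem_subgroupOf.2 hx), one_mul]
  have hcz : ∀ (z : Subgroup.center G) (q : N ⧸ P.subgroupOf N),
      Commute (π ⟨z, Subgroup.center_le_normalizer _ z.2⟩) q := by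
    intro z q
    induction q using QuotientGroup.induction_on with
    | H m =>
      have : (⟨z, Subgroup.center_le_normalizer _ z.2⟩ : N) * m = m * ⟨z, Subgroup.center_le_normalizer _ z.2⟩ :=
        Subtype.ext (Subgroup.mem_center_iff.1 z.2 m).symm
      exact (Commute.map (show Commute _ m from this) π)
  obtain ⟨k, z, hk⟩ := hform ⟨a, ha⟩
  obtain ⟨k', z', hk'⟩ := hform ⟨b, hb⟩
  have hab : Commute (π ⟨a, ha⟩) (π ⟨b, hb⟩) := by
    rw [hk, hk']
    exact (((Commute.refl _).pow_pow k k').mul_right (hcz z' _).symm).mul_left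
      ((hcz z _))
  have h1 : π (⟨a, ha⟩ * ⟨b, hb⟩ * ⟨a, ha⟩⁻¹ * ⟨b, hb⟩⁻¹) = 1 := by
    rw [map_mul, map_mul, map_mul, map_inv, map_inv, hab.eq]
    group
  exact Subgroup.mem_subgroupOf.1 ((QuotientGroup.eq_one_iff _).1 h1)

/-- An irreducible character of the normalizer: linear and trivial on `P`, or zero off the centralizer. -/
theorem irr_cases (ψ : IrrCharacter (Subgroup.normalizer (P : Set G))) :
    (∃ l : Subgroup.normalizer (P : Set G) →* ℂˣ,
        (∀ y : Subgroup.normalizer (P : Set G), (y : G) ∈ P → l y = 1) ∧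
        (ψ : Subgroup.normalizer (P : Set G) → ℂ) = fun n => (l n : ℂ)) ∨
      ((∀ x : Subgroup.normalizer (P : Set G), (x : G) ∉ Subgroup.centralizer (P : Set G) →
          (ψ : Subgroup.normalizer (P : Set G) → ℂ) x = 0) ∧
        ∀ [Fintype P], ∑ y : P,
          (ψ : Subgroup.normalizer (P : Set G) → ℂ) ⟨y, P.le_normalizer y.2⟩ = 0) := by
  classical
  haveI : (P.subgroupOf (Subgroup.normalizer (P : Set G))).Normal := Subgroup.normal_in_normalizer
  have := Fintype.ofFinite P
  let ι := (Subgroup.subgroupOfEquivOfLe (P.le_normalizer : P ≤ (Subgroup.normalizer (P : Set G)))).symm.toEquiv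
  by_cases hsum : ∑ y : P, (ψ : (Subgroup.normalizer (P : Set G)) → ℂ) ⟨y, P.le_normalizer y.2⟩ = 0
  · right
    refine ⟨fun x hx => ?_, fun {_} => by convert hsum using 2; ext; simp⟩
    have h := CfsgLib.Perm.CharAverage.norm_sum_le_irr (P.subgroupOf (Subgroup.normalizer (P : Set G))) ψ x
    rw [← Equiv.sum_comp ι, ← Equiv.sum_comp ι] at h
    have e1 : ∀ y : P, (ψ : (Subgroup.normalizer (P : Set G)) → ℂ) ((ι y : (Subgroup.normalizer (P : Set G))) * x) = (ψ : (Subgroup.normalizer (P : Set G)) → ℂ) x := by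
      intro y
      have hy' : (x : G)⁻¹ * y * x ∈ P := (Subgroup.mem_normalizer_iff''.1 x.2 y).1 y.2
      obtain ⟨y', hy'P, hconj⟩ := D.exists_conj_eq_mul x.2 hx hy'
      have e : (ι y : (Subgroup.normalizer (P : Set G))) * x = ⟨y', P.le_normalizer hy'P⟩ * x * (⟨y', P.le_normalizer hy'P⟩ : (Subgroup.normalizer (P : Set G)))⁻¹ :=
        Subtype.ext (by
          push_cast
          rw [← hconj]
          show (y : G) * x = _
          group)
      rw [e]
      exact IsIrr.isClassFunction ψ.2 x _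
    have e2 : ∀ y : P, (ι y : (Subgroup.normalizer (P : Set G))) = ⟨y, P.le_normalizer y.2⟩ := fun y => rfl
    simp only [e1, Finset.sum_const, Finset.card_univ, nsmul_eq_mul] at h
    simp only [e2, hsum, Complex.zero_re] at h
    rw [norm_mul, Complex.norm_natCast] at h
    have h0 : ‖(ψ : (Subgroup.normalizer (P : Set G)) → ℂ) x‖ ≤ 0 := by
      have hc : (0 : ℝ) < Fintype.card P := by exact_mod_cast Fintype.card_pos
      exact nonpos_of_mul_nonpos_right (by linarith) hc
    exact norm_le_zero_iff.1 h0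
  left
  obtain ⟨n, σ, hσ, hψ, -⟩ := CfsgLib.CharDegree.exists_rep ψ
  set E : Module.End ℂ (Fin n → ℂ) := ∑ y : P, σ ⟨y, P.le_normalizer y.2⟩ with hE
  have hEcomm : ∀ m, E * σ m = σ m * E := fun m => by
    rw [hE, Finset.sum_mul, Finset.mul_sum]
    refine Finset.sum_bij' (fun y _ => (⟨(m : G)⁻¹ * y * m, (Subgroup.mem_normalizer_iff''.1 m.2 y).1 y.2⟩ : P))
      (fun y _ => (⟨(m : G) * y * (m : G)⁻¹, (Subgroup.mem_normalizer_iff.1 m.2 y).1 y.2⟩ : P))
      (fun _ _ => Finset.mem_univ _) (fun _ _ => Finset.mem_univ _)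
      (fun y _ => Subtype.ext (by group)) (fun y _ => Subtype.ext (by group)) fun y _ => ?_
    rw [← map_mul, ← map_mul]
    refine congrArg σ (Subtype.ext ?_)
    push_cast
    group
  obtain ⟨c, hc⟩ := exists_eq_smul_of_commute σ E hEcomm
  have hc0 : c ≠ 0 := fun h0 => hsum (by
    have := congrArg (LinearMap.trace ℂ (Fin n → ℂ)) hc
    rw [h0, zero_smul, map_zero, hE, map_sum] at this
    rw [← this]
    exact Finset.sum_congr rfl fun y _ => (congrFun hψ _).symm)
  have hfix : ∀ y : (Subgroup.normalizer (P : Set G)), (y : G) ∈ P → σ y = 1 := by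
    intro y hy
    have h1 : σ y * E = E := by
      rw [hE, Finset.mul_sum]
      exact Fintype.sum_equiv (Equiv.mulLeft (⟨y, hy⟩ : P)) _ _ fun w => by
        rw [← map_mul]; rfl
    rw [hc, mul_smul_comm] at h1
    exact smul_right_injective _ hc0 h1
  have hdeg : charDegree (ψ : (Subgroup.normalizer (P : Set G)) → ℂ) = 1 := by
    rw [CfsgLib.CharDegree.charDegree_eq_one_iff_commutator]
    have hle : _root_.commutator (Subgroup.normalizer (P : Set G)) ≤ P.subgroupOf (Subgroup.normalizer (P : Set G)) := by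
      rw [_root_.commutator_def, Subgroup.commutator_le]
      intro a _ b _
      rw [Subgroup.mem_subgroupOf, commutatorElement_def]
      push_cast
      exact D.commutator_mem a.2 b.2
    intro g hg
    rw [← hψ]
    simp only [Representation.character, hfix g (Subgroup.mem_subgroupOf.1 (hle hg)), map_one]
  obtain ⟨l, hl⟩ := CfsgLib.CharDegree.exists_hom_of_degree_one ψ hdeg
  refine ⟨l, fun y hy => Units.ext ?_, hl⟩
  have h1 : (ψ : (Subgroup.normalizer (P : Set G)) → ℂ) y = (ψ : (Subgroup.normalizer (P : Set G)) → ℂ) 1 := by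
    rw [← hψ]
    simp only [Representation.character, hfix y hy, map_one]
  simpa [hl] using h1

end Data

end CfsgLib.Char.FeitSmall
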