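import Cfsg.Agent.Lib.Char.FeitSmall.Family
import Cfsg.Agent.Lib.Char.FeitSmall.Arith
import Cfsg.Agent.Lib.Char.MinusFour.Eigen
import Cfsg.Agent.Lib.Char.PowerTwist

/-!
# The products and squares of the character

They give the bounds on the cyclotomic numbers.
-/

set_option autoImplicit false
set_option maxHeartbeats 1200000

universe u

open scoped ComplexConjugate _root_.Classical

namespace CfsgLib.Char.FeitSmall

open Cfsg CfsgLib.Char CfsgLib.Char.MinusFour

variable {p : ℕ} [hp : Fact p.Prime] {G : Type u} [Group G] [Fintype G]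
variable {P : Subgroup G} {u : G} {ζ : IrrCharacter G} {e t : ℕ}

namespace Data

variable (D : Data (p := p) P u ζ e t)
include D

theorem two_ne_zero' (ht : 3 ≤ t) : (2 : ZMod p) ≠ 0 := by
  have h2 : ((2 : ℕ) : ZMod p) ≠ 0 := by
    rw [Ne, ZMod.natCast_eq_zero_iff]
    intro h
    have := Nat.le_of_dvd two_pos h
    have h1 : e * 3 ≤ e * t := Nat.mul_le_mul_left e ht
    rw [D.het] at h1
    have := D.two_le
    omega
  simpa using h2

theorem lin_centralizer {η : Subgroup.center G →* ℂˣ} {ψ : Subgroup.normalizer (P : Set G) →* ℂˣ}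
    (hψ : IsLin P η ψ) (hη : η = 1) (n : Subgroup.normalizer (P : Set G))
    (hn : (n : G) ∈ Subgroup.centralizer (P : Set G)) : ψ n = 1 := by
  obtain ⟨x, hx, z, hz, hxz⟩ := D.setup.exists_mul hn
  have e1 : n = ⟨x, P.le_normalizer hx⟩ * ⟨z, Subgroup.center_le_normalizer _ hz⟩ := Subtype.ext hxz.symm
  rw [e1, map_mul, hψ.1 _ hx, one_mul, hψ.2 ⟨z, hz⟩, hη, MonoidHom.one_apply]

/-- Every product of a power of `u` reduces to an exponent. -/
theorem pow_val_pow (j : ZMod p) (k : ℕ) : (u ^ j.val) ^ k = u ^ ((k : ZMod p) * j).val := by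
  rw [← pow_mul, ← CfsgLib.Char.FeitDegree.pow_val_eq D.ord (j.val * k), Nat.cast_mul,
    ZMod.natCast_zmod_val, mul_comm]

/-- The conjugates of `ζ` fixing the `p'`-roots of unity. -/
theorem exists_twist (lam : Subgroup.center G →* ℂˣ) (hlam : Over lam (ζ : G → ℂ)) {a : ZMod p}
    (ha : a ∈ roots p t) :
    ∃ χ : IrrCharacter G, (∀ g, ¬ p ∣ orderOf g → (χ : G → ℂ) g = (ζ : G → ℂ) g) ∧
      Over lam (χ : G → ℂ) ∧ (∀ j : ZMod p, j ≠ 0 → (χ : G → ℂ) (u ^ j.val) = -per e a j) ∧
      (a = 1 → χ = ζ) := by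
  by_cases ha1 : a = 1
  · exact ⟨ζ, fun _ _ => rfl, hlam, fun j hj => by rw [ha1]; exact D.apply_pow_val hj, fun _ => rfl⟩
  obtain ⟨g₀, hg₀⟩ : (level e a).Nonempty :=
    Finset.card_pos.1 (by rw [card_level D.het ha]; exact e_pos D.het)
  have hg0 : g₀ ≠ 0 := ne_zero_of_mem_level D.het ha hg₀
  have hco : p.Coprime P.index := hp.out.coprime_iff_not_dvd.2 D.setup.not_dvd
  obtain ⟨k, hk1, hk2⟩ := Nat.chineseRemainder hco g₀.val 1
  have hG : Nat.card G = p * P.index := by rw [← P.card_mul_index, D.setup.card]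
  have hkp : (k : ZMod p) = g₀ := by
    rw [← ZMod.natCast_eq_natCast_iff] at hk1
    rw [hk1, ZMod.natCast_zmod_val]
  have hkc : k.Coprime (Nat.card G) := by
    rw [hG, Nat.coprime_mul_iff_right]
    refine ⟨(hp.out.coprime_iff_not_dvd.2 fun h => hg0 ?_).symm, ?_⟩
    · rw [← hkp, ZMod.natCast_eq_zero_iff]; exact h
    · rw [Nat.coprime_iff_gcd_eq_one]
      rw [Nat.ModEq.gcd_eq hk2]
      exact Nat.gcd_one_left _
  have hfix : ∀ g : G, ¬ p ∣ orderOf g → g ^ k = g := by
    intro g hg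
    have h1 : orderOf g ∣ P.index :=
      (Nat.Coprime.dvd_of_dvd_mul_left (hp.out.coprime_iff_not_dvd.2 hg).symm) (hG ▸ orderOf_dvd_natCard g)
    conv_rhs => rw [← pow_one g]
    rw [pow_eq_pow_iff_modEq]
    exact hk2.of_dvd h1
  refine ⟨⟨_, isIrrCharacter_pow ζ.2 hkc⟩, fun g hg => by
    show (ζ : G → ℂ) (g ^ k) = _
    rw [hfix g hg], fun g z => ?_, fun j hj => ?_, fun h => absurd h ha1⟩
  · show (ζ : G → ℂ) ((g * (z : G)) ^ k) = _
    have hc : Commute g (z : G) := Subgroup.mem_center_iff.1 z.2 g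
    rw [hc.mul_pow, hfix z (D.setup.not_dvd_orderOf z.2), hlam]
  · show (ζ : G → ℂ) ((u ^ j.val) ^ k) = _
    rw [D.pow_val_pow, hkp, D.apply_pow_val (mul_ne_zero hg0 hj), per_mul hg0, mul_one, mem_level.1 hg₀]

/-- The bound on the rows. -/
theorem rowBound (ht : 3 ≤ t) (lam : Subgroup.center G →* ℂˣ) (hlam : Over lam (ζ : G → ℂ)) :
    ∃ ε : ℤ, (ε = 1 ∨ ε = -1) ∧ RowBound p e t ε := by
  have := Fintype.ofFinite P
  obtain ⟨ε, R, hε, hov, hR, hall⟩ := D.exists_family 1
  refine ⟨ε, hε, fun a ha => ?_⟩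
  obtain ⟨ψ₀, hψ₀, hζN⟩ := D.exists_psi lam hlam
  obtain ⟨χ, hχreg, hχo, hχv, hχ1⟩ := D.exists_twist lam hlam (mul_mem_roots (sigma_mem_roots D.het) ha)
  set f : G → ℂ := (ζ : G → ℂ) * fun g => conj ((χ : G → ℂ) g) with hf
  have hfc : IsCharacter G f := IsChar.mul (IsIrr.isCharacter ζ.2) (IsChar.conj (IsIrr.isCharacter χ.2))
  have hfo : Over (1 : Subgroup.center G →* ℂˣ) f := fun g z => by
    show (ζ : G → ℂ) (g * z) * conj ((χ : G → ℂ) (g * z)) =
      ((1 : Subgroup.center G →* ℂˣ) z : ℂ) * ((ζ : G → ℂ) g * conj ((χ : G → ℂ) g))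
    rw [hlam, hχo, map_mul, MonoidHom.one_apply, Units.val_one, one_mul]
    linear_combination ((ζ : G → ℂ) g * conj ((χ : G → ℂ) g)) * norm_unit lam z
  obtain ⟨A, b, hval, -, hbb⟩ := D.decomp 1 R hov hR hall hfc hfo
  have hfj : ∀ j : ZMod p, j ≠ 0 → f (u ^ j.val) = per e 1 j * per e a j := fun j hj => by
    show (ζ : G → ℂ) _ * conj ((χ : G → ℂ) _) = _
    rw [D.apply_pow_val hj, hχv j hj, map_neg, conj_per, ← mul_assoc, sigma_mul_self, one_mul, neg_mul_neg]
  set δ : ℕ := if a = (-1) ^ e then 1 else 0 with hδ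
  have hrow : ∀ l ∈ roots p t, (cyc e a l : ℤ) - ε * b l = e * δ - A := by
    intro l hl
    have h := eq_of_sum_per D.het ((e : ℂ) * δ - A) (fun l => (cyc e a l : ℂ) - ε * b l) (fun j hj => by
      have h1 := hval j hj
      rw [hfj j hj, per_one_mul D.het ha] at h1
      simp only [sub_mul, Finset.sum_sub_distrib, mul_assoc, ← Finset.mul_sum]
      have h2 : (e : ℂ) * δ = if a = (-1) ^ e then (e : ℂ) else 0 := by
        simp only [hδ]; split_ifs <;> simp
      rw [h2]
      linear_combination h1) l hl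
    exact_mod_cast h
  have hε2 : ε * ε = 1 := by rcases hε with rfl | rfl <;> norm_num
  have hterm : ∀ l ∈ roots p t, ε * ((cyc e a l : ℤ) + (A - e * δ)) = b l := fun l hl => by
    linear_combination ε * hrow l hl + (b l : ℤ) * hε2
  refine ⟨A - e * δ, fun l hl => by rw [hterm l hl]; exact Int.natCast_nonneg _, ?_⟩
  rw [Finset.mul_sum, Finset.sum_congr rfl hterm]
  -- the multiplicities
  obtain ⟨ψ, hψ, hr0⟩ := D.exists_lin_exc ht 1 hε R hov hR
  obtain ⟨r, hr⟩ := exists_nat_nInner (P := P) (IsIrr.isCharacter R.2) ψ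
  obtain ⟨n, hn⟩ := exists_nat_nInner (P := P) hfc ψ
  have hr1 : 1 ≤ r := Nat.one_le_iff_ne_zero.2 fun h0 => hr0 (by rw [hr, h0, Nat.cast_zero])
  have hsum : ∑ y : P, f y = (p : ℂ) * ((p : ℂ) - 2 * e + e * δ) := by
    have hf1 : f 1 = ((p : ℂ) - e) * ((p : ℂ) - e) := by
      show (ζ : G → ℂ) 1 * conj ((χ : G → ℂ) 1) = _
      rw [hχreg 1 (by rw [orderOf_one, Nat.dvd_one]; exact hp.out.ne_one), D.apply_one, map_sub, map_natCast,
        map_natCast]
    rw [D.sum_P, hf1, Finset.sum_congr rfl fun j hj => hfj j (Finset.ne_of_mem_erase hj),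
      sum_units_per_mul D.het ha]
    simp only [hδ]
    split_ifs <;> push_cast <;> ring
  have hoff : ∀ m : Subgroup.normalizer (P : Set G), (m : G) ∉ Subgroup.centralizer (P : Set G) →
      f m = 1 := fun m hm => by
    show (ζ : G → ℂ) m * conj ((χ : G → ℂ) m) = 1
    rw [hχreg _ (D.not_dvd_orderOf_of_not_mem m.2 hm), hζN m hm, norm_unit]
  have hcard := D.nInner_mul_card 1 hfo hψ
  rw [hn, hsum, Finset.sum_congr rfl fun m hm => by rw [hoff m (Finset.mem_filter.1 hm).2, one_mul]] at hcard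
  have hconj : ∀ m : Subgroup.normalizer (P : Set G), conj (ψ m : ℂ) = ((ψ⁻¹ m : ℂˣ) : ℂ) := fun m => by
    rw [MonoidHom.inv_apply, Units.val_inv_eq_inv_val]
    exact (Complex.inv_eq_conj (CfsgLib.Char.FeitDegree.norm_linear ψ m)).symm
  rw [Finset.sum_congr rfl fun m _ => hconj m, D.sum_off_hom ψ⁻¹ fun m hm => by
    rw [MonoidHom.inv_apply, D.lin_centralizer hψ rfl m hm, inv_one]] at hcard
  have hiff : (ψ⁻¹ = 1) ↔ ψ = 1 := ⟨fun h => MonoidHom.ext fun m => by simpa using DFunLike.congr_fun h m,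
    fun h => MonoidHom.ext fun m => by simp [h]⟩
  simp only [hiff] at hcard
  have hZ0 : (Nat.card (Subgroup.center G) : ℂ) ≠ 0 := Nat.cast_ne_zero.2 Nat.card_pos.ne'
  have hp0 : (p : ℂ) ≠ 0 := Nat.cast_ne_zero.2 hp.out.ne_zero
  have hpe : (p : ℂ) = e * t + 1 := by
    have h1 := congrArg (Nat.cast : ℕ → ℂ) D.het
    rw [Nat.cast_mul, Nat.cast_sub hp.out.one_le, Nat.cast_one] at h1
    linear_combination -h1
  have hn' : (n : ℤ) + 2 = t + δ + (if ψ = 1 then 1 else 0) := by
    apply Int.cast_injective (α := ℂ)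
    refine mul_left_cancel₀ (mul_ne_zero (mul_ne_zero (Nat.cast_ne_zero.2 (e_pos D.het).ne') hp0) hZ0 :
      (e : ℂ) * p * Nat.card (Subgroup.center G) ≠ 0) ?_
    split_ifs at hcard ⊢ <;> push_cast at hcard ⊢ <;>
      linear_combination hcard + ((p : ℂ) * Nat.card (Subgroup.center G)) * hpe
  by_cases hψ1 : ψ = 1
  · have hct : Const p u ((trivChar G : IrrCharacter G) : G → ℂ) :=
      ⟨1, fun j _ => by rw [trivChar_apply, Int.cast_one]⟩
    have hm : classInner f ((trivChar G : IrrCharacter G) : G → ℂ) = (δ : ℂ) := by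
      have e1 : classInner f ((trivChar G : IrrCharacter G) : G → ℂ) =
          classInner (ζ : G → ℂ) (χ : G → ℂ) := by
        simp [classInner, hf, trivChar_apply]
      rw [e1, classInner_irr]
      simp only [hδ]
      by_cases h : a = (-1) ^ e
      · rw [if_pos h, if_pos (hχ1 (by rw [h, sigma_mul_self])).symm, Nat.cast_one]
      · rw [if_neg h, if_neg, Nat.cast_zero]
        intro heq
        refine h ?_
        have h1 := eq_of_sum_per D.het 0 (fun l => (if l = (-1) ^ e * a then (1 : ℂ) else 0) - if l = 1 then 1 else 0)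
          (fun j hj => by
            simp only [sub_mul, ite_mul, one_mul, zero_mul, Finset.sum_sub_distrib, Finset.sum_ite_eq',
              if_pos (mul_mem_roots (sigma_mem_roots D.het) ha), if_pos (one_mem_roots (p := p) (t := t)),
              zero_add]
            have h2 := hχv j hj
            rw [← heq, D.apply_pow_val hj] at h2
            linear_combination h2) 1 one_mem_roots
        have h3 : (-1 : ZMod p) ^ e * a = 1 := by
          by_contra hne
          simp [Ne.symm hne] at h1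
        calc a = (-1 : ZMod p) ^ e * ((-1) ^ e * a) := by rw [← mul_assoc, sigma_mul_self, one_mul]
          _ = (-1) ^ e := by rw [h3, mul_one]
    have hk : nInner ((trivChar G : IrrCharacter G) : G → ℂ) ψ = ((1 : ℕ) : ℂ) := by
      rw [hψ1, nInner, Nat.cast_one]
      have e1 : (fun m : Subgroup.normalizer (P : Set G) => ((trivChar G : IrrCharacter G) : G → ℂ) m) =
          fun m => ((1 : Subgroup.normalizer (P : Set G) →* ℂˣ) m : ℂ) := funext fun m => by
        rw [trivChar_apply]; simp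
      rw [e1]
      exact classInner_irr_self ⟨_, isIrrCharacter_linear (1 : Subgroup.normalizer (P : Set G) →* ℂˣ)⟩
    have h1 := hbb _ hct ψ hψ r n δ 1 hr hn hm hk
    rw [if_pos hψ1] at hn'
    have h2 : ∑ l ∈ roots p t, b l ≤ (∑ l ∈ roots p t, b l) * r := Nat.le_mul_of_pos_right _ hr1
    have h3 : ((∑ l ∈ roots p t, b l : ℕ) : ℤ) + δ ≤ n := by omega
    push_cast at h3
    omega
  · have hk : ∃ k : ℕ, nInner ((trivChar G : IrrCharacter G) : G → ℂ) ψ = k :=
      exists_nat_nInner (P := P) (IsIrr.isCharacter (trivChar G : IrrCharacter G).2) ψ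
    obtain ⟨k, hk⟩ := hk
    obtain ⟨m, hm⟩ := IsChar.classInner_eq_natCast hfc (IsIrr.isCharacter (trivChar G : IrrCharacter G).2)
    have h1 := hbb _ ⟨1, fun j _ => by rw [trivChar_apply, Int.cast_one]⟩ ψ hψ r n m k hr hn hm hk
    rw [if_neg hψ1] at hn'
    have h2 : ∑ l ∈ roots p t, b l ≤ (∑ l ∈ roots p t, b l) * r := Nat.le_mul_of_pos_right _ hr1
    have h3 : ((∑ l ∈ roots p t, b l : ℕ) : ℤ) ≤ n := by omega
    push_cast at h3
    have : δ ≤ 1 := by simp only [hδ]; split_ifs <;> omega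
    omega

omit D in
theorem isCharacter_squares : IsCharacter G (alt (ζ : G → ℂ)) ∧ IsCharacter G (sym (ζ : G → ℂ)) :=
  ⟨isCharacter_alt (IsIrr.isCharacter ζ.2), isCharacter_sym (IsIrr.isCharacter ζ.2)⟩

omit D in
theorem over_squares (lam : Subgroup.center G →* ℂˣ) (hlam : Over lam (ζ : G → ℂ)) :
    Over (lam * lam) (alt (ζ : G → ℂ)) ∧ Over (lam * lam) (sym (ζ : G → ℂ)) := by
  have key : ∀ (g : G) (z : Subgroup.center G),
      (ζ : G → ℂ) (g * (z : G) * (g * z)) = (lam z : ℂ) * lam z * (ζ : G → ℂ) (g * g) := by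
    intro g z
    have e1 : g * (z : G) * (g * z) = g * g * ((z * z : Subgroup.center G) : G) := by
      rw [Subgroup.coe_mul]
      calc g * (z : G) * (g * z) = g * ((z : G) * g) * z := by group
        _ = g * (g * (z : G)) * z := by rw [Subgroup.mem_center_iff.1 z.2 g]
        _ = g * g * ((z : G) * z) := by group
    rw [e1, hlam, map_mul, Units.val_mul]
  constructor <;> intro g z <;>
    simp only [alt, MinusFour.sym, key, hlam g z, MonoidHom.mul_apply, Units.val_mul] <;> ring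

/-- The values of the squares on `P`. -/
theorem squares_values (ht : 3 ≤ t) {j : ZMod p} (hj : j ≠ 0) :
    alt (ζ : G → ℂ) (u ^ j.val) = (per e 1 j * per e 1 j + per e ((2 : ZMod p) ^ e) j) / 2 ∧
      sym (ζ : G → ℂ) (u ^ j.val) = (per e 1 j * per e 1 j - per e ((2 : ZMod p) ^ e) j) / 2 := by
  have h2 := D.two_ne_zero' ht
  have e1 : u ^ j.val * u ^ j.val = u ^ ((2 : ZMod p) * j).val := by
    rw [← pow_two, D.pow_val_pow]
    norm_num
  constructor <;>
  · simp only [alt, MinusFour.sym, e1, D.apply_pow_val hj, D.apply_pow_val (mul_ne_zero h2 hj), per_mul h2,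
      mul_one]
    ring

theorem sum_P_squares [Fintype P] (ht : 3 ≤ t) :
    ∑ y : P, alt (ζ : G → ℂ) y = (((p : ℂ) - e) * ((p : ℂ) - e - 1) +
        ((if (1 : ZMod p) = (-1) ^ e then (p : ℂ) * e else 0) - (e : ℂ) ^ 2 - e)) / 2 ∧
      ∑ y : P, sym (ζ : G → ℂ) y = (((p : ℂ) - e) * ((p : ℂ) - e + 1) +
        ((if (1 : ZMod p) = (-1) ^ e then (p : ℂ) * e else 0) - (e : ℂ) ^ 2 + e)) / 2 := by
  have hh : (2 : ZMod p) ^ e ∈ roots p t := pow_mem_roots D.het (D.two_ne_zero' ht)
  constructor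
  · rw [D.sum_P, Finset.sum_congr rfl fun j hj => (D.squares_values ht (Finset.ne_of_mem_erase hj)).1,
      ← Finset.sum_div, Finset.sum_add_distrib, sum_units_per_mul D.het one_mem_roots,
      sum_units_per D.het hh]
    simp only [alt, mul_one, D.apply_one]
    ring
  · rw [D.sum_P, Finset.sum_congr rfl fun j hj => (D.squares_values ht (Finset.ne_of_mem_erase hj)).2,
      ← Finset.sum_div, Finset.sum_sub_distrib, sum_units_per_mul D.het one_mem_roots,
      sum_units_per D.het hh]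
    simp only [MinusFour.sym, mul_one, D.apply_one]
    ring

/-- An element whose square centralizes `P` inverts it or centralizes it. -/
theorem exp_of_sq_mem {n : G} (hn : n ∈ Subgroup.normalizer (P : Set G))
    (hnC : n ∉ Subgroup.centralizer (P : Set G)) (hn2 : n * n ∈ Subgroup.centralizer (P : Set G)) :
    n * u * n⁻¹ = u ^ (-1 : ZMod p).val ∧ (-1 : ZMod p) ^ e = 1 := by
  obtain ⟨c, hc, hcu⟩ := D.exists_exp hn
  have h1 : u ^ (1 : ZMod p).val = u ^ (c * c).val := by
    rw [ZMod.val_one, pow_one]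
    calc u = n * n * u * (n * n)⁻¹ := by
          rw [← Subgroup.mem_centralizer_iff.1 hn2 u D.mem, mul_inv_cancel_right]
      _ = n * (n * u * n⁻¹) * n⁻¹ := by group
      _ = _ := by rw [hcu, ← _root_.conj_pow, hcu, D.pow_val_pow, ZMod.natCast_zmod_val]
  rw [pow_eq_pow_iff_modEq, D.ord, ← ZMod.natCast_eq_natCast_iff, ZMod.natCast_zmod_val,
    ZMod.natCast_zmod_val] at h1
  rcases mul_self_eq_one_iff.1 h1.symm with rfl | rfl
  · refine absurd (D.mem_centralizer_of_commute D.mem D.ne_one ?_) hnC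
    rw [ZMod.val_one, pow_one] at hcu
    exact mul_inv_eq_iff_eq_mul.1 hcu
  · exact ⟨hcu, hc⟩

/-- Off the centralizer a square in the centralizer is central. -/
theorem sq_mem_center {n : G} (hn : n ∈ Subgroup.normalizer (P : Set G))
    (hnC : n ∉ Subgroup.centralizer (P : Set G)) (hn2 : n * n ∈ Subgroup.centralizer (P : Set G)) :
    n * n ∈ Subgroup.center G := by
  obtain ⟨y, hy, z, hz, hyz⟩ := D.setup.exists_mul hn2
  by_cases hy1 : y = 1
  · rw [← hyz, hy1, one_mul]; exact hz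
  exfalso
  refine hnC (D.mem_centralizer_of_commute hy hy1 ?_)
  have e1 : Commute n (n * n) := (Commute.refl n).mul_right (Commute.refl n)
  have e2 : y = n * n * z⁻¹ := by rw [← hyz, mul_inv_cancel_right]
  rw [e2]
  exact e1.mul_right (show Commute n z from Subgroup.mem_center_iff.1 hz n).inv_right

/-- The odd case. -/
theorem oddPattern (ht : 3 ≤ t) (hodd : Odd e) (lam : Subgroup.center G →* ℂˣ) (hlam : Over lam (ζ : G → ℂ)) :
    ∃ ε : ℤ, (ε = 1 ∨ ε = -1) ∧ (Odd (Nat.card (Subgroup.center G)) → ε = -1) ∧ OddPattern p e t ε := by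
  have := Fintype.ofFinite P
  obtain ⟨ε, R, hε, hov, hR, hall⟩ := D.exists_family (lam * lam)
  have hsgn : (1 : ZMod p) ≠ (-1) ^ e := by
    rw [hodd.neg_one_pow]
    intro h
    exact D.two_ne_zero' ht (by linear_combination h)
  refine ⟨ε, hε, fun hZ => ?_, ?_⟩
  · -- a conjugate of `ζ` over the square
    set c := Nat.card (Subgroup.center G) with hc
    haveI : NeZero (Nat.card G) := ⟨Nat.card_pos.ne'⟩
    haveI : NeZero c := ⟨Nat.card_pos.ne'⟩
    obtain ⟨w, hw⟩ := ZMod.unitsMap_surjective (Subgroup.card_subgroup_dvd_card (Subgroup.center G))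
      (ZMod.unitOfCoprime 2 (Nat.coprime_two_left.2 hZ))
    set k := (w : ZMod (Nat.card G)).val with hk
    have hkc : k.Coprime (Nat.card G) := ZMod.val_coe_unit_coprime w
    have hk2 : k ≡ 2 [MOD c] := by
      rw [← ZMod.natCast_eq_natCast_iff]
      have h1 := congrArg (fun x : (ZMod c)ˣ => (x : ZMod c)) hw
      simp only [ZMod.unitsMap_val, ZMod.coe_unitOfCoprime] at h1
      rw [← h1, hk, ZMod.cast_eq_val]
    have hχo : Over (lam * lam) (fun g => (ζ : G → ℂ) (g ^ k)) := fun g z => by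
      show (ζ : G → ℂ) ((g * (z : G)) ^ k) = _
      have hcm : Commute g (z : G) := Subgroup.mem_center_iff.1 z.2 g
      have hz : z ^ k = z * z := by
        rw [← pow_two, pow_eq_pow_iff_modEq]
        exact hk2.of_dvd (orderOf_dvd_natCard z)
      rw [hcm.mul_pow, ← Subgroup.coe_pow, hz, hlam, map_mul, MonoidHom.mul_apply]
    have hkp : (k : ZMod p) ≠ 0 := by
      rw [Ne, ZMod.natCast_eq_zero_iff]
      intro hd
      exact hp.out.ne_one (Nat.eq_one_of_dvd_coprimes hkc hd (D.setup.card ▸ Subgroup.card_subgroup_dvd_card P))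
    set a := (k : ZMod p) ^ e with ha
    have hamem : a ∈ roots p t := pow_mem_roots D.het hkp
    have hv : ∀ j : ZMod p, j ≠ 0 → (fun g => (ζ : G → ℂ) (g ^ k)) (u ^ j.val) = -per e a j := fun j hj => by
      show (ζ : G → ℂ) ((u ^ j.val) ^ k) = _
      rw [D.pow_val_pow, D.apply_pow_val (mul_ne_zero hkp hj), per_mul hkp, mul_one]
    rcases hall ⟨_, isIrrCharacter_pow ζ.2 hkc⟩ hχo with ⟨w', hw'⟩ | ⟨l, hl, hlv, -⟩
    · exfalso
      have h1 := eq_of_sum_per D.het (w' : ℂ) (fun x => if x = a then (1 : ℂ) else 0) (fun j hj => by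
        simp only [ite_mul, one_mul, zero_mul, Finset.sum_ite_eq', if_pos hamem]
        have h5 := hv j hj
        have h6 := hw' j hj
        simp only at h5 h6
        linear_combination h5 - h6)
      obtain ⟨l, hl, hla⟩ : ∃ l ∈ roots p t, l ≠ a := by
        refine Finset.exists_mem_ne ?_ a
        rw [card_roots D.het]; omega
      have h2 := h1 l hl
      have h3 := h1 a hamem
      rw [if_neg hla] at h2
      rw [if_pos rfl, ← h2] at h3
      exact one_ne_zero h3
    · have h1 := eq_of_sum_per D.het 0 (fun x => (if x = a then (1 : ℂ) else 0) + ε * if x = l then 1 else 0)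
        (fun j hj => by
          simp only [add_mul, mul_assoc, ite_mul, one_mul, zero_mul, Finset.sum_add_distrib, ← Finset.mul_sum,
            Finset.sum_ite_eq', if_pos hamem, if_pos hl, zero_add]
          have h5 := hv j hj
          have h6 := hlv j hj
          simp only at h5 h6
          linear_combination h5 - h6) a hamem
      rw [if_pos rfl] at h1
      rcases hε with rfl | rfl
      · exfalso
        split_ifs at h1 <;> norm_num at h1
      · rfl
  obtain ⟨ψ₀, hψ₀, hζN⟩ := D.exists_psi lam hlam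
  obtain ⟨hfc, -⟩ := isCharacter_squares (ζ := ζ)
  obtain ⟨hfo, -⟩ := over_squares lam hlam
  obtain ⟨A, b, hval, hb, -⟩ := D.decomp (lam * lam) R hov hR hall hfc hfo
  have hh : (2 : ZMod p) ^ e ∈ roots p t := pow_mem_roots D.het (D.two_ne_zero' ht)
  refine ⟨(2 : ZMod p) ^ e, hh, -A, fun l => (b l : ℤ), fun l hl => ⟨Int.natCast_nonneg _, ?_⟩, ?_⟩
  · have h := eq_of_sum_per D.het (-(2 : ℂ) * A)
      (fun l => (cyc e 1 l : ℂ) + (if l = (2 : ZMod p) ^ e then 1 else 0) - 2 * (ε * b l)) (fun j hj => by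
        have h1 := hval j hj
        rw [(D.squares_values ht hj).1, per_one_mul D.het one_mem_roots, if_neg hsgn] at h1
        simp only [sub_mul, add_mul, ite_mul, one_mul, zero_mul, Finset.sum_sub_distrib, Finset.sum_add_distrib,
          Finset.sum_ite_eq', if_pos hh, mul_assoc, ← Finset.mul_sum]
        linear_combination 2 * h1) l hl
    split_ifs at h ⊢ with hlh
    all_goals
      apply Int.cast_injective (α := ℂ)
      push_cast
      linear_combination h
  obtain ⟨ψ, hψ, hr0⟩ := D.exists_lin_exc ht (lam * lam) hε R hov hR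
  obtain ⟨r, hr⟩ := exists_nat_nInner (P := P) (IsIrr.isCharacter R.2) ψ
  obtain ⟨n, hn⟩ := exists_nat_nInner (P := P) hfc ψ
  have hr1 : 1 ≤ r := Nat.one_le_iff_ne_zero.2 fun h0 => hr0 (by rw [hr, h0, Nat.cast_zero])
  have hoff : ∀ m : Subgroup.normalizer (P : Set G), (m : G) ∉ Subgroup.centralizer (P : Set G) →
      alt (ζ : G → ℂ) m = 0 := fun m hm => by
    have hm2 : ((m * m : Subgroup.normalizer (P : Set G)) : G) ∉ Subgroup.centralizer (P : Set G) := by
      intro h2
      rw [Subgroup.coe_mul] at h2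
      obtain ⟨-, h3⟩ := D.exp_of_sq_mem m.2 hm h2
      exact hsgn h3.symm
    show ((ζ : G → ℂ) m * (ζ : G → ℂ) m - (ζ : G → ℂ) ((m : G) * m)) / 2 = 0
    rw [hζN m hm, ← Subgroup.coe_mul, hζN _ hm2, map_mul, Units.val_mul, sub_self, zero_div]
  have hcard := D.nInner_mul_card (lam * lam) hfo hψ
  rw [hn, (D.sum_P_squares ht).1, if_neg hsgn,
    Finset.sum_eq_zero fun m hm => by rw [hoff m (Finset.mem_filter.1 hm).2, zero_mul]] at hcard
  have hpe : (p : ℂ) = e * t + 1 := by
    have h1 := congrArg (Nat.cast : ℕ → ℂ) D.het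
    rw [Nat.cast_mul, Nat.cast_sub hp.out.one_le, Nat.cast_one] at h1
    linear_combination -h1
  have hn' : 2 * (n : ℤ) = t - 2 := by
    apply Int.cast_injective (α := ℂ)
    refine mul_left_cancel₀ (mul_ne_zero (mul_ne_zero (Nat.cast_ne_zero.2 (e_pos D.het).ne')
      (Nat.cast_ne_zero.2 hp.out.ne_zero)) (Nat.cast_ne_zero.2 Nat.card_pos.ne') :
        (e : ℂ) * p * Nat.card (Subgroup.center G) ≠ 0) ?_
    push_cast at hcard ⊢
    linear_combination 2 * hcard + ((p : ℂ) * Nat.card (Subgroup.center G)) * hpe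
  have h1 := hb ψ hψ r n hr hn
  have h2 : ∑ l ∈ roots p t, b l ≤ (∑ l ∈ roots p t, b l) * r := Nat.le_mul_of_pos_right _ hr1
  have h3 : ((∑ l ∈ roots p t, b l : ℕ) : ℤ) ≤ n := by omega
  push_cast at h3
  show 2 * ∑ l ∈ roots p t, (b l : ℤ) ≤ (t : ℤ) - 2
  omega

/-- The even case. -/
theorem evenPattern (ht : 3 ≤ t) (heven : Even e) (lam : Subgroup.center G →* ℂˣ) (hlam : Over lam (ζ : G → ℂ)) :
    EvenPattern p e t := by
  have := Fintype.ofFinite P
  obtain ⟨ε, R, hε, hov, hR, hall⟩ := D.exists_family (lam * lam)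
  obtain ⟨ψ₀, hψ₀, hζN⟩ := D.exists_psi lam hlam
  have hσ : ((-1 : ZMod p)) ^ e = 1 := heven.neg_one_pow
  obtain ⟨ψ, hψ, hr0⟩ := D.exists_lin_exc ht (lam * lam) hε R hov hR
  obtain ⟨r, hr⟩ := exists_nat_nInner (P := P) (IsIrr.isCharacter R.2) ψ
  have hr1 : 1 ≤ r := Nat.one_le_iff_ne_zero.2 fun h0 => hr0 (by rw [hr, h0, Nat.cast_zero])
  obtain ⟨g, hg, hgu⟩ := D.exists_conj (-1) hσ
  have hgC : g ∉ Subgroup.centralizer (P : Set G) := fun hgC => by
    rw [← Subgroup.mem_centralizer_iff.1 hgC u D.mem, mul_inv_cancel_right] at hgu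
    have h1 : u ^ (1 : ZMod p).val = u ^ (-1 : ZMod p).val := by rw [ZMod.val_one, pow_one]; exact hgu
    rw [pow_eq_pow_iff_modEq, D.ord, ← ZMod.natCast_eq_natCast_iff, ZMod.natCast_zmod_val,
      ZMod.natCast_zmod_val] at h1
    exact D.two_ne_zero' ht (by linear_combination h1)
  have hgg : g * g ∈ Subgroup.centralizer (P : Set G) := by
    refine D.mem_centralizer_of_commute D.mem D.ne_one ?_
    show g * g * u = u * (g * g)
    have h1 : g * (g * u * g⁻¹) * g⁻¹ = u := by
      rw [hgu, ← _root_.conj_pow, hgu, D.pow_val_pow, ZMod.natCast_zmod_val,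
        show (-1 : ZMod p) * -1 = 1 by ring, ZMod.val_one, pow_one]
    calc g * g * u = g * (g * u * g⁻¹) * g⁻¹ * (g * g) := by group
      _ = _ := by rw [h1]
  set κ : Subgroup.normalizer (P : Set G) →* ℂˣ := ψ₀ * ψ₀ * ψ⁻¹ with hκ
  have hκC : ∀ n : Subgroup.normalizer (P : Set G), (n : G) ∈ Subgroup.centralizer (P : Set G) → κ n = 1 := by
    intro n hn
    obtain ⟨x, hx, z, hz, hxz⟩ := D.setup.exists_mul hn
    have e1 : n = ⟨x, P.le_normalizer hx⟩ * ⟨z, Subgroup.center_le_normalizer _ hz⟩ := Subtype.ext hxz.symm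
    simp only [hκ, MonoidHom.mul_apply, MonoidHom.inv_apply]
    rw [e1, map_mul, map_mul, hψ₀.1 _ hx, hψ.1 _ hx, hψ₀.2 ⟨z, hz⟩, hψ.2 ⟨z, hz⟩, MonoidHom.mul_apply,
      one_mul, one_mul, mul_inv_cancel]
  set κ₀ : ℂ := (κ ⟨g, hg⟩ : ℂ) with hκ₀
  have hκsq : κ₀ = 1 ∨ κ₀ = -1 := by
    refine mul_self_eq_one_iff.1 ?_
    rw [hκ₀, ← Units.val_mul, ← map_mul, hκC _ (by rw [Subgroup.coe_mul]; exact hgg), Units.val_one]
  set B := Finset.univ.filter fun m : Subgroup.normalizer (P : Set G) =>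
    (m : G) ∉ Subgroup.centralizer (P : Set G) ∧ (m : G) * m ∈ Subgroup.centralizer (P : Set G) with hB
  have hBmem : ∀ m : Subgroup.normalizer (P : Set G), m ∈ B ↔ g⁻¹ * (m : G) ∈ Subgroup.centralizer (P : Set G) := by
    intro m
    rw [hB, Finset.mem_filter, and_iff_right (Finset.mem_univ _)]
    constructor
    · rintro ⟨h1, h2⟩
      obtain ⟨h3, -⟩ := D.exp_of_sq_mem m.2 h1 h2
      refine D.mem_centralizer_of_commute D.mem D.ne_one ?_
      show g⁻¹ * (m : G) * u = u * (g⁻¹ * m)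
      calc g⁻¹ * (m : G) * u = g⁻¹ * ((m : G) * u * (m : G)⁻¹) * m := by group
        _ = g⁻¹ * (g * u * g⁻¹) * m := by rw [h3, hgu]
        _ = u * (g⁻¹ * m) := by group
    · intro h1
      refine ⟨fun h2 => hgC ?_, ?_⟩
      · have h3 := mul_mem h2 (inv_mem h1)
        simpa [mul_assoc] using h3
      · have hn : (Subgroup.centralizer (P : Set G)).subgroupOf (Subgroup.normalizer (P : Set G)) |>.Normal :=
          inferInstance
        have h4 : (g⁻¹ * (m : G)) ∈ Subgroup.centralizer (P : Set G) := h1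
        have h5 : g⁻¹ * (g⁻¹ * (m : G)) * g ∈ Subgroup.centralizer (P : Set G) := by
          have := hn.conj_mem ⟨g⁻¹ * m, mul_mem (inv_mem hg) m.2⟩ (Subgroup.mem_subgroupOf.2 h4) ⟨g, hg⟩⁻¹
          simpa [Subgroup.mem_subgroupOf] using this
        have h6 := mul_mem (mul_mem hgg h5) h4
        have e1 : g * g * (g⁻¹ * (g⁻¹ * (m : G)) * g) * (g⁻¹ * (m : G)) = (m : G) * m := by group
        rwa [e1] at h6
  have hκB : ∀ m ∈ B, (κ m : ℂ) = κ₀ := by
    intro m hm
    have e1 : m = ⟨g, hg⟩ * ⟨g⁻¹ * m, mul_mem (inv_mem hg) m.2⟩ := Subtype.ext (by simp)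
    rw [e1, map_mul, hκC ⟨g⁻¹ * m, _⟩ ((hBmem m).1 hm), mul_one]
  have hBcard : B.card = p * Nat.card (Subgroup.center G) := by
    rw [← D.setup.card_centralizer, ← Fintype.card_coe, ← Nat.card_eq_fintype_card]
    refine Nat.card_congr
      { toFun := fun m => ⟨g⁻¹ * ((m : Subgroup.normalizer (P : Set G)) : G), (hBmem _).1 m.2⟩
        invFun := fun c => ⟨⟨g * c, mul_mem hg (Subgroup.centralizer_le_normalizer _ c.2)⟩,
          (hBmem _).2 (by simp)⟩
        left_inv := fun m => Subtype.ext (Subtype.ext (by simp))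
        right_inv := fun c => Subtype.ext (by simp) }
  have hvals : ∀ m : Subgroup.normalizer (P : Set G), (m : G) ∉ Subgroup.centralizer (P : Set G) →
      alt (ζ : G → ℂ) m * conj (ψ m : ℂ) = (if m ∈ B then (1 - ((p : ℂ) - e)) / 2 * κ₀ else 0) ∧
      sym (ζ : G → ℂ) m * conj (ψ m : ℂ) = (if m ∈ B then (1 + ((p : ℂ) - e)) / 2 * κ₀ else
        (ψ₀ m : ℂ) * ψ₀ m * conj (ψ m : ℂ)) := by
    intro m hm
    split_ifs with hmB
    · have h2 := (Finset.mem_filter.1 hmB).2.2
      have hz := D.sq_mem_center m.2 hm h2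
      have hv : (ζ : G → ℂ) ((m : G) * m) = ((p : ℂ) - e) * ((ψ₀ m : ℂ) * ψ₀ m) := by
        have h1 := hlam 1 ⟨_, hz⟩
        rw [one_mul, D.apply_one] at h1
        rw [h1, ← Units.val_mul, ← map_mul, ← hψ₀.2 ⟨_, hz⟩, mul_comm]
        rfl
      have hk : κ₀ = (ψ₀ m : ℂ) * ψ₀ m * conj (ψ m : ℂ) := by
        rw [← hκB m hmB, hκ]
        simp only [MonoidHom.mul_apply, MonoidHom.inv_apply, Units.val_mul, Units.val_inv_eq_inv_val]
        rw [Complex.inv_eq_conj (CfsgLib.Char.FeitDegree.norm_linear ψ m)]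
      simp only [alt, MinusFour.sym, hζN m hm, hv, hk]
      constructor <;> ring
    · have h2 : ((m * m : Subgroup.normalizer (P : Set G)) : G) ∉ Subgroup.centralizer (P : Set G) := fun h2 =>
        hmB (Finset.mem_filter.2 ⟨Finset.mem_univ _, hm, by simpa using h2⟩)
      simp only [alt, MinusFour.sym, hζN m hm, ← Subgroup.coe_mul, hζN _ h2, map_mul, Units.val_mul]
      constructor <;> ring
  obtain ⟨hac, hsc⟩ := isCharacter_squares (ζ := ζ)
  obtain ⟨hao, hso⟩ := over_squares lam hlam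
  have hpe : (p : ℂ) = e * t + 1 := by
    have h1 := congrArg (Nat.cast : ℕ → ℂ) D.het
    rw [Nat.cast_mul, Nat.cast_sub hp.out.one_le, Nat.cast_one] at h1
    linear_combination -h1
  have hne : (e : ℂ) * p * Nat.card (Subgroup.center G) ≠ 0 :=
    mul_ne_zero (mul_ne_zero (Nat.cast_ne_zero.2 (e_pos D.het).ne')
      (Nat.cast_ne_zero.2 hp.out.ne_zero)) (Nat.cast_ne_zero.2 Nat.card_pos.ne')
  have hh : (2 : ZMod p) ^ e ∈ roots p t := pow_mem_roots D.het (D.two_ne_zero' ht)
  obtain ⟨q, hq⟩ := heven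
  rcases hκsq with hk | hk
  · -- the alternating square has no exceptional constituent
    obtain ⟨A, b, hval, hb, -⟩ := D.decomp (lam * lam) R hov hR hall hac hao
    have h0 : nInner (alt (ζ : G → ℂ)) ψ = ((0 : ℕ) : ℂ) := by
      have hcard := D.nInner_mul_card (lam * lam) hao hψ
      rw [(D.sum_P_squares ht).1, if_pos hσ.symm, Finset.sum_congr rfl fun m hm =>
        (hvals m (Finset.mem_filter.1 hm).2).1, ← Finset.sum_filter, Finset.filter_filter] at hcard
      rw [show (Finset.univ.filter fun m : Subgroup.normalizer (P : Set G) =>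
        (m : G) ∉ Subgroup.centralizer (P : Set G) ∧ m ∈ B) = B by
          ext m
          simp only [Finset.mem_filter, Finset.mem_univ, true_and, hB]
          exact ⟨fun h => h.2, fun h => ⟨h.1, h⟩⟩, Finset.sum_const, nsmul_eq_mul, hBcard, hk] at hcard
      push_cast at hcard ⊢
      refine (mul_eq_zero.1 (?_ : (e : ℂ) * p * Nat.card (Subgroup.center G) * _ = 0)).resolve_left hne
      linear_combination hcard
    have h1 := hb ψ hψ r 0 hr h0
    have hbz : ∀ l ∈ roots p t, b l = 0 := Finset.sum_eq_zero_iff.1 (by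
      have h2 : ∑ l ∈ roots p t, b l ≤ (∑ l ∈ roots p t, b l) * r := Nat.le_mul_of_pos_right _ hr1
      omega)
    refine ⟨(2 : ZMod p) ^ e, hh, (q : ℤ) - A, Or.inl fun l hl => ?_⟩
    have h := eq_of_sum_per D.het ((e : ℂ) - 2 * A)
      (fun l => (cyc e 1 l : ℂ) + (if l = (2 : ZMod p) ^ e then 1 else 0)) (fun j hj => by
        have h3 := hval j hj
        rw [(D.squares_values ht hj).1, per_one_mul D.het one_mem_roots, if_pos hσ.symm,
          show ∑ x ∈ roots p t, (b x : ℂ) * per e x j = 0 from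
            Finset.sum_eq_zero fun x hx => by rw [hbz x hx, Nat.cast_zero, zero_mul]] at h3
        simp only [add_mul, ite_mul, one_mul, zero_mul, Finset.sum_add_distrib, Finset.sum_ite_eq', if_pos hh]
        linear_combination 2 * h3) l hl
    have he' : (e : ℂ) = (q : ℂ) + q := by rw [hq]; push_cast; ring
    split_ifs at h ⊢ with hlh
    all_goals
      apply Int.cast_injective (α := ℂ)
      push_cast
      linear_combination h + he'
  · -- the symmetric square has no exceptional constituent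
    obtain ⟨A, b, hval, hb, -⟩ := D.decomp (lam * lam) R hov hR hall hsc hso
    have h0 : nInner (sym (ζ : G → ℂ)) ψ = ((0 : ℕ) : ℂ) := by
      have hcard := D.nInner_mul_card (lam * lam) hso hψ
      have hsplit : ∀ m ∈ Finset.univ.filter (fun m : Subgroup.normalizer (P : Set G) =>
          (m : G) ∉ Subgroup.centralizer (P : Set G)),
          sym (ζ : G → ℂ) m * conj (ψ m : ℂ) = (κ m : ℂ) + if m ∈ B then ((p : ℂ) - e - 1) / 2 * κ₀ else 0 := by
        intro m hm
        rw [(hvals m (Finset.mem_filter.1 hm).2).2]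
        split_ifs with hmB
        · rw [hκB m hmB]; ring
        · simp only [hκ, MonoidHom.mul_apply, MonoidHom.inv_apply, Units.val_mul, Units.val_inv_eq_inv_val,
            Complex.inv_eq_conj (CfsgLib.Char.FeitDegree.norm_linear ψ m), add_zero]
      have hκ1 : κ ≠ 1 := fun h => by
        rw [hκ₀, h, MonoidHom.one_apply, Units.val_one] at hk
        norm_num at hk
      rw [(D.sum_P_squares ht).2, if_pos hσ.symm, Finset.sum_congr rfl hsplit, Finset.sum_add_distrib,
        D.sum_off_hom κ hκC, if_neg hκ1, ← Finset.sum_filter, Finset.filter_filter] at hcard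
      rw [show (Finset.univ.filter fun m : Subgroup.normalizer (P : Set G) =>
        (m : G) ∉ Subgroup.centralizer (P : Set G) ∧ m ∈ B) = B by
          ext m
          simp only [Finset.mem_filter, Finset.mem_univ, true_and, hB]
          exact ⟨fun h => h.2, fun h => ⟨h.1, h⟩⟩, Finset.sum_const, nsmul_eq_mul, hBcard, hk] at hcard
      push_cast at hcard ⊢
      refine (mul_eq_zero.1 (?_ : (e : ℂ) * p * Nat.card (Subgroup.center G) * _ = 0)).resolve_left hne
      linear_combination hcard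
    have h1 := hb ψ hψ r 0 hr h0
    have hbz : ∀ l ∈ roots p t, b l = 0 := Finset.sum_eq_zero_iff.1 (by
      have h2 : ∑ l ∈ roots p t, b l ≤ (∑ l ∈ roots p t, b l) * r := Nat.le_mul_of_pos_right _ hr1
      omega)
    refine ⟨(2 : ZMod p) ^ e, hh, (q : ℤ) - A, Or.inr fun l hl => ?_⟩
    have h := eq_of_sum_per D.het ((e : ℂ) - 2 * A)
      (fun l => (cyc e 1 l : ℂ) - (if l = (2 : ZMod p) ^ e then 1 else 0)) (fun j hj => by
        have h3 := hval j hj
        rw [(D.squares_values ht hj).2, per_one_mul D.het one_mem_roots, if_pos hσ.symm,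
          show ∑ x ∈ roots p t, (b x : ℂ) * per e x j = 0 from
            Finset.sum_eq_zero fun x hx => by rw [hbz x hx, Nat.cast_zero, zero_mul]] at h3
        simp only [sub_mul, ite_mul, one_mul, zero_mul, Finset.sum_sub_distrib, Finset.sum_ite_eq', if_pos hh]
        linear_combination 2 * h3) l hl
    have he' : (e : ℂ) = (q : ℂ) + q := by rw [hq]; push_cast; ring
    split_ifs at h ⊢ with hlh
    all_goals
      apply Int.cast_injective (α := ℂ)
      push_cast
      linear_combination h + he'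

end Data

end CfsgLib.Char.FeitSmall
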