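import Cfsg.Agent.Lib.Char.FeitSmall.TTwo
import Cfsg.Agent.Lib.Char.FeitSmall.Products

/-!
# A faithful character of degree less than `p - 1`

Either the group is `PSL(2, p)` over its centre with degree `(p ± 1) / 2` and two classes of elements of
order `p`, or the degree is `p - e` with `e + 3 ≤ t`; if the centre has odd order then `e = 2`.
-/

set_option autoImplicit false
set_option maxHeartbeats 800000

universe u

namespace CfsgLib.Char.FeitSmall

open Cfsg CfsgLib.Char CfsgLib.Blocks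
open scoped _root_.Classical

variable {p : ℕ} [hp : Fact p.Prime] {G : Type u} [Group G] [Fintype G]

/-- A faithful linear character makes the group commutative. -/
theorem normal_of_linear (ζ : IrrCharacter G) (hfaith : ∀ g : G, (ζ : G → ℂ) g = (ζ : G → ℂ) 1 → g = 1)
    (h1 : charDegree (ζ : G → ℂ) = 1) (P : Subgroup G) : P.Normal := by
  obtain ⟨l, hl⟩ := exists_linear_of_degree_one (IsIrr.isCharacter ζ.2)
    (by rw [apply_one_eq_charDegree, h1, Nat.cast_one] : (ζ : G → ℂ) 1 = 1)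
  refine ⟨fun y hy g => ?_⟩
  suffices hc : g * y * g⁻¹ * y⁻¹ = 1 by rwa [mul_inv_eq_one.1 hc]
  refine hfaith _ ?_
  rw [hl]
  simp [mul_right_comm]

/-- The possible shapes. -/
theorem degree_cases (P : Subgroup G) (hcard : Nat.card P = p) (hS : ¬ p ∣ P.index) (hp7 : 7 < p)
    (hnn : ¬ P.Normal) (ζ : IrrCharacter G) (hfaith : ∀ g : G, (ζ : G → ℂ) g = (ζ : G → ℂ) 1 → g = 1)
    (hd : charDegree (ζ : G → ℂ) + 1 < p) :
    (Nonempty ((G ⧸ Subgroup.center G) ≃* Matrix.ProjectiveSpecialLinearGroup (Fin 2) (ZMod p)) ∧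
        (2 * charDegree (ζ : G → ℂ) + 1 = p ∨ 2 * charDegree (ζ : G → ℂ) = p + 1) ∧
        Nat.card {c : ConjClasses G // ∃ g : G, ConjClasses.mk g = c ∧ orderOf g = p} = 2) ∨
      ∃ e t : ℕ, e * t = p - 1 ∧ 2 ≤ e ∧ charDegree (ζ : G → ℂ) + e = p ∧ e + 3 ≤ t ∧
        Nat.card {c : ConjClasses G // ∃ g : G, ConjClasses.mk g = c ∧ orderOf g = p} = t ∧
        (Odd (Nat.card (Subgroup.center G)) → e = 2) := by
  have hpp := hp.out
  have hpo : p ≠ 2 := by omega
  rcases cases_of_small hcard hS hp7 hnn ζ hfaith hd with ⟨h1, h2, hiso⟩ | ⟨u, e, t, D⟩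
  · refine Or.inl ⟨hiso, Or.inl h1, ?_⟩
    obtain ⟨V, h⟩ := CfsgLib.Blocks.PrimeSylow.exists_setup hcard hS
    exact card_classes h rfl (by omega)
  have hcl := card_classes D.setup D.index D.het
  have hde := D.deg
  have he2 := D.two_le
  have het := D.het
  rcases Nat.lt_or_ge t 3 with ht | ht
  · have ht0 : t ≠ 0 := fun h => by rw [h, mul_zero] at het; omega
    have ht1 : t ≠ 1 := fun h => by
      rw [h, mul_one] at het
      exact hnn (normal_of_linear ζ hfaith (by omega) P)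
    obtain rfl : t = 2 := by omega
    exact Or.inl ⟨D.iso_of_two rfl hp7, Or.inr (by omega), hcl⟩
  refine Or.inr ⟨e, t, het, he2, hde, ?_⟩
  have hp10 : p ≠ 8 ∧ p ≠ 9 ∧ p ≠ 10 := by
    refine ⟨?_, ?_, ?_⟩ <;> rintro rfl <;> norm_num at hpp
  rcases eq_or_lt_of_le he2 with he | he
  · exact ⟨by subst he; omega, hcl, fun _ => he.symm⟩
  obtain ⟨lam, hlam⟩ := CfsgLib.Char.FeitDegree.exists_centralHom ζ (Subgroup.center G) le_rfl
  obtain ⟨ε, hε, hB⟩ := D.rowBound ht lam hlam
  rcases Nat.even_or_odd e with heven | hodd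
  · exact (false_of_even D.het heven he ht hε hB (D.evenPattern ht heven lam hlam)).elim
  obtain ⟨ε', hε', hneg, hpat⟩ := D.oddPattern ht hodd lam hlam
  have h3 := add_three_le_of_odd D.het hodd he hpo ht hε hε' hB hpat
  refine ⟨h3, hcl, fun hZ => ?_⟩
  rw [hneg hZ] at hpat
  exact (false_of_odd_neg D.het hodd hpo h3 hpat).elim

end CfsgLib.Char.FeitSmall
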