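import Cfsg.Agent.Lib.Char.HalfDegree.ModEmbed
import Cfsg.Agent.Lib.Char.Exceptional.SectionCongr
import Cfsg.Agent.Lib.Blocks.RegularValues
import Cfsg.Agent.Lib.Blocks.PrimeSylow.Block

/-!
# A faithful representation in characteristic `p` keeping a polynomial relation

If `ρ x` is killed by a product of `f` factors `X - c` with `c ^ p = 1`, its reduction is unipotent
with `(σ x - 1) ^ f = 0`.
-/

set_option autoImplicit false
set_option maxHeartbeats 1000000

universe u

namespace CfsgLib.Char.FeitSmall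

open Cfsg MonoidAlgebra CfsgLib.Blocks CfsgLib.Pairs CfsgLib.Star CfsgLib.IBr CfsgLib.Char CfsgLib.Char.HalfDegree

variable {G : Type u} [Group G] [Fintype G] {p : ℕ} [Fact p.Prime] {M : Ideal AlgInt} [M.IsPrime]

theorem exists_mod_embedding_nil (hM : IsPModular p M) {d : ℕ} (hd : d < p)
    (ρ : Representation ℂ G (Fin d → ℂ)) (hρ : ∀ g : G, ρ.character g = ρ.character 1 → g = 1)
    (hO : ∀ K : Subgroup G, K.Normal → IsPGroup p K → K = ⊥) (x : G) {f : ℕ} (c : Fin f → ℂ)
    (hc : ∀ i, c i ^ p = 1)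
    (hQ : Polynomial.aeval (ρ x) (∏ i, (Polynomial.X - Polynomial.C (c i))) = (0 : Module.End ℂ (Fin d → ℂ))) :
    ∃ (m : ℕ) (σ : G →* Module.End (Res M) (Fin m → Res M)), m ≤ d ∧ Function.Injective σ ∧
      (σ x - 1) ^ f = 0 := by
  classical
  have := Fintype.ofFinite (IrrCharacter G)
  haveI := charP_residueField hM
  haveI : CharP (Res M) p := charP_residueField hM
  obtain ⟨D⟩ := nonempty_data (G := G) (M := M)
  set χ := ρ.character with hχ
  obtain ⟨mu, hmu⟩ := IsChar.exists_sum (G := G) (χ := χ) ⟨d, ρ, rfl⟩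
  have hsum : ∀ h : G, ¬ p ∣ orderOf h → χ h = ∑ δ : Fin D.n,
      ((∑ θ : IrrCharacter G, mu θ * D.dec θ δ : ℕ) : ℂ) * D.phi p δ h := by
    intro h hh
    have e : ∀ θ : IrrCharacter G, (θ : G → ℂ) h = ∑ δ, (D.dec θ δ : ℂ) * D.phi p δ h := fun θ => by
      have := congrFun (D.pRegularPart_eq_sum hM θ) h
      simpa [pRegularPart, IsPRegular, hh, Finset.sum_apply] using this
    rw [hmu, Finset.sum_apply]
    simp only [Pi.smul_apply, smul_eq_mul, e, Finset.mul_sum, Nat.cast_sum, Nat.cast_mul, Finset.sum_mul]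
    rw [Finset.sum_comm]
    exact Finset.sum_congr rfl fun δ _ => Finset.sum_congr rfl fun θ _ => by ring
  set w : Fin D.n → ℕ := fun δ => ∑ θ : IrrCharacter G, mu θ * D.dec θ δ with hw
  have h1p : ¬ p ∣ orderOf (1 : G) := by simpa using (Fact.out : p.Prime).ne_one
  have hχ1 : χ 1 = d := by rw [hχ, Representation.char_one, Module.finrank_fin_fun]
  have hdeg : ∑ δ, w δ * D.d δ = d := by
    have h := hsum 1 h1p
    rw [hχ1] at h
    simp only [D.phi_one hM] at h
    exact_mod_cast h.symm
  set Δ := Finset.univ.filter (fun δ => w δ ≠ 0) with hΔ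
  have hle : ∑ δ ∈ Δ, D.d δ ≤ d := by
    rw [← hdeg]
    calc ∑ δ ∈ Δ, D.d δ ≤ ∑ δ ∈ Δ, w δ * D.d δ := Finset.sum_le_sum fun δ hδ =>
          Nat.le_mul_of_pos_left _ (Nat.pos_of_ne_zero (Finset.mem_filter.1 hδ).2)
      _ ≤ ∑ δ, w δ * D.d δ := Finset.sum_le_sum_of_subset (Finset.subset_univ _)
  let V := (δ : Δ) → (Fin (D.d δ) → Res M)
  let τ : G →* Module.End (Res M) V :=
    { toFun := fun g => LinearMap.pi fun δ => (Matrix.toLin' (D.ψ (single g 1) δ)) ∘ₗ LinearMap.proj δ
      map_one' := by
        refine LinearMap.ext fun v => funext fun δ => ?_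
        show Matrix.toLin' (D.ψ (single 1 1) δ) (v δ) = v δ
        rw [← MonoidAlgebra.one_def, map_one, Pi.one_apply, Matrix.toLin'_one, LinearMap.id_apply]
      map_mul' := fun g h => by
        refine LinearMap.ext fun v => funext fun δ => ?_
        show Matrix.toLin' (D.ψ (single (g * h) 1) δ) (v δ) =
          Matrix.toLin' (D.ψ (single g 1) δ) (Matrix.toLin' (D.ψ (single h 1) δ) (v δ))
        rw [show single (g * h) (1 : Res M) = single g 1 * single h 1 by rw [single_mul_single, mul_one],
          map_mul, Pi.mul_apply, Matrix.toLin'_mul, LinearMap.comp_apply] }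
  have hτ : ∀ g, τ g = 1 → ∀ δ : Δ, D.ψ (single g 1) δ = 1 := fun g hg δ => by
    apply Matrix.toLin'.injective
    rw [Matrix.toLin'_one]
    refine LinearMap.ext fun v => ?_
    have := congrArg (fun f : Module.End (Res M) V => f (Pi.single δ v) δ) hg
    change Matrix.toLin' (D.ψ (single g 1) δ) ((Pi.single δ v : V) δ) = (Pi.single δ v : V) δ at this
    rw [Pi.single_eq_same] at this
    simpa using this
  -- elements of `p'`-order are faithfully represented
  have hreg : ∀ g : G, ¬ p ∣ orderOf g → τ g = 1 → g = 1 := by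
    intro g hg hτg
    refine hρ g ?_
    set Z := Subgroup.zpowers g with hZ
    have hz : ∀ z : Z, ¬ p ∣ orderOf (z : G) ∧ τ (z : G) = 1 := by
      rintro ⟨z, i, rfl⟩
      refine ⟨fun h => hg (h.trans ?_), ?_⟩
      · exact orderOf_dvd_of_mem_zpowers ⟨i, rfl⟩
      · have hker : g ∈ τ.ker := hτg
        exact Subgroup.zpow_mem _ hker i
    set inv := Module.finrank ℂ (Representation.invariants (ρ.comp Z.subtype)) with hinv
    have havg := FDRep.average_char_eq_finrank_invariants (FDRep.of (ρ.comp Z.subtype))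
    have hZ0 : (Nat.card Z : ℂ) ≠ 0 := Nat.cast_ne_zero.2 Nat.card_pos.ne'
    have hsumZ : ∑ z : Z, χ (z : G) = (Nat.card Z : ℂ) * inv := by
      rw [inv_mul_eq_iff_eq_mul₀ hZ0] at havg
      exact havg
    have hres : ∀ z : Z, ∃ s : localRing M, (s : ℂ) = χ (z : G) ∧ resHom M s = (d : Res M) := by
      intro z
      obtain ⟨hzp, hzt⟩ := hz z
      refine ⟨∑ δ, (w δ : localRing M) * D.phiO δ (z : G), ?_, ?_⟩
      · rw [AddSubmonoidClass.coe_finsetSum, hsum _ hzp]
        refine Finset.sum_congr rfl fun δ _ => ?_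
        rw [Subring.coe_mul, D.phiO_coe (p := p) δ hzp]
        simp [hw]
      · rw [map_sum, ← hdeg]
        push_cast
        refine Finset.sum_congr rfl fun δ _ => ?_
        rw [map_mul, map_natCast, D.phiO_res hM δ hzp]
        by_cases h0 : w δ = 0
        · simp [h0]
        · rw [D.tau_apply, hτ _ hzt ⟨δ, Finset.mem_filter.2 ⟨Finset.mem_univ _, h0⟩⟩, Matrix.trace_one,
            Fintype.card_fin]
    choose s hs hsd using hres
    have heq : ∑ z : Z, s z = (Nat.card Z : localRing M) * (inv : localRing M) := by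
      apply Subtype.ext
      push_cast
      rw [Finset.sum_congr rfl fun z _ => hs z, hsumZ]
    have h := congrArg (resHom M) heq
    rw [map_sum, Finset.sum_congr rfl fun z _ => hsd z, Finset.sum_const, Finset.card_univ, nsmul_eq_mul,
      map_mul, map_natCast, map_natCast, ← Nat.card_eq_fintype_card] at h
    have hne : (Nat.card Z : Res M) ≠ 0 := by
      rw [Ne, CharP.cast_eq_zero_iff (Res M) p, hZ, Nat.card_zpowers]
      exact hg
    have h2 := mul_left_cancel₀ hne h
    rw [CharP.natCast_eq_natCast (Res M) p] at h2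
    have hid : inv ≤ d := (Submodule.finrank_le _).trans (Module.finrank_fin_fun ℂ).le
    have heqd : inv = d := (h2.eq_of_lt_of_lt hd (lt_of_le_of_lt hid hd)).symm
    have htop : Representation.invariants (ρ.comp Z.subtype) = ⊤ :=
      Submodule.eq_top_of_finrank_eq (by rw [← hinv, heqd, Module.finrank_fin_fun])
    have hρg : ρ g = 1 := LinearMap.ext fun v => by
      have hv : v ∈ Representation.invariants (ρ.comp Z.subtype) := htop ▸ Submodule.mem_top
      exact hv ⟨g, Subgroup.mem_zpowers g⟩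
    rw [hχ, Representation.char_one, Representation.character, hρg, LinearMap.trace_one]
  have hinj : Function.Injective τ := by
    rw [← MonoidHom.ker_eq_bot_iff]
    refine hO _ inferInstance ?_
    rintro ⟨g, hg⟩
    obtain ⟨u, r, hu, hr, hcm, rfl⟩ := exists_decomp (p := p) g
    have hu' := hu
    obtain ⟨n, hn⟩ := hu'
    refine ⟨n, Subtype.ext ?_⟩
    show (u * r) ^ p ^ n = 1
    have hker : (u * r) ^ p ^ n ∈ τ.ker := pow_mem hg _
    rw [hcm.mul_pow, ← hn, pow_orderOf_eq_one, one_mul] at hker ⊢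
    rw [← hn] at *
    exact hreg _ (fun h => hr (h.trans (orderOf_pow_dvd _))) hker
  let b := Module.finBasis (Res M) V
  have hm : Module.finrank (Res M) V = ∑ δ ∈ Δ, D.d δ := by
    rw [Module.finrank_pi_fintype]
    simp only [Module.finrank_fin_fun]
    exact Finset.sum_coe_sort Δ fun δ => D.d δ
  refine ⟨Module.finrank (Res M) V, ((b.equivFun.conjAlgEquiv (Res M)).toMonoidHom).comp τ, hm ▸ hle,
    ((b.equivFun.conjAlgEquiv (Res M)).injective).comp hinj, ?_⟩
  -- values of the reduced character at all elements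
  have hint : ∀ g : G, IsIntegral ℤ (χ g) := fun g => IsChar.isIntegral (G := G) ⟨d, ρ, rfl⟩ g
  have hF : ∀ g : G, rv M (χ g) = ∑ δ, (w δ : Res M) * D.tau δ (single g 1) := by
    intro g
    obtain ⟨u, r, hu, hr, hcm, rfl⟩ := exists_decomp (p := p) g
    obtain ⟨j, hj⟩ := id hu
    have hcong := CfsgLib.Char.Exceptional.congr_mod_pPart (G := G) (χ := χ) ⟨d, ρ, rfl⟩ hM hcm (j := j)
      (by rw [← hj]; exact pow_orderOf_eq_one u)
    have e1 : rv M (χ (u * r)) = rv M (χ r) := by
      have h1 := mem_localRing_of_isIntegral (M := M) (hint (u * r))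
      have h2 := mem_localRing_of_isIntegral (M := M) (hint r)
      have h3 := (CfsgLib.Blocks.PrimeSylow.memLocalIdeal_iff_rv (M := M)).1 (coe_memLocalIdeal_iff.2 hcong)
      have h4 : rv M (χ (u * r) - χ r) = 0 := h3.2
      rwa [CfsgLib.Blocks.PrimeSylow.rv_sub h1 h2, sub_eq_zero] at h4
    rw [e1, hsum r hr]
    have e2 : ∀ δ, ((∑ θ : IrrCharacter G, mu θ * D.dec θ δ : ℕ) : ℂ) * D.phi p δ r =
        (((w δ : localRing M) * D.phiO δ r : localRing M) : ℂ) := fun δ => by
      rw [Subring.coe_mul, D.phiO_coe (p := p) δ hr]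
      simp [hw]
    rw [Finset.sum_congr rfl fun δ _ => e2 δ, ← AddSubmonoidClass.coe_finsetSum, rv_coe, map_sum]
    refine Finset.sum_congr rfl fun δ _ => ?_
    rw [map_mul, map_natCast, D.phiO_res hM δ hr, D.tau_single_mul δ hu hcm]
  -- the polynomial over the local ring
  let cc : Fin f → localRing M := fun i =>
    ⟨c i, mem_localRing_of_pow_eq_one (Fact.out : p.Prime).ne_zero (hc i)⟩
  set Q₀ : Polynomial (localRing M) := ∏ i, (Polynomial.X - Polynomial.C (cc i)) with hQ₀
  have hQC : Q₀.map (localRing M).subtype = ∏ i, (Polynomial.X - Polynomial.C (c i)) := by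
    simp [hQ₀, Polynomial.map_prod, cc]
  have hQR : Q₀.map (resHom M) = (Polynomial.X - 1) ^ f := by
    rw [hQ₀, Polynomial.map_prod, Finset.prod_congr rfl (g := fun _ => (Polynomial.X - 1 : Polynomial (Res M))),
      Finset.prod_const, Finset.card_univ, Fintype.card_fin]
    intro i _
    have h1 : resHom M (cc i) = 1 := by
      rw [← rv_coe]
      exact CfsgLib.Blocks.PrimeSylow.rv_root_unity hM (k := 1) (by rw [pow_one]; exact hc i)
    simp [h1]
  set a : MonoidAlgebra (Res M) G := Polynomial.aeval (single x (1 : Res M)) ((Polynomial.X - 1 : Polynomial (Res M)) ^ f) with ha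
  have hterm : ∀ g : G, (∑ δ, (w δ : Res M) • D.tau δ) (a * single g 1) = 0 := by
    intro g
    rw [ha, ← hQR, Polynomial.aeval_def, Polynomial.eval₂_map, Polynomial.eval₂_eq_sum_range, Finset.sum_mul,
      map_sum]
    have e1 : ∀ i : ℕ, (∑ δ, (w δ : Res M) • D.tau δ)
        ((((algebraMap (Res M) (MonoidAlgebra (Res M) G)).comp (resHom M)) (Q₀.coeff i) *
          single x (1 : Res M) ^ i) * single g 1) =
        rv M ((Q₀.coeff i : ℂ) * χ (x ^ i * g)) := by
      intro i
      rw [RingHom.comp_apply, mul_assoc, single_pow, one_pow, single_mul_single, mul_one, ← Algebra.smul_def,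
        map_smul, smul_eq_mul, LinearMap.sum_apply,
        rv_mul (Q₀.coeff i).2 (mem_localRing_of_isIntegral (hint _)), rv_coe, hF]
      simp only [LinearMap.smul_apply, smul_eq_mul]
    rw [Finset.sum_congr rfl fun i _ => e1 i, ← rv_sum _ _ fun i _ =>
      mul_mem (Q₀.coeff i).2 (mem_localRing_of_isIntegral (hint _))]
    have e2 : ∑ i ∈ Finset.range (Q₀.natDegree + 1), (Q₀.coeff i : ℂ) * χ (x ^ i * g) = 0 := by
      have h1 : Polynomial.aeval (ρ x) (Q₀.map (localRing M).subtype) = 0 := by rw [hQC]; exact hQ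
      rw [Polynomial.aeval_def, Polynomial.eval₂_map, Polynomial.eval₂_eq_sum_range] at h1
      have h2 := congrArg (fun A : Module.End ℂ (Fin d → ℂ) => LinearMap.trace ℂ _ (A * ρ g)) h1
      simp only [Finset.sum_mul, map_sum, RingHom.comp_apply, ← Algebra.smul_def, smul_mul_assoc, map_smul,
        smul_eq_mul, zero_mul, map_zero] at h2
      rw [← h2]
      refine Finset.sum_congr rfl fun i _ => ?_
      rw [hχ, Representation.character, map_mul, map_pow]
      rfl
    rw [e2]
    exact CfsgLib.Blocks.PrimeSylow.rv_zero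
  have hall : (∑ δ, (w δ : Res M) • D.tau δ).comp (LinearMap.mulLeft (Res M) a) = 0 :=
    MonoidAlgebra.lhom_ext' fun g => LinearMap.ext fun r => by
      have e : (single g r : MonoidAlgebra (Res M) G) = r • single g 1 := by rw [smul_single', mul_one]
      rw [LinearMap.zero_comp, LinearMap.zero_apply, LinearMap.comp_apply, MonoidAlgebra.lsingle_apply, e, map_smul, LinearMap.comp_apply, LinearMap.mulLeft_apply, hterm, smul_zero]
  have hψ : ∀ δ : Δ, D.ψ a δ = 0 := by
    rintro ⟨δ, hδ⟩
    have hw0 : w δ ≠ 0 := (Finset.mem_filter.1 hδ).2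
    have hwlt : w δ < p := by
      refine lt_of_le_of_lt ?_ hd
      rw [← hdeg]
      exact le_trans (Nat.le_mul_of_pos_right _ (Nat.pos_of_ne_zero (D.hd δ).out))
        (Finset.single_le_sum (f := fun δ => w δ * D.d δ) (fun _ _ => Nat.zero_le _) (Finset.mem_univ δ))
    have hwR : (w δ : Res M) ≠ 0 := by
      rw [Ne, CharP.cast_eq_zero_iff (Res M) p]
      exact fun h => hw0 (Nat.eq_zero_of_dvd_of_lt h hwlt)
    ext i j
    obtain ⟨e, he⟩ := D.surj (Pi.single δ (Matrix.single j i (1 : Res M)))
    have h := congrArg (fun L => L e) hall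
    simp only [LinearMap.comp_apply, LinearMap.mulLeft_apply, LinearMap.sum_apply, LinearMap.smul_apply,
      smul_eq_mul, LinearMap.zero_apply, D.tau_apply, map_mul, Pi.mul_apply, he] at h
    rw [Finset.sum_eq_single δ (fun δ' _ hne => by rw [Pi.single_eq_of_ne hne]; simp)
      (fun hi => absurd (Finset.mem_univ _) hi), Pi.single_eq_same, Matrix.trace_mul_single] at h
    simp only [MulOpposite.smul_eq_mul_unop, MulOpposite.unop_op, mul_one] at h
    exact (mul_eq_zero.1 h).resolve_left hwR
  -- back to the representation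
  let evΔ : MonoidAlgebra (Res M) G →ₐ[Res M] Module.End (Res M) V :=
    MonoidAlgebra.lift (Res M) (Module.End (Res M) V) G τ
  have hev : ∀ e : MonoidAlgebra (Res M) G, ∀ (v : V) (δ : Δ),
      evΔ e v δ = Matrix.toLin' (D.ψ e δ) (v δ) := fun e v δ => by
    induction e using MonoidAlgebra.induction_on with
    | of g =>
      simp only [evΔ, MonoidAlgebra.of_apply, MonoidAlgebra.lift_single, one_smul]
      rfl
    | add e₁ e₂ h₁ h₂ =>
      simp only [map_add, LinearMap.add_apply, Pi.add_apply]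
      change evΔ e₁ v δ + evΔ e₂ v δ = _
      rw [h₁, h₂]
    | smul r e h =>
      simp only [map_smul, LinearMap.smul_apply, Pi.smul_apply]
      change r • (evΔ e v δ) = _
      rw [h]
  have hτ0 : (τ x - 1) ^ f = 0 := by
    have e : evΔ a = (τ x - 1) ^ f := by
      rw [ha, map_pow, map_sub, Polynomial.aeval_X, map_one, map_pow, map_sub, map_one]
      simp [evΔ]
    rw [← e]
    exact LinearMap.ext fun v => funext fun δ => by rw [hev, hψ δ, map_zero, LinearMap.zero_apply]; rfl
  have h := congrArg (b.equivFun.conjAlgEquiv (Res M)) hτ0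
  rw [map_pow, map_sub, map_one, map_zero] at h
  exact h

end CfsgLib.Char.FeitSmall
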