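import Cfsg.Agent.Lib.Char.FeitSmall.Cyclotomy

/-!
# Gauss periods

`per e l j` is the sum of `exp (2 π i y j / p)` over the `y` with `y ^ e = l`.
-/

set_option autoImplicit false

open Finset
open scoped ComplexConjugate

namespace CfsgLib.Char.FeitSmall

variable {p : ℕ} [Fact p.Prime] {e t : ℕ}

/-- The Gauss periods. -/
noncomputable def per (e : ℕ) (l j : ZMod p) : ℂ := ∑ y ∈ level e l, ZMod.stdAddChar (y * j)

theorem sum_std_mul (b : ZMod p) :
    ∑ x : ZMod p, (ZMod.stdAddChar (x * b) : ℂ) = if b = 0 then (p : ℂ) else 0 := by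
  rw [AddChar.sum_mulShift b (ZMod.isPrimitive_stdAddChar p), ZMod.card]
  split_ifs <;> simp

theorem conj_std (x : ZMod p) : conj (ZMod.stdAddChar x : ℂ) = ZMod.stdAddChar (-x) :=
  (AddChar.map_neg_eq_conj _ x).symm

theorem sum_std_erase {b : ZMod p} (hb : b ≠ 0) :
    ∑ y ∈ univ.erase (0 : ZMod p), (ZMod.stdAddChar (y * b) : ℂ) = -1 := by
  rw [sum_erase_eq_sub (mem_univ _), sum_std_mul, if_neg hb, zero_mul, AddChar.map_zero_eq_one, zero_sub]

section Setting

variable (het : e * t = p - 1)
include het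

theorem ne_zero_of_mem_level {a y : ZMod p} (ha : a ∈ roots p t) (hy : y ∈ level e a) : y ≠ 0 := fun h =>
  ne_zero_of_mem_roots (t_pos het) ha (by rw [← mem_level.1 hy, h, zero_pow (e_pos het).ne'])

theorem sum_per {j : ZMod p} (hj : j ≠ 0) : ∑ l ∈ roots p t, per e l j = -1 := by
  rw [← sum_std_erase hj, ← sum_fiberwise_of_maps_to (g := fun x : ZMod p => x ^ e) (t := roots p t)
    fun x hx => pow_mem_roots het (ne_of_mem_erase hx)]
  refine sum_congr rfl fun l hl => sum_congr ?_ fun _ _ => rfl
  ext x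
  simp only [mem_filter, mem_erase, mem_univ, and_true, mem_level]
  exact ⟨fun h => ⟨ne_zero_of_mem_level het hl (mem_level.2 h), h⟩, fun h => h.2⟩

theorem sum_units_per {l : ZMod p} (hl : l ∈ roots p t) :
    ∑ j ∈ univ.erase (0 : ZMod p), per e l j = -(e : ℂ) := by
  simp only [per]
  rw [sum_comm, sum_congr rfl (g := fun _ => (-1 : ℂ)) fun y hy => ?_, sum_const, card_level het hl,
    nsmul_eq_mul, mul_neg, mul_one]
  rw [← sum_std_erase (ne_zero_of_mem_level het hl hy)]
  exact sum_congr rfl fun j _ => by rw [mul_comm]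

omit het in
theorem per_mul {k : ZMod p} (hk : k ≠ 0) (l j : ZMod p) : per e l (k * j) = per e (k ^ e * l) j := by
  refine sum_bij' (fun y _ => k * y) (fun y _ => y / k) ?_ ?_ ?_ ?_ ?_
  · intro y hy
    exact mem_level.2 (by rw [mul_pow, mem_level.1 hy])
  · intro y hy
    exact mem_level.2 (by rw [div_pow, mem_level.1 hy, mul_div_cancel_left₀ _ (pow_ne_zero _ hk)])
  · exact fun y _ => mul_div_cancel_left₀ y hk
  · exact fun y _ => mul_div_cancel₀ y hk
  · exact fun y _ => congrArg _ (by ring)

omit het in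
theorem conj_per (l j : ZMod p) : conj (per e l j) = per e ((-1) ^ e * l) j := by
  rw [← per_mul (neg_ne_zero.2 one_ne_zero), per, map_sum, per]
  exact sum_congr rfl fun y _ => by rw [conj_std]; exact congrArg _ (by ring)

/-- Products of periods. -/
theorem per_one_mul {a : ZMod p} (ha : a ∈ roots p t) (j : ZMod p) :
    per e 1 j * per e a j = (if a = (-1) ^ e then (e : ℂ) else 0) +
      ∑ l ∈ roots p t, (cyc e a l : ℂ) * per e l j := by
  classical
  have he := e_pos het
  have h1 : per e 1 j * per e a j =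
      ∑ x ∈ level e a, ∑ v ∈ level e 1, (ZMod.stdAddChar (v * (1 + x) * j) : ℂ) := by
    rw [per, per, sum_mul_sum, sum_comm (s := level e a)]
    refine sum_congr rfl fun v hv => ?_
    have hv0 : v ≠ 0 := ne_zero_of_mem_level het one_mem_roots hv
    refine sum_bij' (fun w _ => w / v) (fun x _ => v * x) ?_ ?_ ?_ ?_ ?_
    · intro w hw
      exact mem_level.2 (by rw [div_pow, mem_level.1 hw, mem_level.1 hv, div_one])
    · intro x hx
      exact mem_level.2 (by rw [mul_pow, mem_level.1 hv, one_mul, mem_level.1 hx])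
    · exact fun w _ => mul_div_cancel₀ w hv0
    · exact fun x _ => mul_div_cancel_left₀ x hv0
    · intro w _
      rw [mul_add, mul_one, mul_div_cancel₀ w hv0, add_mul, AddChar.map_add_eq_mul]
  rw [h1, ← sum_filter_add_sum_filter_not (level e a) (fun x => 1 + x ≠ 0), add_comm]
  congr 1
  · rw [sum_congr rfl (g := fun _ => (e : ℂ)) fun x hx => ?_]
    · split_ifs with h
      · rw [show (level e a).filter (fun x => ¬ 1 + x ≠ 0) = {-1} from ?_, sum_singleton]
        ext x
        simp only [mem_filter, mem_level, not_not, mem_singleton]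
        exact ⟨fun hx => eq_neg_of_add_eq_zero_right hx.2, fun hx => by subst hx; exact ⟨h.symm, add_neg_cancel 1⟩⟩
      · refine sum_eq_zero fun x hx => absurd ?_ h
        obtain ⟨hx1, hx2⟩ := mem_filter.1 hx
        rw [← mem_level.1 hx1, eq_neg_of_add_eq_zero_right (not_not.1 hx2)]
    · rw [not_not.1 (mem_filter.1 hx).2]
      simp [card_level het (one_mem_roots (p := p) (t := t))]
  · rw [← sum_fiberwise_of_maps_to (g := fun x : ZMod p => (1 + x) ^ e) (t := roots p t)
      fun x hx => pow_mem_roots het (mem_filter.1 hx).2]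
    refine sum_congr rfl fun l hl => ?_
    rw [sum_congr rfl (g := fun _ => per e l j) fun x hx => ?_, sum_const, nsmul_eq_mul, cyc]
    · congr 2
      refine congrArg card ?_
      ext x
      simp only [mem_filter, mem_level]
      refine ⟨fun h => ⟨h.1.1, h.2⟩, fun h => ⟨⟨h.1, fun h0 => ne_zero_of_mem_roots (t_pos het) hl ?_⟩, h.2⟩⟩
      rw [← h.2, h0, zero_pow he.ne']
    · obtain ⟨hx1, hx2⟩ := mem_filter.1 hx
      have hx0 := (mem_filter.1 hx1).2
      refine sum_bij' (fun v _ => v * (1 + x)) (fun y _ => y / (1 + x)) ?_ ?_ ?_ ?_ ?_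
      · intro v hv
        exact mem_level.2 (by rw [mul_pow, mem_level.1 hv, one_mul, hx2])
      · intro y hy
        exact mem_level.2 (by rw [div_pow, mem_level.1 hy, hx2, div_self (ne_zero_of_mem_roots (t_pos het) hl)])
      · exact fun v _ => mul_div_cancel_right₀ v hx0
      · exact fun y _ => div_mul_cancel₀ y hx0
      · exact fun v _ => rfl

/-- The sum over the units of a product of periods. -/
theorem sum_units_per_mul {a : ZMod p} (ha : a ∈ roots p t) :
    ∑ j ∈ univ.erase (0 : ZMod p), per e 1 j * per e a j =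
      (if a = (-1) ^ e then (p : ℂ) * e else 0) - (e : ℂ) ^ 2 := by
  rw [sum_congr rfl fun j _ => per_one_mul het ha j, sum_add_distrib, sum_const,
    card_erase_of_mem (mem_univ _), card_univ, ZMod.card, sum_comm,
    sum_congr rfl fun l hl => (by rw [← mul_sum, sum_units_per het hl] :
      ∑ j ∈ univ.erase (0 : ZMod p), (cyc e a l : ℂ) * per e l j = (cyc e a l : ℂ) * -(e : ℂ)),
    ← sum_mul]
  have h := congrArg (Nat.cast : ℕ → ℂ) (sum_cyc het ha)
  push_cast at h
  have h1 := (Fact.out : p.Prime).one_le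
  split_ifs at h ⊢ with hc
  · rw [nsmul_eq_mul, Nat.cast_sub h1, Nat.cast_one]
    linear_combination (-(e : ℂ)) * h
  · rw [smul_zero]
    linear_combination (-(e : ℂ)) * h

/-- The periods are independent, up to their sum. -/
theorem eq_of_sum_per (A : ℂ) (c : ZMod p → ℂ)
    (h : ∀ j : ZMod p, j ≠ 0 → A + ∑ l ∈ roots p t, c l * per e l j = 0) :
    ∀ l ∈ roots p t, c l = A := by
  classical
  set g : ZMod p → ℂ := fun y => if y = 0 then 0 else c (y ^ e) - A with hg
  have hG : ∀ j : ZMod p, j ≠ 0 → ∑ y : ZMod p, g y * ZMod.stdAddChar (y * j) = 0 := by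
    intro j hj
    rw [← add_sum_erase _ _ (mem_univ (0 : ZMod p))]
    simp only [hg, if_true, zero_mul, zero_add]
    rw [sum_congr rfl fun y hy => show (if y = 0 then 0 else c (y ^ e) - A) * (ZMod.stdAddChar (y * j) : ℂ) =
      c (y ^ e) * ZMod.stdAddChar (y * j) - A * ZMod.stdAddChar (y * j) by
        rw [if_neg (ne_of_mem_erase hy), sub_mul],
      sum_sub_distrib, ← mul_sum, sum_std_erase hj,
      ← sum_fiberwise_of_maps_to (g := fun x : ZMod p => x ^ e) (t := roots p t)
        fun x hx => pow_mem_roots het (ne_of_mem_erase hx)]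
    refine Eq.trans ?_ (h j hj)
    rw [add_comm A, mul_neg, mul_one, sub_neg_eq_add]
    congr 1
    refine sum_congr rfl fun l hl => ?_
    rw [per, mul_sum]
    refine sum_congr ?_ fun y hy => ?_
    · ext x
      simp only [mem_filter, mem_erase, mem_univ, and_true, mem_level]
      exact ⟨fun h => h.2, fun h => ⟨ne_zero_of_mem_level het hl (mem_level.2 h), h⟩⟩
    · rw [mem_level.1 hy]
  -- the inversion
  have hinv : ∀ y₀ : ZMod p, (p : ℂ) * g y₀ = ∑ y : ZMod p, g y := by
    intro y₀
    calc (p : ℂ) * g y₀ = ∑ y : ZMod p, g y * ∑ j : ZMod p, (ZMod.stdAddChar (j * (y - y₀)) : ℂ) := by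
          rw [sum_congr rfl fun y _ => congrArg (g y * ·) (sum_std_mul (y - y₀))]
          simp only [sub_eq_zero, mul_ite, mul_zero, sum_ite_eq', mem_univ, if_true]
          ring
      _ = ∑ j : ZMod p, (ZMod.stdAddChar (-(j * y₀)) : ℂ) * ∑ y : ZMod p, g y * ZMod.stdAddChar (y * j) := by
          simp only [mul_sum]
          rw [sum_comm]
          refine sum_congr rfl fun j _ => sum_congr rfl fun y _ => ?_
          rw [show j * (y - y₀) = y * j + -(j * y₀) by ring, AddChar.map_add_eq_mul]
          ring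
      _ = ∑ y : ZMod p, g y := by
          rw [sum_eq_single (0 : ZMod p) (fun j _ hj => by rw [hG j hj, mul_zero])
            (fun hi => absurd (mem_univ _) hi)]
          simp
  have hS : ∑ y : ZMod p, g y = 0 := by
    rw [← hinv 0]
    simp [hg]
  intro l hl
  obtain ⟨y, hy⟩ : (level e l).Nonempty := card_pos.1 (by rw [card_level het hl]; exact e_pos het)
  have h0 := hinv y
  rw [hS] at h0
  have h1 := (mul_eq_zero.1 h0).resolve_left (Nat.cast_ne_zero.2 (Fact.out : p.Prime).ne_zero)
  simp only [hg] at h1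
  rwa [if_neg (ne_zero_of_mem_level het hl hy), mem_level.1 hy, sub_eq_zero] at h1

end Setting

end CfsgLib.Char.FeitSmall
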