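import Cfsg.Agent.Lib.Char.HalfDegree.Main

/-!
# A quotient from a unipotent element with small index of nilpotency

The quotient theorem for representations of dimension at most `(p - 1) / 2` only needs
`(ρ x - 1) ^ n = 0` with `2 n + 1 ≤ p` and dimension less than `p - 1`.
-/

set_option autoImplicit false
set_option maxHeartbeats 800000

universe u

namespace CfsgLib.Char.FeitSmall

open Cfsg Matrix Polynomial CfsgLib.Classical.Dickson CfsgLib.Char.HalfDegree

section Conj

variable {k : Type*} [Field k] {p : ℕ} [Fact p.Prime] [CharP k p]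
  {V : Type*} [AddCommGroup V] [Module k V] [FiniteDimensional k V]

/-- The properties of the logarithm needed later. -/
theorem conj_data_of_nil {n : ℕ} (hn : 2 * n + 1 ≤ p) {x : Module.End k V} (hu : (x - 1) ^ n = 0)
    (hV : Module.finrank k V + 1 < p) {x' : Module.End k V} (hxx : x * x' = 1)
    (hxp : x ^ p = 1) (hx : x ≠ 1) :
    (conjMap x x' - 1) ^ (p - 2) = 0 ∧ (conjMap x x' - 1) (logEl k p x) = 0 ∧
      (∃ w, ((conjMap x x' - 1) ^ 2 : Module.End k (Module.End k V)) w = logEl k p x) ∧
      (∀ w, ((conjMap x x' - 1) ^ 3 : Module.End k (Module.End k V)) w ≠ logEl k p x) ∧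
      ∀ z, Commute z (logEl k p x) → Commute z x := by
  have hpp : p.Prime := Fact.out
  have hp3 : 3 ≤ p := by
    rcases Nat.eq_zero_or_pos (Module.finrank k V) with h | h
    · have := Module.finrank_zero_iff.1 h
      exact absurd (Subsingleton.elim x 1) hx
    · omega
  haveI : Nontrivial (Module.End k V) := ⟨x, 1, hx⟩
  haveI : CharP (Module.End k V) p :=
    charP_of_injective_algebraMap (FaithfulSMul.algebraMap_injective k (Module.End k V)) p
  have hnil : IsNilpotent (x - 1) :=
    ⟨p, by rw [sub_pow_char_of_commute p (Commute.one_right x), hxp, one_pow, sub_self]⟩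
  obtain ⟨Q, hQ, hcQ, hQe⟩ := exists_unit_factor (k := k) (p := p) (by omega) x hnil
  have hxx' : x' * x = 1 := mul_eq_one_comm.1 hxx
  set D := adMap (x - 1) with hD
  set T := LinearMap.mulRight k x' with hT
  have hTu : IsUnit T := ⟨⟨T, LinearMap.mulRight k x,
    by ext w; simp [hT, mul_assoc, hxx], by ext w; simp [hT, mul_assoc, hxx']⟩, rfl⟩
  have hcx : x' * (x - 1) = (x - 1) * x' := by rw [mul_sub, sub_mul, hxx, hxx', mul_one, one_mul]
  have hcT : Commute D T := LinearMap.ext fun w => by
    simp [hD, hT, adMap_apply, sub_mul, mul_assoc, hcx]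
  have hU : conjMap x x' - 1 = D * T := LinearMap.ext fun w => by
    simp [hD, hT, adMap_apply, conjMap_apply, sub_mul, mul_sub, mul_assoc, hxx']
  have hDn : D ^ (p - 2) = 0 := by
    rw [hD, adMap, sub_eq_add_neg]
    refine Commute.add_pow_eq_zero_of_add_le_succ_of_pow_eq_zero
      (@Commute.neg_right (Module.End k (Module.End k V)) _ _ _ _ (LinearMap.commute_mulLeft_right _ _))
      (m := n) (n := n)
      ?_ ?_ (by omega)
    · rw [LinearMap.pow_mulLeft, hu]; ext; simp
    · refine (neg_pow (R := Module.End k (Module.End k V)) (LinearMap.mulRight k (x - 1)) _).trans ?_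
      rw [LinearMap.pow_mulRight, hu]; ext; simp
  have hinv : ∀ {F : Module.End k (Module.End k V)}, IsUnit F → ∀ v, ∃ w, F w = v := fun hF v => by
    obtain ⟨F, rfl⟩ := hF
    exact ⟨(↑F⁻¹ : Module.End k (Module.End k V)) v, by rw [← Module.End.mul_apply, F.mul_inv, Module.End.one_apply]⟩
  have hinj : ∀ {F : Module.End k (Module.End k V)}, IsUnit F → ∀ v, F v = 0 → v = 0 := fun hF v h => by
    obtain ⟨F, rfl⟩ := hF
    have e := congrArg (fun f : Module.End k (Module.End k V) => f v) F.inv_mul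
    simp only [Module.End.mul_apply, Module.End.one_apply, h, map_zero] at e
    exact e.symm
  have hy : IsNilpotent (logEl k p x) := by
    obtain ⟨r, hr⟩ := exists_logEl_expansion (k := k) (p := p) (by omega) x
    rw [hr, pow_two, mul_assoc, show -(x - 1) + (x - 1) * ((x - 1) * aeval (x - 1) r) =
      (x - 1) * (-1 + (x - 1) * aeval (x - 1) r) by rw [mul_add, mul_neg_one]]
    refine Commute.isNilpotent_mul_right ?_ hnil
    refine Commute.add_right (Commute.neg_right (Commute.one_right _)) (Commute.mul_right (Commute.refl _) ?_)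
    have h := (Commute.all (X : k[X]) r).map (aeval (x - 1))
    rwa [aeval_X] at h
  have hcomm : ∀ z, Commute z (logEl k p x) → Commute z x := by
    intro z hz
    have h0 : adMap (logEl k p x) z = 0 := by rw [adMap_apply, hz.eq, sub_self]
    rw [hQe, hcQ.eq, Module.End.mul_apply] at h0
    have h1 := hinj hQ _ h0
    rw [hD, adMap_apply, sub_mul, mul_sub, one_mul, mul_one, sub_sub_sub_cancel_right, sub_eq_zero] at h1
    exact h1.symm
  have hy0 : logEl k p x ≠ 0 := by
    intro h
    have hall : ∀ z : Module.End k V, z * (x - 1) = (x - 1) * z := fun z => by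
      have := hcomm z (by rw [h]; exact Commute.zero_right z)
      rw [mul_sub, sub_mul, this.eq, mul_one, one_mul]
    apply hx
    rw [← sub_eq_zero]
    ext v
    by_contra hne
    obtain ⟨l, hl⟩ := Module.Projective.exists_dual_ne_zero k hne
    -- a central nilpotent endomorphism of a vector space is zero
    have hstep : ∀ j, ((x - 1) ^ j : Module.End k V) v ≠ 0 := by
      intro j
      induction j with
      | zero => intro h0; exact hne (by simp only [pow_zero, Module.End.one_apply] at h0; rw [h0]; simp)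
      | succ j ih =>
        intro h0
        apply ih
        have e := congrArg (fun f : Module.End k V => f v)
          (hall (LinearMap.smulRight l (((x - 1) ^ j) v)))
        simp only [Module.End.mul_apply, LinearMap.smulRight_apply, map_smul] at e
        rw [← Module.End.mul_apply (x - 1), ← pow_succ', h0, smul_zero] at e
        exact (smul_eq_zero.1 e).resolve_left hl
    exact hstep _ (by rw [hu]; rfl)
  refine ⟨?_, ?_, ?_, ?_, hcomm⟩
  · rw [hU, hcT.mul_pow, hDn, zero_mul]
  · rw [hU, hcT.eq, Module.End.mul_apply]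
    have h0 : adMap (logEl k p x) (logEl k p x) = 0 := sub_self _
    rw [hQe, hcQ.eq, Module.End.mul_apply] at h0
    rw [hinj hQ _ h0, map_zero]
  · obtain ⟨w, hw⟩ := exists_adMap_sq_eq (p := p) (by omega : Module.finrank k V < p) hy
    rw [← Module.End.mul_apply, hQe, ← pow_two, hcQ.mul_pow, Module.End.mul_apply] at hw
    obtain ⟨w', hw'⟩ := hinv (hTu.pow 2) ((Q ^ 2) w)
    exact ⟨w', by rw [hU, hcT.mul_pow, Module.End.mul_apply, hw', hw]⟩
  · intro w hw
    rw [hU, hcT.mul_pow, Module.End.mul_apply] at hw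
    obtain ⟨w', hw'⟩ := hinv (hQ.pow 3) ((T ^ 3) w)
    rw [← hw', ← Module.End.mul_apply, ← hcQ.mul_pow, ← hQe] at hw
    refine adMap_cube_ne hpp (by omega : Module.finrank k V + 1 < p) hy hy0 w' ?_
    simpa [pow_succ, Module.End.mul_apply] using hw

end Conj

theorem exists_quotient_of_nil {G : Type u} [Group G] [Finite G] {p : ℕ} [Fact p.Prime]
    (hsq : ¬ p ^ 2 ∣ Nat.card G) {x : G} (hx : orderOf x = p)
    (hnn : ∃ g : G, g ∉ Subgroup.normalizer (Subgroup.zpowers x : Set G))
    {k : Type*} [Field k] [IsAlgClosed k] [CharP k p] {m n : ℕ} (hn : 2 * n + 1 ≤ p) (hm : m + 1 < p)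
    (ρ : G →* Module.End k (Fin m → k)) (hρ : Function.Injective ρ)
    (hxn : ((ρ x - 1) ^ n : Module.End k (Fin m → k)) = 0) :
    5 ≤ p ∧ ∃ K : Subgroup G, K.Normal ∧ x ∉ K ∧ (∀ h ∈ K, ∀ g : G, Commute h (g * x * g⁻¹)) ∧
      ((∃ ψ : G →* ProjectiveSpecialLinearGroup (Fin 2) (ZMod p), Function.Surjective ψ ∧ ψ.ker = K) ∨
        (∃ ψ : G →* ProjGenLinGroup (Fin 2) (ZMod p), Function.Surjective ψ ∧ ψ.ker = K)) := by
  classical
  have hp : p.Prime := Fact.out
  have hxp : x ^ p = 1 := hx ▸ pow_orderOf_eq_one x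
  have hx1 : x ≠ 1 := fun h => hp.ne_one (by rw [← hx, h, orderOf_one])
  have hρx : ρ x ≠ 1 := fun h => hx1 (hρ (by rw [h, map_one]))
  have hρp : ρ x ^ p = 1 := by rw [← map_pow, hxp, map_one]
  have hp5 : 5 ≤ p := by
    rcases n with _ | _ | n
    · rw [pow_zero] at hxn
      exact absurd (by rw [← one_mul (ρ x), ← mul_one (1 : Module.End k (Fin m → k)), hxn]; simp) hρx
    · exact absurd (sub_eq_zero.1 (by simpa using hxn)) hρx
    · omega
  set N := Subgroup.normalizer (Subgroup.zpowers x : Set G) with hN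
  let τ : G →* Module.End k (Module.End k (Fin m → k)) :=
    { toFun := fun g => conjMap (ρ g) (ρ g⁻¹)
      map_one' := LinearMap.ext fun w => by simp [conjMap_apply]
      map_mul' := fun g h => LinearMap.ext fun w => by
        simp [conjMap_apply, mul_assoc] }
  have hτ : ∀ g w, τ g w = ρ g * w * ρ g⁻¹ := fun g w => conjMap_apply _ _ _
  set y := logEl k p (ρ x) with hy
  obtain ⟨hUp, hUy, hw0, hnot, hcom⟩ := conj_data_of_nil (p := p) hn hxn
    (by rw [Module.finrank_fin_fun]; exact hm) (x' := ρ x⁻¹)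
    (by rw [← map_mul, mul_inv_cancel, map_one]) hρp hρx
  have hy0 : y ≠ 0 := fun h => hnot 0 (by rw [map_zero]; exact h.symm)
  have heig : ∀ (g : G) (b : ZMod p), b ≠ 0 → g * x = x ^ b.val * g →
      τ g y = ZMod.castHom (dvd_refl p) k b • y := fun g b hb h => by
    have h1 := mul_logEl (k := k) (z := ρ g) hρp hb (by rw [← map_mul, h, map_mul, map_pow])
    rw [hτ, h1, smul_mul_assoc, mul_assoc, ← map_mul, mul_inv_cancel, map_one, mul_one]
  obtain ⟨σ, v, B, hv0, hσv, hvv, hσx, hσy, hsym, hnd, hinv⟩ :=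
    exists_three_dim hp5 hsq hx τ hy0 hUy hw0 hnot hUp heig
  have h2 : (2 : k) ≠ 0 := fun h => by
    have := Nat.le_of_dvd (by norm_num) ((CharP.cast_eq_zero_iff k p 2).1 (by simpa using h))
    omega
  obtain ⟨φ, hφ⟩ := exists_mob_hom h2 σ B hsym hnd hinv hv0 hvv
  have hcentral : ∀ g c : G, Commute c x → c = g * x * g⁻¹ → g ∈ N := fun g c hc he => by
    have hcN : c ∈ N := fun n => by
      constructor
      · rintro ⟨i, rfl⟩
        exact ⟨i, by rw [(hc.zpow_right i).eq, mul_inv_cancel_right]⟩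
      · rintro ⟨i, hi⟩
        refine ⟨i, ?_⟩
        have h1 : n = c⁻¹ * (c * n * c⁻¹) * c := by group
        show x ^ i = n
        rw [h1, ← show x ^ i = c * n * c⁻¹ from hi, mul_assoc, ← (hc.zpow_right i).eq, inv_mul_cancel_left]
    have h := mem_normalizer_of_conj_mem hsq hx (g := g⁻¹) (by rw [inv_inv, ← he]; exact hcN)
    exact inv_inv g ▸ Subgroup.inv_mem _ h
  -- minus the identity is not in the image
  have hneg : ∀ g, σ g ≠ -1 := by
    intro g hg
    have hgy : τ g y = (-1 : k) • y := hσy g (-1) (by rw [hg]; simp)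
    have hanti : ρ g * y = (-1 : k) • (y * ρ g) := by
      have e := congrArg (fun z => z * ρ g) hgy
      simp only [hτ, mul_assoc, ← map_mul, inv_mul_cancel, map_one, mul_one, smul_mul_assoc] at e
      exact e
    have hanti' : ρ g⁻¹ * y = (-1 : k) • (y * ρ g⁻¹) := by
      have e : y * ρ g⁻¹ = (-1 : k) • (ρ g⁻¹ * y) := by
        calc y * ρ g⁻¹ = ρ g⁻¹ * (ρ g * y) * ρ g⁻¹ := by
              rw [← mul_assoc (ρ g⁻¹), ← map_mul, inv_mul_cancel, map_one, one_mul]
          _ = (-1 : k) • (ρ g⁻¹ * y) := by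
              rw [hanti, mul_smul_comm, smul_mul_assoc, mul_assoc, mul_assoc y, ← map_mul ρ g g⁻¹,
                mul_inv_cancel, map_one, mul_one]
      rw [e, smul_smul, show (-1 : k) * -1 = 1 by ring, one_smul]
    have hxy : ρ x * y = y * ρ x := by
      have e : ρ x * y * ρ x⁻¹ - y = 0 := by
        have := hUy
        rw [LinearMap.sub_apply, conjMap_apply, Module.End.one_apply] at this
        exact this
      rw [sub_eq_zero] at e
      have e' := congrArg (fun z => z * ρ x) e
      simpa [mul_assoc, ← map_mul] using e'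
    have hzy : Commute (ρ (g * x * g⁻¹)) y := by
      show ρ (g * x * g⁻¹) * y = y * ρ (g * x * g⁻¹)
      rw [map_mul, map_mul, mul_assoc, hanti', mul_smul_comm, mul_assoc (ρ g) (ρ x), ← mul_assoc (ρ x) y, hxy,
        mul_assoc y, ← mul_assoc (ρ g) y, hanti, smul_mul_assoc, smul_smul, show (-1 : k) * -1 = 1 by ring,
        one_smul]
      simp only [mul_assoc]
    have hc : Commute (g * x * g⁻¹) x := hρ (by
      rw [map_mul ρ (g * x * g⁻¹) x, map_mul ρ x (g * x * g⁻¹)]
      exact (hcom _ hzy).eq)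
    obtain ⟨b, hb0, hb⟩ := exists_exponent hx (hcentral g _ hc rfl)
    have hb1 : b = -1 := (ZMod.castHom (dvd_refl p) k).injective
      (smul_left_injective k hy0 (show _ • y = ((ZMod.castHom (dvd_refl p) k) (-1)) • y by
        rw [← heig g b hb0 hb, hgy, map_neg, map_one]))
    have hxinv : σ x = (σ x) ^ b.val := by
      have e := congrArg σ hb
      rw [map_mul, map_mul, map_pow, hg] at e
      have e' : -σ x = -((σ x) ^ b.val) := by
        refine LinearMap.ext fun a => ?_
        have := congrArg (fun f : Module.End k (Fin 3 → k) => f a) e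
        simpa using this
      exact neg_injective e'
    have hsq1 : σ x ^ 2 = 1 := by
      have hσp : σ x ^ p = 1 := by rw [← map_pow, hxp, map_one]
      have hbv : (b.val + 1) % p = 0 := by
        have : ((b.val + 1 : ℕ) : ZMod p) = 0 := by rw [Nat.cast_add, Nat.cast_one, ZMod.natCast_zmod_val, hb1, neg_add_cancel]
        rwa [ZMod.natCast_eq_zero_iff, Nat.dvd_iff_mod_eq_zero] at this
      calc σ x ^ 2 = σ x ^ b.val * σ x := by rw [← hxinv, pow_two]
        _ = σ x ^ (b.val + 1) := (pow_succ _ _).symm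
        _ = 1 := by rw [pow_eq_pow_mod _ hσp, hbv, pow_zero]
    refine hσx ?_
    have hσp : σ x ^ p = 1 := by rw [← map_pow, hxp, map_one]
    obtain ⟨j, hj⟩ := hp.odd_of_ne_two (by omega)
    rwa [hj, pow_succ, pow_mul, hsq1, one_pow, one_mul] at hσp
  have hker : ∀ g, φ g = 1 ↔ σ g = 1 := fun g => (hφ g).trans ⟨fun h => h.resolve_right (hneg g), Or.inl⟩
  have hxK : x ∉ φ.ker := fun h => hσx ((hker x).1 h)
  have hcomx : ∀ h ∈ φ.ker, Commute h x := fun h hh => by
    have hy' : τ h y = (1 : k) • y := hσy h 1 (by rw [(hker h).1 hh, Module.End.one_apply, one_smul])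
    rw [one_smul, hτ] at hy'
    have h1 : Commute (ρ h) y := by
      show ρ h * y = y * ρ h
      have e := congrArg (fun z => z * ρ h) hy'
      simpa [mul_assoc, ← map_mul] using e
    exact hρ (by rw [map_mul, map_mul]; exact (hcom _ h1).eq)
  have hcomm : ∀ h ∈ φ.ker, ∀ g : G, Commute h (g * x * g⁻¹) := fun h hh g => by
    have h1 := hcomx _ ((inferInstance : φ.ker.Normal).conj_mem h hh g⁻¹)
    have h2 := congrArg (fun z => g * z * g⁻¹) h1.eq
    show h * (g * x * g⁻¹) = g * x * g⁻¹ * h
    simpa [mul_assoc] using h2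
  -- the image has two Sylow subgroups
  obtain ⟨g₀, hg₀⟩ := hnn
  have hordφ : ∀ g, orderOf (φ.rangeRestrict (g * x * g⁻¹)) = p := fun g => by
    refine orderOf_eq_prime ?_ ?_
    · rw [← map_pow, conj_pow, hxp, mul_one, mul_inv_cancel, map_one]
    · intro h
      have h' : g * x * g⁻¹ ∈ φ.ker := congrArg Subtype.val h
      have := (inferInstance : φ.ker.Normal).conj_mem _ h' g⁻¹
      exact hxK (by simpa [mul_assoc] using this)
  have hsqφ : ¬ p ^ 2 ∣ Nat.card φ.range := fun h => hsq (h.trans (Subgroup.card_range_dvd φ))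
  have hab : φ.rangeRestrict (g₀ * x * g₀⁻¹) ∉ Subgroup.zpowers (φ.rangeRestrict (1 * x * 1⁻¹)) := by
    rintro ⟨i, hi⟩
    rw [one_mul, inv_one, mul_one] at hi
    have hi' : φ (x ^ i) = φ (g₀ * x * g₀⁻¹) := by
      have := congrArg Subtype.val hi
      simpa [Subgroup.coe_zpow] using this
    have hk : (x ^ i)⁻¹ * (g₀ * x * g₀⁻¹) ∈ φ.ker := by rw [MonoidHom.mem_ker, map_mul, map_inv, hi', inv_mul_cancel]
    refine hg₀ (hcentral g₀ _ ?_ rfl)
    have := ((Commute.refl x).zpow_left i).mul_left (hcomx _ hk)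
    rwa [mul_inv_cancel_left] at this
  haveI : Finite φ.range := Finite.of_surjective _ φ.rangeRestrict_surjective
  refine ⟨hp5, φ.ker, inferInstance, hxK, hcomm, ?_⟩
  rcases mob_cases hp5 φ.range hsqφ (hordφ 1) (hordφ g₀) hab with ⟨⟨e⟩⟩ | ⟨⟨e⟩⟩
  · refine Or.inl ⟨e.toMonoidHom.comp φ.rangeRestrict, e.surjective.comp φ.rangeRestrict_surjective, ?_⟩
    exact (MonoidHom.ker_mulEquiv_comp φ.rangeRestrict e).trans φ.ker_rangeRestrict
  · refine Or.inr ⟨e.toMonoidHom.comp φ.rangeRestrict, e.surjective.comp φ.rangeRestrict_surjective, ?_⟩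
    exact (MonoidHom.ker_mulEquiv_comp φ.rangeRestrict e).trans φ.ker_rangeRestrict

end CfsgLib.Char.FeitSmall
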