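import Cfsg.Agent.Lib.Blocks.PrimeSylow.SmallDegree
import Cfsg.Agent.Lib.Blocks.PrimeSylow.Families
import Cfsg.Agent.Lib.Char.FeitSmall.Periods
import Cfsg.Agent.Lib.Char.FeitSmall.ModNil
import Cfsg.Agent.Lib.Char.FeitSmall.Quotient
import Cfsg.Agent.Lib.Char.FeitDegree.Setup
import Cfsg.Agent.Lib.Char.HalfDegree.Main

/-!
# A faithful character of degree less than `p - 1`

Either the degree is `(p - 1) / 2` and the group is `PSL(2, p)` over its centre, or the degree is
`p - e`, the centralizer of `P` is `P × Z` and the values on `P` are negatives of Gauss periods.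
-/

set_option autoImplicit false
set_option maxHeartbeats 1600000

universe u

open scoped ComplexConjugate

namespace CfsgLib.Char.FeitSmall

open Cfsg CfsgLib.Char CfsgLib.Blocks CfsgLib.Blocks.PrimeSylow

variable {G : Type u} [Group G] [Fintype G] {p : ℕ} [Fact p.Prime]

/-- The normalised data of a character of degree `p - e`. -/
structure Data (P : Subgroup G) (u : G) (ζ : IrrCharacter G) (e t : ℕ) : Prop where
  het : e * t = p - 1
  two_le : 2 ≤ e
  setup : CfsgLib.Blocks.PrimeSylow.Setup p P (Subgroup.center G)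
  not_normal : ¬ P.Normal
  mem : u ∈ P
  ord : orderOf u = p
  faith : ∀ g : G, (ζ : G → ℂ) g = (ζ : G → ℂ) 1 → g = 1
  index : (Subgroup.centralizer (P : Set G)).relIndex (Subgroup.normalizer (P : Set G)) = e
  deg : charDegree (ζ : G → ℂ) + e = p
  exists_conj : ∀ c : ZMod p, c ^ e = 1 →
    ∃ g ∈ Subgroup.normalizer (P : Set G), g * u * g⁻¹ = u ^ c.val
  conj_pow : ∀ g ∈ Subgroup.normalizer (P : Set G), ∀ c : ZMod p, g * u * g⁻¹ = u ^ c.val → c ^ e = 1
  value : ∀ j : ℕ, (j : ZMod p) ≠ 0 → (ζ : G → ℂ) (u ^ j) = -per e 1 (j : ZMod p)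

/-- An element conjugating `u` to a power of it normalizes `P`. -/
theorem mem_normalizer_of_conj {P V : Subgroup G} (h : Setup p P V) {u n : G} (hu : u ∈ P) (hu1 : u ≠ 1)
    {i : ℕ} (hi : n * u * n⁻¹ = u ^ i) : n ∈ Subgroup.normalizer (P : Set G) := by
  have hne : u ^ i ≠ 1 := fun e => hu1 (conj_eq_one_iff.1 (hi.trans e))
  refine Subgroup.mem_normalizer_iff.2 fun y => ⟨fun hy => ?_, fun hy => ?_⟩
  · rw [← h.zpowers_eq hu hu1] at hy
    obtain ⟨k, rfl⟩ := hy
    show n * u ^ k * n⁻¹ ∈ P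
    rw [← conj_zpow, hi]
    exact P.zpow_mem (P.pow_mem hu i) k
  · rw [← h.zpowers_eq (P.pow_mem hu i) hne] at hy
    obtain ⟨k, hk⟩ := hy
    have hk' : (u ^ i) ^ k = n * y * n⁻¹ := hk
    rw [← hi, conj_zpow] at hk'
    have hy' : y = u ^ k := (mul_left_cancel (mul_right_cancel hk')).symm
    rw [hy']
    exact P.zpow_mem hu k

/-- The eigenvalues of a power sum with nonnegative coefficients lie in its support. -/
theorem aeval_eq_zero_of_power_sums {V : Type*} [AddCommGroup V] [Module ℂ V] [FiniteDimensional ℂ V]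
    (ρ : Representation ℂ G V) (x : G) (hx : x ^ p = 1) {ι : Type*} [Fintype ι] (a : ι → ℕ) (z : ι → ℂ)
    (hz : ∀ l, z l ^ p = 1) (hsum : ∀ k : ℕ, ρ.character (x ^ k) = ∑ l, (a l : ℂ) * z l ^ k)
    {κ : Type*} [Fintype κ] (c : κ → ℂ) (hc : ∀ l, a l ≠ 0 → ∃ i, c i = z l) :
    Polynomial.aeval (ρ x) (∏ i, (Polynomial.X - Polynomial.C (c i))) = (0 : Module.End ℂ V) := by
  classical
  set R : Polynomial ℂ := ∏ i, (Polynomial.X - Polynomial.C (c i)) with hR
  obtain ⟨b, ε, hb, hε⟩ := CfsgLib.Char.exists_eigenbasis ρ x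
  have hp0 : p ≠ 0 := (Fact.out : p.Prime).ne_zero
  have hεp : ∀ i, ε i ^ p = 1 := fun i => by
    obtain ⟨q, hq⟩ := orderOf_dvd_of_pow_eq_one hx
    rw [hq, pow_mul, hε i, one_pow]
  have hpow : ∀ (k : ℕ) i, ρ (x ^ k) (b i) = ε i ^ k • b i := by
    intro k i
    induction k with
    | zero => simp
    | succ k ih => rw [pow_succ', map_mul, Module.End.mul_apply, ih, map_smul, hb, smul_smul, pow_succ]
  have htr : ∀ k : ℕ, ρ.character (x ^ k) = ∑ i, ε i ^ k := by
    intro k
    rw [Representation.character, LinearMap.trace_eq_matrix_trace ℂ b, Matrix.trace]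
    exact Finset.sum_congr rfl fun i _ => by
      rw [Matrix.diag_apply, LinearMap.toMatrix_apply, hpow k i, map_smul, Finsupp.smul_apply,
        Module.Basis.repr_self, Finsupp.single_eq_same, smul_eq_mul, mul_one]
  have hQ : ∀ Q : Polynomial ℂ, ∑ i, Q.eval (ε i) = ∑ l, (a l : ℂ) * Q.eval (z l) := by
    intro Q
    induction Q using Polynomial.induction_on' with
    | add f g hf hg => simp only [Polynomial.eval_add, mul_add, Finset.sum_add_distrib, hf, hg]
    | monomial k r =>
      simp only [Polynomial.eval_monomial, ← Finset.mul_sum, ← htr, hsum]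
      rw [Finset.mul_sum]
      exact Finset.sum_congr rfl fun l _ => by ring
  have hconj : ∀ w : ℂ, w ^ p = 1 →
      ((R.map (starRingEnd ℂ)).comp (Polynomial.X ^ (p - 1))).eval w = conj (R.eval w) := by
    intro w hw
    have h1 : w ^ (p - 1) = conj w := by
      have hw0 : w ≠ 0 := fun h => by rw [h, zero_pow hp0] at hw; exact zero_ne_one hw
      rw [← Complex.inv_eq_conj (Complex.norm_eq_one_of_pow_eq_one hw hp0)]
      refine eq_inv_of_mul_eq_one_left ?_
      rw [← pow_succ, Nat.sub_add_cancel (Nat.one_le_iff_ne_zero.2 hp0), hw]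
    rw [Polynomial.eval_comp, Polynomial.eval_pow, Polynomial.eval_X, h1, Polynomial.eval_map,
      Polynomial.eval₂_at_apply]
  have h0 : ∑ i, Complex.normSq (R.eval (ε i)) = 0 := by
    apply Complex.ofReal_injective
    rw [Complex.ofReal_sum, Complex.ofReal_zero]
    calc ∑ i, (Complex.normSq (R.eval (ε i)) : ℂ)
        = ∑ i, (R * (R.map (starRingEnd ℂ)).comp (Polynomial.X ^ (p - 1))).eval (ε i) :=
          Finset.sum_congr rfl fun i _ => by
            rw [Polynomial.eval_mul, hconj _ (hεp i), Complex.mul_conj]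
      _ = ∑ l, (a l : ℂ) * (R * (R.map (starRingEnd ℂ)).comp (Polynomial.X ^ (p - 1))).eval (z l) := hQ _
      _ = 0 := Finset.sum_eq_zero fun l _ => by
            by_cases hl : a l = 0
            · rw [hl, Nat.cast_zero, zero_mul]
            · obtain ⟨i, hi⟩ := hc l hl
              have : R.eval (z l) = 0 := by
                rw [hR, Polynomial.eval_prod]
                exact Finset.prod_eq_zero (Finset.mem_univ i) (by simp [hi])
              rw [Polynomial.eval_mul, this, zero_mul, mul_zero]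
  refine b.ext fun i => ?_
  rw [Module.End.aeval_apply_of_hasEigenvector
    (⟨Module.End.mem_eigenspace_iff.2 (hb i), b.ne_zero i⟩ : Module.End.HasEigenvector (ρ x) (ε i) (b i))]
  rw [Complex.normSq_eq_zero.1 ((Finset.sum_eq_zero_iff_of_nonneg fun i _ => Complex.normSq_nonneg _).1 h0 i
    (Finset.mem_univ i)), zero_smul, LinearMap.zero_apply]

theorem std_pow (x : ZMod p) (j : ℕ) :
    (ZMod.stdAddChar x : ℂ) ^ j = ZMod.stdAddChar (x * (j : ZMod p)) := by
  rw [← AddChar.map_nsmul_eq_pow, nsmul_eq_mul, mul_comm]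

/-- Degree less than `p - 1`: the two possible shapes. -/
theorem cases_of_small {P : Subgroup G} (hcard : Nat.card P = p) (hS : ¬ p ∣ P.index) (hp7 : 7 < p)
    (hnn : ¬ P.Normal) (ζ : IrrCharacter G) (hfaith : ∀ g : G, (ζ : G → ℂ) g = (ζ : G → ℂ) 1 → g = 1)
    (hd : charDegree (ζ : G → ℂ) + 1 < p) :
    (2 * charDegree (ζ : G → ℂ) + 1 = p ∧
        2 * (Subgroup.centralizer (P : Set G)).relIndex (Subgroup.normalizer (P : Set G)) + 1 = p ∧
        Nonempty ((G ⧸ Subgroup.center G) ≃* Matrix.ProjectiveSpecialLinearGroup (Fin 2) (ZMod p))) ∨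
      ∃ (u : G) (e t : ℕ), Data (p := p) P u ζ e t := by
  classical
  have hp : p.Prime := Fact.out
  have hp2 := hp.two_le
  obtain ⟨V, h⟩ := CfsgLib.Blocks.PrimeSylow.exists_setup hcard hS
  obtain ⟨M, hM⟩ := CfsgLib.ZStar.exists_isPModular hp
  haveI : M.IsMaximal := hM.2.1
  have := Fintype.ofFinite P
  have := Fintype.ofFinite V
  have := Fintype.ofFinite (IrrCharacter G)
  have := Fintype.ofFinite (IrrCharacter P)
  have := Fintype.ofFinite (IrrCharacter V)
  set d := charDegree (ζ : G → ℂ) with hddef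
  have hd0 : 0 < d := Blocks.charDegree_pos ζ
  set f := (Subgroup.centralizer (P : Set G)).relIndex (Subgroup.normalizer (P : Set G)) with hfdef
  have hfdvd : f ∣ p - 1 := h.centralizer_relIndex_dvd
  have hf1 : 1 ≤ f := Nat.pos_of_dvd_of_pos hfdvd (by omega)
  have hfle : f ≤ p - 1 := Nat.le_of_dvd (by omega) hfdvd
  have hcardNT : (Finset.univ.erase (trivChar P)).card = p - 1 := by
    rw [Finset.card_erase_of_mem (Finset.mem_univ _), Finset.card_univ, ← Nat.card_eq_fintype_card,
      h.card_lchar]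
  obtain ⟨η, hη⟩ := h.exists_mem_blockSet hM (χ := ζ) fun hdvd => by
    have := Nat.le_of_dvd hd0 hdvd
    omega
  obtain ⟨-, Y, ε, w, θ, hε, -, -, hYθ, -, -, -, hX, hY, -, -⟩ :=
    h.exists_structure hM η (B := blockOf M (ζ : G → ℂ)) (isPBlock_blockOf ζ) (mem_blockOf_self ζ) hη
  obtain ⟨u₀, hu₀⟩ : ∃ x : P, x ≠ 1 := by
    have : Nontrivial P := Finite.one_lt_card_iff_nontrivial.1 (hcard ▸ hp.one_lt)
    exact exists_ne 1
  -- not all nontrivial multiplicities vanish
  have hker : ¬ ∀ l, l ≠ trivChar P → h.aMult ζ l = 0 := by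
    intro hall
    refine hu₀ (Subtype.ext (hfaith _ ?_))
    have hval : ∀ x : P, (ζ : G → ℂ) x = (h.aMult ζ (trivChar P) : ℂ) := fun x => by
      rw [h.apply_eq_sum_aMult ζ x, Finset.sum_eq_single (trivChar P)
        (fun l _ hl => by rw [hall l hl, Nat.cast_zero, zero_mul]) (fun hi => absurd (Finset.mem_univ _) hi),
        trivChar_apply, mul_one]
    have h1 := hval 1
    rw [OneMemClass.coe_one] at h1
    rw [hval, h1]
  set a₀ := h.aMult ζ (trivChar P) with ha₀
  by_cases hζY : ζ ∉ Y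
  · exfalso
    obtain ⟨hw, hwc⟩ := hX ζ ⟨mem_blockOf_self ζ, hζY⟩
    set K := Nat.card (orbitV P η) * charDegree (η : V → ℂ) with hK
    have hK1 : 1 ≤ K := by
      have h1 : 0 < Nat.card (orbitV P η) := Nat.card_pos_iff.2 ⟨⟨⟨η, h.mem_orbit_self η⟩⟩, inferInstance⟩
      exact Nat.mul_pos h1 (Blocks.charDegree_pos η)
    have hl : ∀ l, l ≠ trivChar P → (h.aMult ζ l : ℤ) - a₀ = w ζ * K := fun l hl =>
      h.aMult_sub_of_const hM hη hwc hl
    refine hker fun l hl' => ?_
    by_contra hne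
    have hall : ∀ l' ∈ Finset.univ.erase (trivChar P), 1 ≤ h.aMult ζ l' := fun l' hl'' => by
      have e1 := hl l hl'
      have e2 := hl l' (Finset.ne_of_mem_erase hl'')
      omega
    have h1 : p - 1 ≤ d := by
      rw [← hcardNT, hddef, ← h.sum_aMult ζ, Finset.card_eq_sum_ones]
      exact (Finset.sum_le_sum hall).trans (Finset.sum_le_sum_of_subset (Finset.subset_univ _))
    omega
  rw [not_not] at hζY
  obtain ⟨μ, hμ, hζμ⟩ := hYθ ζ hζY
  obtain ⟨ho, hi⟩ := h.aMult_sub_of_rel hM hη hε hμ (hζμ ▸ fun l hl => (hY l μ hl hμ).2.1)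
    (hζμ ▸ fun l hl => (hY l μ hl hμ).2.2)
  set aμ := h.aMult ζ μ with haμ
  set O := Finset.univ.filter fun l => InN P μ l with hO
  have hOc : O.card = f := h.card_inN μ hμ
  have hOne : ∀ l ∈ O, l ≠ trivChar P := by
    intro l hl
    obtain ⟨g, hg, e⟩ := (Finset.mem_filter.1 hl).2
    rintro rfl
    refine hμ (irr_ext fun z => ?_)
    have := congrFun e ⟨g⁻¹ * z * g, (Subgroup.mem_normalizer_iff''.1 hg z).1 z.2⟩
    rw [h.cjFunP_apply _ hg, trivChar_apply] at this
    rw [trivChar_apply, ← this]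
    exact congrArg _ (Subtype.ext (by simp [mul_assoc]))
  have hval : ∀ l, h.aMult ζ l = if l ∈ O then aμ else a₀ := by
    intro l
    split_ifs with hl
    · obtain ⟨g, hg, e⟩ := (Finset.mem_filter.1 hl).2
      obtain rfl : l = ⟨_, h.isIrr_cjFunP μ hg⟩ := Subtype.ext e.symm
      exact h.aMult_conj ζ μ hg
    · by_cases hl1 : l = trivChar P
      · rw [hl1]
      · exact ho l hl1 fun hin => hl (Finset.mem_filter.2 ⟨Finset.mem_univ _, hin⟩)
  have hdeg : (d : ℤ) = (p - f : ℤ) * a₀ + f * aμ := by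
    rw [hddef, ← h.sum_aMult ζ, Nat.cast_sum, Finset.sum_congr rfl fun l _ => by rw [hval l],
      ← Finset.sum_add_sum_compl O]
    rw [Finset.sum_congr rfl (s₁ := O) (g := fun _ => (aμ : ℤ)) fun l hl => by rw [if_pos hl],
      Finset.sum_congr rfl (s₁ := Oᶜ) (g := fun _ => (a₀ : ℤ)) fun l hl => by
        rw [if_neg (Finset.mem_compl.1 hl)],
      Finset.sum_const, Finset.sum_const, Finset.card_compl, hOc, ← Nat.card_eq_fintype_card, h.card_lchar,
      nsmul_eq_mul, nsmul_eq_mul, Nat.cast_sub (by omega : f ≤ p)]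
    ring
  have hdη : (1 : ℤ) ≤ charDegree (η : V → ℂ) := by exact_mod_cast Blocks.charDegree_pos η
  have hdp : (d : ℤ) + 2 ≤ p := by exact_mod_cast hd
  have hfz : (1 : ℤ) ≤ f := by exact_mod_cast hf1
  have hfpz : (f : ℤ) + 1 ≤ p := by omega
  have hhalf : f < p - 1 → 2 * f + 1 ≤ p := by
    intro hlt
    obtain ⟨c, hc⟩ := hfdvd
    have : 2 ≤ c := by
      rcases c with _ | _ | c
      · omega
      · omega
      · omega
    have : f * 2 ≤ f * c := Nat.mul_le_mul_left f this
    omega
  -- the generator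
  obtain ⟨φ, hφ⟩ := exists_linear_of_degree_one (IsIrr.isCharacter μ.2) (h.lchar_one μ)
  have hlroot : ∀ (l : IrrCharacter P) (x : P), (l : P → ℂ) x ^ p = 1 := fun l x => by
    rw [← h.lchar_pow l x p, show x ^ p = 1 from Subtype.ext (h.pow_eq_one x.2), h.lchar_one]
  obtain ⟨u, hu1, huμ⟩ : ∃ u : P, u ≠ 1 ∧ (μ : P → ℂ) u = ZMod.stdAddChar (1 : ZMod p) := by
    have hω : IsPrimitiveRoot ((μ : P → ℂ) u₀) p := IsPrimitiveRoot.iff_orderOf.2
      (orderOf_eq_prime (hlroot μ u₀) fun e => hu₀ (h.lchar_injective hμ (e.trans (h.lchar_one μ).symm)))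
    have hz : (ZMod.stdAddChar (1 : ZMod p) : ℂ) ^ p = 1 := by
      rw [std_pow, one_mul, ZMod.natCast_self, AddChar.map_zero_eq_one]
    obtain ⟨i, -, hi⟩ := hω.eq_pow_of_pow_eq_one hz
    refine ⟨u₀ ^ i, fun e => ?_, by rw [h.lchar_pow, hi]⟩
    have h1 : (ZMod.stdAddChar (1 : ZMod p) : ℂ) = 1 := by
      rw [← hi, ← h.lchar_pow, e, h.lchar_one]
    exact one_ne_zero ((ZMod.injective_stdAddChar) (h1.trans (AddChar.map_zero_eq_one _).symm))
  have hu1' : (u : G) ≠ 1 := fun e => hu1 (Subtype.ext e)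
  have hup : (u : G) ^ p = 1 := h.pow_eq_one u.2
  have huo : orderOf (u : G) = p := h.orderOf_eq u.2 hu1'
  have hgen : ∀ l l' : IrrCharacter P, (l : P → ℂ) u = (l' : P → ℂ) u → l = l' := by
    intro l l' e
    refine irr_ext fun x => ?_
    obtain ⟨i, hi⟩ : ∃ i : ℕ, u ^ i = x :=
      (mem_powers_iff_mem_zpowers.2 ((zpowers_eq_top_of_prime_card hcard hu1).symm ▸ Subgroup.mem_top x))
    rw [← hi, h.lchar_pow, h.lchar_pow, e]
  have hconjv : ∀ n ∈ Subgroup.normalizer (P : Set G), ∀ c : ZMod p, n * (u : G) * n⁻¹ = (u : G) ^ c.val →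
      cjFun (μ : P → ℂ) n u = ZMod.stdAddChar c := by
    intro n hn c hc
    rw [h.cjFunP_apply _ hn, show (⟨n * u * n⁻¹, _⟩ : P) = u ^ c.val from Subtype.ext (by simpa using hc),
      h.lchar_pow, huμ, std_pow, one_mul, ZMod.natCast_zmod_val]
  have hOexp : ∀ l ∈ O, ∃ c : ZMod p, (l : P → ℂ) u = ZMod.stdAddChar c ∧ c ^ f = 1 ∧
      ∃ g ∈ Subgroup.normalizer (P : Set G), g * (u : G) * g⁻¹ = (u : G) ^ c.val := by
    intro l hl
    obtain ⟨g, hg, e⟩ := (Finset.mem_filter.1 hl).2
    obtain ⟨i, hi⟩ : ∃ i : ℕ, u ^ i = (⟨g * u * g⁻¹, (Subgroup.mem_normalizer_iff.1 hg u).1 u.2⟩ : P) :=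
      (mem_powers_iff_mem_zpowers.2 ((zpowers_eq_top_of_prime_card hcard hu1).symm ▸ Subgroup.mem_top _))
    have hi' : g * (u : G) * g⁻¹ = (u : G) ^ ((i : ZMod p)).val := by
      rw [CfsgLib.Char.FeitDegree.pow_val_eq huo]
      exact (congrArg Subtype.val hi).symm
    refine ⟨i, ?_, ?_, g, hg, hi'⟩
    · rw [← e, hconjv g hg _ hi']
    · -- the normalizer modulo the centralizer has order `f`
      set C := Subgroup.centralizer (P : Set G)
      set N := Subgroup.normalizer (P : Set G)
      haveI : (C.subgroupOf N).Normal := inferInstance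
      have hgC : g ^ f ∈ C := by
        have h1 : (⟨g, hg⟩ : N) ^ f ∈ C.subgroupOf N := Subgroup.pow_index_mem _ _
        exact Subgroup.mem_subgroupOf.1 h1
      have hpow : ∀ k : ℕ, g ^ k * (u : G) * (g ^ k)⁻¹ = (u : G) ^ ((i : ZMod p) ^ k).val := by
        intro k
        induction k with
        | zero => simp [ZMod.val_one]
        | succ k ih =>
          calc g ^ (k + 1) * (u : G) * (g ^ (k + 1))⁻¹ = g * (g ^ k * u * (g ^ k)⁻¹) * g⁻¹ := by
                rw [pow_succ']; group
            _ = (g * u * g⁻¹) ^ ((i : ZMod p) ^ k).val := by rw [ih, conj_pow]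
            _ = (u : G) ^ ((i : ZMod p).val * ((i : ZMod p) ^ k).val) := by rw [hi', pow_mul]
            _ = _ := by
              rw [← CfsgLib.Char.FeitDegree.pow_val_eq huo ((i : ZMod p).val * _), Nat.cast_mul,
                ZMod.natCast_zmod_val, ZMod.natCast_zmod_val, ← pow_succ']
      have h2 := hpow f
      rw [← Subgroup.mem_centralizer_iff.1 hgC u u.2, mul_inv_cancel_right] at h2
      have h3 : (u : G) ^ 1 = (u : G) ^ ((i : ZMod p) ^ f).val := by rw [pow_one]; exact h2
      rw [pow_eq_pow_iff_modEq, huo, ← ZMod.natCast_eq_natCast_iff, ZMod.natCast_zmod_val, Nat.cast_one] at h3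
      exact h3.symm
  rcases hε with rfl | rfl
  · -- positive sign
    left
    have haμ1 : (a₀ : ℤ) + 1 ≤ aμ := by omega
    have hz0 : a₀ = 0 := by
      by_contra hne
      have : (1 : ℤ) ≤ a₀ := by omega
      nlinarith
    rw [hz0, Nat.cast_zero, mul_zero, zero_add] at hdeg
    have hdf : d = f * aμ := by exact_mod_cast hdeg
    have haμ1' : 1 ≤ aμ := by omega
    have hfd : f ≤ d := hdf ▸ Nat.le_mul_of_pos_right f haμ1'
    have h2f : 2 * f + 1 ≤ p := hhalf (by omega)
    obtain ⟨k, ρ, hρ⟩ := IsIrr.isCharacter ζ.2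
    have hkd : k = d := by
      have := congrFun hρ 1
      rw [apply_one_eq_charDegree, Representation.char_one, Module.finrank_fin_fun] at this
      exact_mod_cast this
    subst hkd
    let c : Fin f → ℂ := fun i => ((((O.equivFinOfCardEq hOc).symm i : O) : IrrCharacter P) : P → ℂ) u
    have hc : ∀ i, c i ^ p = 1 := fun i => hlroot _ u
    have hann := aeval_eq_zero_of_power_sums ρ (u : G) hup (fun l : IrrCharacter P => h.aMult ζ l)
      (fun l => (l : P → ℂ) u) (fun l => hlroot l u) (fun j => by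
        rw [hρ, ← Subgroup.coe_pow, h.apply_eq_sum_aMult ζ (u ^ j)]
        exact Finset.sum_congr rfl fun l _ => by rw [h.lchar_pow]) c fun l hl => by
      have hlO : l ∈ O := by
        by_contra hn
        exact hl (by rw [hval, if_neg hn, hz0])
      exact ⟨O.equivFinOfCardEq hOc ⟨l, hlO⟩, by simp [c]⟩
    have hO' : ∀ K : Subgroup G, K.Normal → IsPGroup p K → K = ⊥ := by
      intro K hK hKp
      by_contra hne
      obtain ⟨n, hn⟩ := hKp.exists_card_eq
      have hn0 : n ≠ 0 := fun e => hne (Subgroup.card_eq_one.1 (by rw [hn, e, pow_zero]))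
      obtain ⟨x, hx⟩ := exists_prime_orderOf_dvd_card' p (hn ▸ dvd_pow_self p hn0 : p ∣ Nat.card K)
      have hxo : p ∣ orderOf (x : G) := by rw [Subgroup.orderOf_coe, hx]
      obtain ⟨y, hy, hy1, v, hv, hc⟩ := h.exists_singular hxo
      obtain ⟨g, hg⟩ := isConj_iff.1 hc
      have hyv : y * v ∈ K := hg ▸ hK.conj_mem _ x.2 g
      have hvK : (y * v) ^ p = v ^ p := by rw [(h.commute hy hv).mul_pow, h.pow_eq_one hy, one_mul]
      have h1 : (y * v) ^ p = 1 := by
        rw [← hg, conj_pow, ← Subgroup.coe_pow, ← hx, pow_orderOf_eq_one, Subgroup.coe_one, mul_one,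
          mul_inv_cancel]
      have hv1 : v = 1 := by
        rw [hvK] at h1
        have h2 := orderOf_dvd_of_pow_eq_one h1
        rcases (Nat.dvd_prime hp).1 h2 with h3 | h3
        · exact orderOf_eq_one_iff.1 h3
        · exact absurd h3.symm.dvd (h.not_dvd_orderOf hv)
      rw [hv1, mul_one] at hyv
      refine hnn ?_
      have hPK : P ≤ K := h.zpowers_eq hy hy1 ▸ Subgroup.zpowers_le.2 hyv
      have hdvd : Nat.card K ∣ Nat.card P := by
        rw [hn, hcard]
        rcases Nat.lt_or_ge n 2 with h2 | h2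
        · rw [show n = 1 by omega, pow_one]
        · exfalso
          have h3 : p ^ 2 ∣ Nat.card G :=
            (pow_dvd_pow p h2).trans (hn ▸ Subgroup.card_subgroup_dvd_card K)
          rw [← P.card_mul_index, hcard, sq] at h3
          exact hS ((Nat.mul_dvd_mul_iff_left hp.pos).1 h3)
      rwa [Subgroup.eq_of_le_of_card_ge hPK (Nat.le_of_dvd Nat.card_pos hdvd)]
    have hρf : ∀ g : G, ρ.character g = ρ.character 1 → g = 1 := fun g hg => hfaith g (by
      rw [← hρ]; exact hg)
    obtain ⟨m, σ, hmd, hσ, hσf⟩ :=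
      exists_mod_embedding_nil hM (by omega : d < p) ρ hρf hO' (u : G) c hc hann
    haveI := CfsgLib.Blocks.charP_residueField hM
    haveI : CharP (CfsgLib.Blocks.Res M) p := CfsgLib.Blocks.charP_residueField hM
    haveI : IsAlgClosed (CfsgLib.Blocks.Res M) := CfsgLib.Star.isAlgClosed_res
    have hzp : Subgroup.zpowers (u : G) = P := h.zpowers_eq u.2 hu1'
    have hsq : ¬ p ^ 2 ∣ Nat.card G := by
      rw [← P.card_mul_index, hcard, sq]
      exact fun hd' => hS ((Nat.mul_dvd_mul_iff_left hp.pos).1 hd')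
    have hg₀ : ∃ g : G, g ∉ Subgroup.normalizer (Subgroup.zpowers (u : G) : Set G) := by
      rw [hzp]
      by_contra hall
      push Not at hall
      exact hnn (Subgroup.normalizer_eq_top_iff.1 (eq_top_iff.2 fun g _ => hall g))
    obtain ⟨hp5, K, hKn, huK, hKcomm, hψ⟩ :=
      exists_quotient_of_nil hsq huo hg₀ h2f (by omega : m + 1 < p) σ hσ hσf
    have hKu : ∀ k ∈ K, Commute k (u : G) := fun k hk => by
      have := hKcomm k hk 1
      rwa [one_mul, inv_one, mul_one] at this
    -- squares occur as exponents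
    have hsqexp : ∀ s : ZMod p, s ≠ 0 → ∃ n : G, n * (u : G) * n⁻¹ = (u : G) ^ (s * s).val := by
      intro s hs
      rcases hψ with ⟨ψ, hsurj, hkerψ⟩ | ⟨ψ, hsurj, hkerψ⟩
      · have hord : orderOf (ψ (u : G)) = p := orderOf_eq_prime (by rw [← map_pow, hup, map_one])
          (fun h' => huK (hkerψ ▸ MonoidHom.mem_ker.2 h'))
        obtain ⟨n', hn'⟩ := CfsgLib.Char.HalfDegree.psl_conj_sq (by omega) hord hs
        obtain ⟨n, rfl⟩ := hsurj n'
        refine ⟨n, ?_⟩
        rw [CfsgLib.Char.HalfDegree.lift_conj hsq huo ψ (hkerψ ▸ huK) (fun k hk => hKu k (hkerψ ▸ hk)) hn',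
          mul_inv_cancel_right]
      · have hord : orderOf (ψ (u : G)) = p := orderOf_eq_prime (by rw [← map_pow, hup, map_one])
          (fun h' => huK (hkerψ ▸ MonoidHom.mem_ker.2 h'))
        obtain ⟨n', hn'⟩ := CfsgLib.Char.HalfDegree.pgl_conj (by omega) hord (mul_ne_zero hs hs)
        obtain ⟨n, rfl⟩ := hsurj n'
        refine ⟨n, ?_⟩
        rw [CfsgLib.Char.HalfDegree.lift_conj hsq huo ψ (hkerψ ▸ huK) (fun k hk => hKu k (hkerψ ▸ hk)) hn',
          mul_inv_cancel_right]
    have hQ : p - 1 ≤ 2 * f := by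
      rw [← hOc]
      set Q₁ := Finset.univ.erase (0 : ZMod p)
      set Q := Q₁.image fun a => a * a
      have hfib : Q₁.card ≤ 2 * Q.card := by
        refine Finset.card_le_mul_card_image Q₁ 2 fun b hb => ?_
        obtain ⟨a, -, rfl⟩ := Finset.mem_image.1 hb
        refine le_trans (Finset.card_le_card (t := ({a, -a} : Finset (ZMod p))) fun z hz => ?_)
          Finset.card_le_two
        have := (Finset.mem_filter.1 hz).2
        rcases mul_self_eq_mul_self_iff.1 this with h' | h' <;> simp [h']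
      rw [Finset.card_erase_of_mem (Finset.mem_univ _), Finset.card_univ, ZMod.card] at hfib
      refine hfib.trans (Nat.mul_le_mul_left 2 ?_)
      have hex : ∀ a ∈ Q, ∃ l ∈ O, (l : P → ℂ) u = ZMod.stdAddChar a := by
        intro a ha
        obtain ⟨s, hs, rfl⟩ := Finset.mem_image.1 ha
        obtain ⟨n, hn⟩ := hsqexp s (Finset.ne_of_mem_erase hs)
        have hnN := mem_normalizer_of_conj h u.2 hu1' hn
        exact ⟨⟨_, h.isIrr_cjFunP μ hnN⟩, Finset.mem_filter.2 ⟨Finset.mem_univ _, n, hnN, rfl⟩,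
          hconjv n hnN _ hn⟩
      haveI : Nonempty (IrrCharacter P) := ⟨μ⟩
      choose! L hL hLv using hex
      exact Finset.card_le_card_of_injOn L hL fun a ha b hb e => by
        have := hLv a ha
        rw [e, hLv b hb] at this
        exact (ZMod.injective_stdAddChar this).symm
    have hf2 : 2 * f + 1 = p := by omega
    have haμ2 : aμ = 1 := by
      by_contra hne
      have : f * 2 ≤ f * aμ := Nat.mul_le_mul_left f (by omega)
      omega
    have hdd : 2 * d + 1 = p := by rw [hdf, haμ2]; omega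
    refine ⟨hdd, hf2, ?_⟩
    refine CfsgLib.Char.HalfDegree.quotient_center p hp (hcard ▸ Subgroup.card_subgroup_dvd_card P) hsq
      (fun H hH hHc => ?_) (ζ : G → ℂ) (IsIrr.isCharacter ζ.2) hfaith hdd
    have := hO' H hH (IsPGroup.of_card (n := 1) (by rw [pow_one, hHc]))
    rw [this, Subgroup.card_bot] at hHc
    exact hp.ne_one hHc.symm
  · -- negative sign
    right
    have haμ0 : (aμ : ℤ) + 1 ≤ a₀ := by omega
    have hlt : f < p - 1 := by
      by_contra hge
      have hfeq : f = p - 1 := by omega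
      have hz : aμ = 0 := by
        by_contra hne
        have : (1 : ℤ) ≤ aμ := by omega
        have hfz' : (f : ℤ) = p - 1 := by omega
        rw [hfz'] at hdeg
        nlinarith
      refine hker fun l hl => ?_
      rw [hval, if_pos, hz]
      have hset : O = Finset.univ.erase (trivChar P) :=
        Finset.eq_of_subset_of_card_le (fun x hx => Finset.mem_erase.2 ⟨hOne x hx, Finset.mem_univ _⟩)
          (by rw [hcardNT, hOc, hfeq])
      rw [hset]
      exact Finset.mem_erase.2 ⟨hl, Finset.mem_univ _⟩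
    have h2f := hhalf hlt
    have h2fz : (2 * f + 1 : ℤ) ≤ p := by exact_mod_cast h2f
    have ha1 : a₀ = 1 := by
      by_contra hne
      have : (2 : ℤ) ≤ a₀ := by omega
      nlinarith [mul_nonneg (Int.natCast_nonneg f) (Int.natCast_nonneg aμ)]
    have haμz : aμ = 0 := by omega
    rw [ha1, haμz] at hdeg
    have hdf : d + f = p := by
      push_cast at hdeg
      omega
    have hη1 : charDegree (η : V → ℂ) = 1 := by omega
    -- only `η` occurs
    have hμη : 1 ≤ h.mu η ζ (trivChar P) := by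
      have h1 := h.coef_eq_mu_sub η ζ μ
      have h2 := (hY μ μ hμ hμ).2.1 ((h.rel_equiv _).refl μ)
      rw [hζμ] at h2
      omega
    have hasum : ∑ η' : IrrCharacter V, charDegree (η' : V → ℂ) * h.mu η' ζ (trivChar P) = 1 := ha1
    have honly : ∀ η' : IrrCharacter V, η' ≠ η → h.mu η' ζ (trivChar P) = 0 := by
      intro η' hne
      by_contra h0
      rw [← Finset.add_sum_erase _ _ (Finset.mem_univ η), hη1, one_mul] at hasum
      have h1 : charDegree (η' : V → ℂ) * h.mu η' ζ (trivChar P) ≤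
          ∑ x ∈ Finset.univ.erase η, charDegree (x : V → ℂ) * h.mu x ζ (trivChar P) :=
        Finset.single_le_sum (f := fun x : IrrCharacter V => charDegree (x : V → ℂ) * h.mu x ζ (trivChar P))
          (fun _ _ => Nat.zero_le _) (Finset.mem_erase.2 ⟨hne, Finset.mem_univ _⟩)
      have h2 : 1 ≤ charDegree (η' : V → ℂ) * h.mu η' ζ (trivChar P) :=
        Nat.mul_pos (Blocks.charDegree_pos η') (Nat.pos_of_ne_zero h0)
      omega
    have horb : ∀ η' ∈ orbitV P η, η' = η := by
      rintro η' ⟨n, hn, e⟩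
      obtain rfl : η' = ⟨_, h.isIrr_cjFun η.2 hn⟩ := Subtype.ext e
      by_contra hne
      have h1 := honly _ hne
      have ht : (⟨_, h.isIrr_cjFunP (trivChar P) hn⟩ : IrrCharacter P) = trivChar P := irr_ext fun x => by
        show cjFun ((trivChar P : IrrCharacter P) : P → ℂ) n x = _
        rw [h.cjFunP_apply _ hn, trivChar_apply, trivChar_apply]
      have h2 := h.mu_conj η ζ (trivChar P) hn
      rw [ht, h1] at h2
      omega
    have hother : ∀ η' : IrrCharacter V, η' ≠ η → ∀ l, h.mu η' ζ l = 0 := fun η' hne l => by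
      have h1 := h.coef_eq_mu_sub η' ζ l
      rw [h.coef_eq_zero_of_not_orbit hM hη (fun hin => hne (horb η' hin)), honly η' hne] at h1
      omega
    have hdv0 : ∀ η' : IrrCharacter V, η' ≠ η → ∀ x : P, dval (ζ : G → ℂ) (x : G) (η' : V → ℂ) = 0 := by
      intro η' hne x
      have e := classFunction_apply_eq_sum
        (h.isClassFunction_P fun x : P => dval (ζ : G → ℂ) (x : G) (η' : V → ℂ)) x
      simp only [h.mu_spec, hother η' hne, Nat.cast_zero, zero_mul, Finset.sum_const_zero] at e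
      exact e
    obtain ⟨χ, hχ⟩ := exists_linear_of_degree_one (IsIrr.isCharacter η.2)
      (by rw [apply_one_eq_charDegree, hη1, Nat.cast_one] : (η : V → ℂ) 1 = 1)
    have hprod : ∀ (x : P) (v : V), (ζ : G → ℂ) ((x : G) * v) = (η : V → ℂ) v * (ζ : G → ℂ) x := by
      have key : ∀ (x : P) (v : V),
          (ζ : G → ℂ) ((x : G) * v) = dval (ζ : G → ℂ) (x : G) (η : V → ℂ) * (η : V → ℂ) v := fun x v => by
        rw [h.apply_eq_sum (IsIrr.isClassFunction ζ.2) x.2 v, Finset.sum_eq_single η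
          (fun η' _ hne => by rw [hdv0 η' hne x, zero_mul]) (fun hi => absurd (Finset.mem_univ _) hi)]
      intro x v
      have h1 := key x 1
      rw [OneMemClass.coe_one, mul_one, apply_one_eq_charDegree η, hη1, Nat.cast_one, mul_one] at h1
      rw [key, ← h1]
      ring
    have hVZ : V = Subgroup.center G := by
      refine le_antisymm (fun v hv => ?_) fun z hz => (h.mem_V z).2 ⟨?_, ?_⟩
      · refine CfsgLib.CharDegree.mem_center_of_norm_eq ζ ((Subgroup.eq_bot_iff_forall _).2 fun x hx =>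
          hfaith x (CfsgLib.CharDegree.mem_kerSubgroup.1 hx)) ?_
        have h1 := hprod 1 ⟨v, hv⟩
        rw [OneMemClass.coe_one, one_mul, apply_one_eq_charDegree ζ] at h1
        rw [h1, norm_mul, Complex.norm_natCast]
        have h2 : ‖(η : V → ℂ) ⟨v, hv⟩‖ = 1 := by
          have := CfsgLib.Char.FeitDegree.norm_linear χ ⟨v, hv⟩
          simpa [hχ] using this
        rw [h2, one_mul]
      · exact Subgroup.center_le_centralizer _ hz
      · intro hpz
        refine hnn ?_
        set y := z ^ (orderOf z / p)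
        have hyo : orderOf y = p := orderOf_pow_orderOf_div (orderOf_pos z).ne' hpz
        have hyc : y ∈ Subgroup.center G := (Subgroup.center G).pow_mem hz _
        have hyP : y ∈ P := CfsgLib.Blocks.PrimeSylow.mem_of_pow_eq_one hp hS
          (Subgroup.center_le_normalizer _ hyc) (by rw [← hyo, pow_orderOf_eq_one])
        have hPc : P ≤ Subgroup.center G := h.zpowers_eq hyP
          (fun e => hp.ne_one (by rw [← hyo, e, orderOf_one])) ▸ Subgroup.zpowers_le.2 hyc
        exact ⟨fun x hx g => by rwa [Subgroup.mem_center_iff.1 (hPc hx) g, mul_inv_cancel_right]⟩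
    choose! C hC hCf hCg using hOexp
    have hCinj : Set.InjOn C (O : Set (IrrCharacter P)) := fun a ha b hb e =>
      hgen a b (by rw [hC a ha, hC b hb, e])
    obtain ⟨t, het⟩ := hfdvd
    have hlev : level f (1 : ZMod p) = O.image C := by
      symm
      refine Finset.eq_of_subset_of_card_le (fun c hc => ?_) ?_
      · obtain ⟨l, hl, rfl⟩ := Finset.mem_image.1 hc
        exact mem_level.2 (hCf l hl)
      · rw [Finset.card_image_of_injOn hCinj, hOc]
        exact card_level_le het.symm 1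
    refine ⟨(u : G), f, t, het.symm, by omega, hVZ ▸ h, hnn, u.2, huo, hfaith, hfdef.symm, hdf, ?_, ?_, ?_⟩
    · intro c hc
      obtain ⟨l, hl, rfl⟩ := Finset.mem_image.1 (hlev ▸ mem_level.2 hc : c ∈ O.image C)
      exact hCg l hl
    · intro g hg c hc
      have hlO : (⟨_, h.isIrr_cjFunP μ hg⟩ : IrrCharacter P) ∈ O :=
        Finset.mem_filter.2 ⟨Finset.mem_univ _, g, hg, rfl⟩
      have h1 := hC _ hlO
      have h2 : cjFun (μ : P → ℂ) g u = ZMod.stdAddChar c := hconjv g hg c hc
      have h3 : c = C ⟨_, h.isIrr_cjFunP μ hg⟩ := ZMod.injective_stdAddChar (h2.symm.trans h1)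
      exact h3 ▸ hCf _ hlO
    · intro j hj
      rw [← Subgroup.coe_pow, h.apply_eq_sum_aMult ζ (u ^ j)]
      have hne : (u ^ j : P) ≠ 1 := fun e => hj (by
        rw [ZMod.natCast_eq_zero_iff, ← huo, Subgroup.orderOf_coe]
        exact orderOf_dvd_of_pow_eq_one e)
      have h0 : ∑ l : IrrCharacter P, (l : P → ℂ) (u ^ j) = 0 := by
        rw [← sum_degree_mul_apply_of_ne_one hne]
        exact Finset.sum_congr rfl fun l _ => by rw [h.lchar_one l, one_mul]
      rw [Finset.sum_congr rfl fun l _ => show (h.aMult ζ l : ℂ) * (l : P → ℂ) (u ^ j) =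
          (l : P → ℂ) (u ^ j) - if l ∈ O then (l : P → ℂ) (u ^ j) else 0 by
        rw [hval l]
        split_ifs with hl
        · rw [haμz]; simp
        · rw [ha1]; simp]
      rw [Finset.sum_sub_distrib, h0, zero_sub, Finset.sum_ite_mem, Finset.univ_inter, per, hlev,
        Finset.sum_image hCinj]
      exact congrArg Neg.neg (Finset.sum_congr rfl fun l hl => by rw [h.lchar_pow, hC l hl, std_pow])

end CfsgLib.Char.FeitSmall
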