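import Cfsg.Agent.Lib.Char.HalfDegree.UnipotentLog
import Cfsg.Agent.Lib.Char.FeitSmall.JordanBlock
import Cfsg.Agent.Lib.Char.FeitSmall.Equivariant

/-!
# A small summand of the commutator algebra

In dimension `(p + 1) / 2` with an element `u` of order `p` acting as a single block, the coset sum of a
suitable map commuting with the normalizer cuts out of the endomorphisms a representation of dimension at
most five on which `u` is not trivial.
-/

set_option autoImplicit false
set_option maxHeartbeats 1600000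

namespace CfsgLib.Char.FeitSmall

open CfsgLib.Char.HalfDegree Polynomial
open scoped _root_.Classical

section Linear

variable {k : Type*} [Field k] {W : Type*} [AddCommGroup W] [Module k W]

theorem range_pow_mul_unit {A T : Module.End k W} (hT : IsUnit T) (hc : Commute A T) (j : ℕ) :
    LinearMap.range ((A * T) ^ j) = LinearMap.range (A ^ j) := by
  refine le_antisymm ?_ ?_
  · rintro _ ⟨w, rfl⟩
    exact ⟨(T ^ j) w, by rw [hc.mul_pow, Module.End.mul_apply]⟩
  · rintro _ ⟨w, rfl⟩
    obtain ⟨F, hF⟩ := hT.pow j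
    exact ⟨(↑F⁻¹ : Module.End k W) w, by
      rw [hc.mul_pow, Module.End.mul_apply, ← hF, ← Module.End.mul_apply (↑F : Module.End k W), F.mul_inv,
        Module.End.one_apply]⟩

theorem apply_mul_unit_eq_zero {A T : Module.End k W} (hT : IsUnit T) (hc : Commute A T) (w : W) :
    (A * T) w = 0 ↔ A w = 0 := by
  rw [hc.eq, Module.End.mul_apply]
  refine ⟨fun h => ?_, fun h => by rw [h, map_zero]⟩
  obtain ⟨F, rfl⟩ := hT
  have e := congrArg (fun f : Module.End k W => f (A w)) F.inv_mul
  simp only [Module.End.mul_apply, Module.End.one_apply, h, map_zero] at e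
  exact e.symm

theorem finrank_ker_pow_le [FiniteDimensional k W] (T : Module.End k W) (j : ℕ) :
    Module.finrank k (LinearMap.ker (T ^ j)) ≤ j * Module.finrank k (LinearMap.ker T) := by
  induction j with
  | zero => rw [pow_zero, show LinearMap.ker (1 : Module.End k W) = ⊥ from LinearMap.ker_id, finrank_bot, zero_mul]
  | succ j ih =>
    set g := T.domRestrict (LinearMap.ker (T ^ (j + 1))) with hg
    have h1 : LinearMap.range g ≤ LinearMap.ker (T ^ j) := by
      rintro _ ⟨⟨w, hw⟩, rfl⟩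
      show (T ^ j) (T w) = 0
      rw [← Module.End.mul_apply, ← pow_succ]
      exact hw
    have h2 : Module.finrank k (LinearMap.ker g) ≤ Module.finrank k (LinearMap.ker T) := by
      let ι : LinearMap.ker g →ₗ[k] LinearMap.ker T :=
        ((LinearMap.ker (T ^ (j + 1))).subtype ∘ₗ (LinearMap.ker g).subtype).codRestrict _ fun w => w.2
      refine LinearMap.finrank_le_finrank_of_injective (f := ι) fun a b h => ?_
      exact Subtype.ext (Subtype.ext (congrArg (fun w : LinearMap.ker T => (w : W)) h))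
    have := g.finrank_range_add_finrank_ker
    have := Submodule.finrank_mono h1
    rw [add_mul, one_mul]
    omega

theorem sub_one_pow_char {p : ℕ} [Fact p.Prime] [CharP k p] [Nontrivial W] {X : Module.End k W}
    (hX : X ^ p = 1) : (X - 1) ^ p = 0 := by
  haveI : CharP (Module.End k W) p :=
    charP_of_injective_algebraMap (RingHom.injective (algebraMap k (Module.End k W))) p
  rw [sub_pow_char_of_commute p (Commute.one_right X), hX, one_pow, sub_self]

theorem commute_sub_one {a b : Module.End k W} (h : Commute a b) : Commute (a - 1) b :=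
  h.sub_left (Commute.one_left b)

theorem commute_sub_smul {a b : Module.End k W} (h : Commute a b) (r : k) : Commute a (b - r • 1) :=
  h.sub_right ((Commute.one_right a).smul_right r)

end Linear

section Summand

variable {k : Type*} [Field k] {W : Type*} [AddCommGroup W] [Module k W] [FiniteDimensional k W]
  {G : Type*} [Group G]

/-- The generalized kernel of a map commuting with `G` cuts out a small representation. -/
theorem exists_summand (τ : G →* Module.End k W) (u : G) (g₀ : Module.End k W)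
    (hτ : ∀ g, Commute (τ g) g₀) {y' : W} (hgy : g₀ y' = 0) (hyR : ∃ w, (τ u - 1) w = y') {n p : ℕ}
    (hnot : y' ∉ LinearMap.range ((τ u - 1) ^ n)) (hn : n ≤ 5) (hp : 7 ≤ p) (hnil : IsNilpotent (τ u - 1))
    (hker : ∀ w, (τ u - 1) w = 0 → ∀ M : ℕ, 1 ≤ M → (g₀ ^ M) w = 0 → ∃ r : k, w = r • y') :
    ∃ (r : ℕ) (σ : G →* Module.End k (Fin r → k)), r + 1 < p ∧ σ u ≠ 1 ∧ (σ u - 1) ^ 5 = 0 := by
  set U := τ u - 1 with hUdef
  obtain ⟨M, hM1, hM⟩ : ∃ M, 1 ≤ M ∧ IsCompl (LinearMap.ker (g₀ ^ M)) (LinearMap.range (g₀ ^ M)) := by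
    obtain ⟨M₀, hM₀⟩ := Filter.eventually_atTop.1 g₀.eventually_isCompl_ker_pow_range_pow
    exact ⟨M₀ + 1, by omega, hM₀ _ (by omega)⟩
  have hgτ : ∀ g, Commute (τ g) (g₀ ^ M) := fun g => (hτ g).pow_right M
  have hgU : Commute U (g₀ ^ M) := (commute_sub_one (hτ u)).pow_right M
  set W₁ := LinearMap.ker (g₀ ^ M) with hW₁
  have hstab : ∀ g, ∀ w ∈ W₁, τ g w ∈ W₁ := fun g w hw => by
    show (g₀ ^ M) (τ g w) = 0
    rw [← Module.End.mul_apply, ← (hgτ g).eq, Module.End.mul_apply, show (g₀ ^ M) w = 0 from hw, map_zero]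
  have hstabU : ∀ w ∈ W₁, U w ∈ W₁ := fun w hw => by
    show (g₀ ^ M) (U w) = 0
    rw [← Module.End.mul_apply, ← hgU.eq, Module.End.mul_apply, show (g₀ ^ M) w = 0 from hw, map_zero]
  have hyW : y' ∈ W₁ := by
    show (g₀ ^ M) y' = 0
    obtain ⟨M', rfl⟩ : ∃ M', M = M' + 1 := ⟨M - 1, by omega⟩
    rw [pow_succ, Module.End.mul_apply, hgy, map_zero]
  obtain ⟨q₀, hq₀⟩ := hnil
  have hUn : ∀ w ∈ W₁, (U ^ n) w = 0 := by
    intro w hw
    by_contra hne
    have hex : ∃ q, (U ^ q) w = 0 := ⟨q₀, by rw [hq₀]; rfl⟩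
    have hlt : n < Nat.find hex := by
      by_contra hle
      refine hne ?_
      obtain ⟨q, hq⟩ := Nat.exists_eq_add_of_le (not_lt.1 hle)
      rw [hq, add_comm, pow_add, Module.End.mul_apply, Nat.find_spec hex, map_zero]
    obtain ⟨q, hq⟩ : ∃ q, Nat.find hex = n + q + 1 := ⟨Nat.find hex - n - 1, by omega⟩
    have hz0 : (U ^ (n + q)) w ≠ 0 := Nat.find_min hex (by omega)
    have hzW : (U ^ (n + q)) w ∈ W₁ := by
      clear hz0 hq
      induction (n + q) with
      | zero => rwa [pow_zero, Module.End.one_apply]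
      | succ q ih => rw [pow_succ', Module.End.mul_apply]; exact hstabU _ ih
    have hzU : U ((U ^ (n + q)) w) = 0 := by
      rw [← Module.End.mul_apply, ← pow_succ', ← hq]
      exact Nat.find_spec hex
    obtain ⟨r, hr⟩ := hker _ hzU M hM1 hzW
    have hr0 : r ≠ 0 := fun h => hz0 (by rw [hr, h, zero_smul])
    refine hnot ⟨r⁻¹ • (U ^ q) w, ?_⟩
    rw [map_smul, ← Module.End.mul_apply, ← pow_add, hr, inv_smul_smul₀ hr0]
  let τ₁ : G →* Module.End k W₁ :=
    { toFun := fun g => (τ g).restrict (hstab g)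
      map_one' := LinearMap.ext fun w => Subtype.ext (by simp)
      map_mul' := fun g h => LinearMap.ext fun w => Subtype.ext (by simp) }
  have hU₁ : ∀ (j : ℕ) (w : W₁), ((((τ₁ u - 1) ^ j : Module.End k W₁) w : W₁) : W) = (U ^ j) (w : W) := fun j => by
    induction j with
    | zero => intro w; rfl
    | succ j ih =>
      intro w
      rw [pow_succ, Module.End.mul_apply, ih, pow_succ, Module.End.mul_apply]
      rfl
  have h5 : (τ₁ u - 1) ^ 5 = 0 := LinearMap.ext fun w => Subtype.ext (by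
    rw [hU₁, show 5 = (5 - n) + n by omega, pow_add, Module.End.mul_apply, hUn _ w.2, map_zero]
    rfl)
  have hne1 : τ₁ u ≠ 1 := by
    intro h
    obtain ⟨w, hw⟩ := hyR
    obtain ⟨w₁, hw₁, w₂, hw₂, rfl⟩ :=
      Submodule.mem_sup.1 (hM.sup_eq_top.symm ▸ Submodule.mem_top : w ∈ W₁ ⊔ LinearMap.range (g₀ ^ M))
    have h2 : U w₂ ∈ LinearMap.range (g₀ ^ M) := by
      obtain ⟨z, rfl⟩ := hw₂
      exact ⟨U z, by rw [← Module.End.mul_apply, ← hgU.eq, Module.End.mul_apply]⟩
    have h1 : U w₁ = 0 := by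
      have := hU₁ 1 ⟨w₁, hw₁⟩
      rw [pow_one, pow_one, h, sub_self] at this
      exact this.symm
    rw [map_add, h1, zero_add] at hw
    have h0 : y' ∈ (⊥ : Submodule k W) := hM.inf_eq_bot ▸ Submodule.mem_inf.2 ⟨hyW, hw ▸ h2⟩
    exact hnot (by rw [(Submodule.mem_bot k).1 h0]; exact Submodule.zero_mem _)
  have hdim : Module.finrank k W₁ ≤ 5 := by
    have h1 : Module.finrank k (LinearMap.ker (τ₁ u - 1)) ≤ 1 := by
      let v : W₁ := ⟨y', hyW⟩
      calc Module.finrank k (LinearMap.ker (τ₁ u - 1)) ≤ Module.finrank k (Submodule.span k {v}) := by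
            refine Submodule.finrank_mono fun w hw => ?_
            have h := hU₁ 1 w
            rw [pow_one, pow_one, show (τ₁ u - 1) w = 0 from hw] at h
            obtain ⟨r, hr⟩ := hker _ h.symm M hM1 w.2
            exact Submodule.mem_span_singleton.2 ⟨r, Subtype.ext hr.symm⟩
        _ ≤ 1 := (finrank_span_le_card ({v} : Set W₁)).trans (by simp)
    have h2 := finrank_ker_pow_le (τ₁ u - 1) 5
    rw [h5, LinearMap.ker_zero, finrank_top] at h2
    omega
  let β := Module.finBasis k W₁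
  refine ⟨Module.finrank k W₁, (β.equivFun.conjAlgEquiv k).toMonoidHom.comp τ₁, by omega, fun h => hne1 ?_, ?_⟩
  · exact (β.equivFun.conjAlgEquiv k).injective (h.trans (map_one _).symm)
  · have h := congrArg (β.equivFun.conjAlgEquiv k) h5
    rw [map_pow, map_sub, map_one, map_zero] at h
    exact h

end Summand

variable {G : Type*} [Group G] [Finite G] {p : ℕ} [Fact p.Prime]

/-- The representation of dimension at most five. -/
theorem exists_small_module (hsq : ¬ p ^ 2 ∣ Nat.card G) {u : G} (hu : orderOf u = p)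
    {k : Type*} [Field k] [CharP k p] {m e : ℕ} (hpe : p = 2 * e + 1) (he : 5 ≤ e) (hm : m ≤ e + 1)
    (ρ : G →* Module.End k (Fin m → k)) (hne : (ρ u - 1) ^ e ≠ 0) {n₀ : G} {c₀ : ZMod p}
    (hn₀ : n₀ ∈ Subgroup.normalizer (Subgroup.zpowers u : Set G)) (hc₀ : IsPrimitiveRoot c₀ e)
    (hnc : n₀ * u = u ^ c₀.val * n₀) :
    ∃ (r : ℕ) (σ : G →* Module.End k (Fin r → k)), r + 1 < p ∧ σ u ≠ 1 ∧ (σ u - 1) ^ 5 = 0 := by
  classical
  have hp : p.Prime := Fact.out
  set ι := ZMod.castHom (dvd_refl p) k with hι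
  set V := Fin m → k with hVdef
  set x := ρ u with hxdef
  have hup : u ^ p = 1 := hu ▸ pow_orderOf_eq_one u
  have hxp : x ^ p = 1 := by rw [hxdef, ← map_pow, hup, map_one]
  haveI : Nontrivial (Module.End k V) := ⟨(x - 1) ^ e, 0, hne⟩
  haveI : CharP (Module.End k V) p :=
    charP_of_injective_algebraMap (RingHom.injective (algebraMap k (Module.End k V))) p
  have hnil : IsNilpotent (x - 1) :=
    ⟨p, by rw [sub_pow_char_of_commute p (Commute.one_right x), hxp, one_pow, sub_self]⟩
  have hVm : (x - 1) ^ m = 0 := by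
    have := LinearMap.aeval_self_charpoly (x - 1)
    rwa [hnil.charpoly_eq_X_pow_finrank, map_pow, aeval_X, Module.finrank_fin_fun] at this
  have hm1 : m = e + 1 := by
    by_contra h
    exact hne (pow_eq_zero_of_le (by omega : m ≤ e) hVm)
  have hfr : Module.finrank k V = e + 1 := (Module.finrank_fin_fun k).trans hm1
  -- the logarithm
  set y := logEl k p x with hydef
  obtain ⟨hy1, hye⟩ : y ^ (e + 1) = 0 ∧ y ^ e ≠ 0 := by
    obtain ⟨q, hq⟩ := exists_logEl_expansion (k := k) (p := p) (by omega) x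
    have hcq : Commute (x - 1) (aeval (x - 1) q) := by
      have h := (Commute.all (X : k[X]) q).map (aeval (x - 1))
      rwa [aeval_X] at h
    set F := (x - 1) * aeval (x - 1) q - 1 with hF
    have hy : y = (x - 1) * F := by
      rw [hydef, hq, hF, mul_sub, mul_one, pow_two, mul_assoc]
      abel
    have hcF : Commute (x - 1) F := ((Commute.refl _).mul_right hcq).sub_right (Commute.one_right _)
    have hFu : IsUnit F := (Commute.isNilpotent_mul_right hcq hnil).isUnit_sub_one
    refine ⟨by rw [hy, hcF.mul_pow, ← hm1, hVm, zero_mul], fun h => hne ?_⟩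
    rw [hy, hcF.mul_pow] at h
    exact (hFu.pow e).mul_left_eq_zero.1 h
  obtain ⟨b, hb⟩ := exists_jordan_basis hfr hy1 hye
  obtain ⟨hyR, hy2R, hy3, hy5, htop, hyeR⟩ := block_facts hp hpe he hy1 b hb
  -- conjugation
  let τ : G →* Module.End k (Module.End k V) :=
    { toFun := fun g => conjMap (ρ g) (ρ g⁻¹)
      map_one' := LinearMap.ext fun w => by simp [conjMap_apply]
      map_mul' := fun g h => LinearMap.ext fun w => by
        simp [conjMap_apply, mul_assoc] }
  have hτ : ∀ g w, τ g w = ρ g * w * ρ g⁻¹ := fun g w => conjMap_apply _ _ _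
  have hτmul : ∀ g a a', τ g (a * a') = τ g a * τ g a' := fun g a a' => by
    rw [hτ, hτ, hτ]
    calc ρ g * (a * a') * ρ g⁻¹ = ρ g * a * (ρ g⁻¹ * ρ g) * a' * ρ g⁻¹ := by
          rw [← map_mul ρ g⁻¹ g, inv_mul_cancel, map_one]; simp only [mul_one, mul_assoc]
      _ = _ := by simp only [mul_assoc]
  have heig : ∀ (g : G) (c : ZMod p), c ≠ 0 → g * u = u ^ c.val * g → ∀ j : ℕ,
      τ g (y ^ j) = ι c ^ j • y ^ j := fun g c hc h j => by
    have h1 : τ g y = ι c • y := by
      rw [hτ, hydef, mul_logEl (k := k) (z := ρ g) hxp hc (by rw [hxdef, ← map_mul, h, map_mul, map_pow]),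
        smul_mul_assoc, mul_assoc, ← map_mul, mul_inv_cancel, map_one, mul_one]
    induction j with
    | zero =>
      rw [pow_zero, pow_zero, one_smul, hτ, mul_one, ← map_mul, mul_inv_cancel, map_one]
    | succ j ih => rw [pow_succ y, hτmul, ih, h1, smul_mul_smul_comm, ← pow_succ, ← pow_succ]
  -- the filtration
  set U := τ u - 1 with hUdef
  obtain ⟨Q, hQ, hcQ, hQe⟩ := exists_unit_factor (k := k) (p := p) (by omega) x hnil
  set x' := ρ u⁻¹ with hx'
  have hxx : x * x' = 1 := by rw [hxdef, hx', ← map_mul, mul_inv_cancel, map_one]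
  have hxx' : x' * x = 1 := mul_eq_one_comm.1 hxx
  set A := adMap (x - 1) with hA
  set T := LinearMap.mulRight k x' with hT
  have hTu : IsUnit T := ⟨⟨T, LinearMap.mulRight k x,
    by ext w; simp [hT, mul_assoc, hxx], by ext w; simp [hT, mul_assoc, hxx']⟩, rfl⟩
  have hcx : x' * (x - 1) = (x - 1) * x' := by rw [mul_sub, sub_mul, hxx, hxx', mul_one, one_mul]
  have hcT : Commute A T := LinearMap.ext fun w => by
    simp [hA, hT, adMap_apply, sub_mul, mul_assoc, hcx]
  have hU : U = A * T := LinearMap.ext fun w => by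
    simp [hUdef, hA, hT, hτ, adMap_apply, sub_mul, mul_sub, mul_assoc, ← hxdef, ← hx', hxx']
  have hR : ∀ j, LinearMap.range (U ^ j) = LinearMap.range (adMap y ^ j) := fun j => by
    rw [hU, range_pow_mul_unit hTu hcT, hydef, hQe, range_pow_mul_unit hQ hcQ]
  have hK : ∀ w, U w = 0 ↔ Commute w y := fun w => by
    rw [hU, apply_mul_unit_eq_zero hTu hcT, ← apply_mul_unit_eq_zero hQ hcQ, ← hQe, ← hydef, adMap_apply,
      sub_eq_zero]
    exact ⟨fun h => h.symm, fun h => h.eq.symm⟩
  have hUpow : ∀ j, U (y ^ j) = 0 := fun j => (hK _).2 ((Commute.refl y).pow_left j)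
  have hfixpow : ∀ j : ℕ, τ u (y ^ j) = y ^ j := fun j => by
    have := hUpow j
    rwa [hUdef, LinearMap.sub_apply, Module.End.one_apply, sub_eq_zero] at this
  have hUp : U ^ p = 0 := sub_one_pow_char (by rw [← map_pow, hup, map_one])
  have hpow0 : ∀ j, j ≤ e → y ^ j ≠ 0 := fun j hj h => hye (by
    rw [show e = j + (e - j) by omega, pow_add, h, zero_mul])
  set N := Subgroup.normalizer (Subgroup.zpowers u : Set G) with hN
  have huN : u ∈ N := Subgroup.le_normalizer (Subgroup.mem_zpowers u)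
  have heigN : ∀ j : ℕ, ∀ g ∈ N, ∃ s : k, τ g (y ^ j) = s • y ^ j := fun j g hg => by
    obtain ⟨c, hc, hgc⟩ := exists_exponent hu hg
    exact ⟨_, heig g c hc hgc j⟩
  -- scalars
  have hc00 : c₀ ≠ 0 := hc₀.ne_zero (by omega)
  have hc0k : IsPrimitiveRoot (ι c₀) e := hc₀.map_of_injective ι.injective
  have hdist : ∀ i j : ℕ, 1 ≤ i → i ≤ 2 → j ≤ e → j ≠ i → ι c₀ ^ j ≠ ι c₀ ^ i := by
    intro i j h1 h2 hj hne' h
    rcases eq_or_lt_of_le hj with rfl | hlt
    · rw [hc0k.pow_eq_one, ← pow_zero (ι c₀)] at h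
      have := hc0k.pow_inj (by omega) (by omega) h
      omega
    · exact hne' (hc0k.pow_inj hlt (by omega) h)
  -- the equivariant map
  have hproj : ∀ i : ℕ, 1 ≤ i → i ≤ 2 → ∃ φ : Module.End k (Module.End k V),
      (∀ g ∈ N, φ ∘ₗ τ g = τ g ∘ₗ φ) ∧ ∀ j ≤ e, φ (y ^ j) = if j = i then y ^ j else 0 := by
    intro i h1 h2
    obtain ⟨φ, hφN, hφv, hφim⟩ := exists_retraction hsq hu τ (hpow0 i (by omega)) (hfixpow i) (heigN i)
    refine ⟨φ, hφN, fun j hj => ?_⟩
    split_ifs with hji
    · rw [hji, hφv]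
    · obtain ⟨r, hr⟩ := hφim _ (hfixpow j)
      have h := congrArg (fun f : Module.End k V →ₗ[k] Module.End k V => f (y ^ j)) (hφN n₀ hn₀)
      simp only [LinearMap.comp_apply, hr, heig n₀ c₀ hc00 hnc, map_smul, smul_smul] at h
      have h' := smul_left_injective k (hpow0 i (by omega)) h
      have : (ι c₀ ^ j - ι c₀ ^ i) * r = 0 := by linear_combination h'
      rw [hr, (mul_eq_zero.1 this).resolve_left (sub_ne_zero.2 (hdist i j h1 h2 hj hji)), zero_smul]
  obtain ⟨φ₁, hφ₁N, hφ₁⟩ := hproj 1 le_rfl (by omega)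
  obtain ⟨φ₂, hφ₂N, hφ₂⟩ := hproj 2 (by omega) le_rfl
  set Φ := φ₁ + (2 : k) • φ₂ with hΦdef
  have hΦN : ∀ g ∈ N, Φ ∘ₗ τ g = τ g ∘ₗ Φ := fun g hg => by
    rw [hΦdef, LinearMap.add_comp, LinearMap.comp_add, LinearMap.smul_comp, LinearMap.comp_smul, hφ₁N g hg,
      hφ₂N g hg]
  let F : ℕ → k := fun j => if j = 1 then 1 else if j = 2 then 2 else 0
  have hΦ : ∀ j ≤ e, Φ (y ^ j) = F j • y ^ j := fun j hj => by
    rw [hΦdef, LinearMap.add_apply, LinearMap.smul_apply, hφ₁ j hj, hφ₂ j hj]
    simp only [F]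
    by_cases h1 : j = 1
    · subst h1; simp
    · by_cases h2 : j = 2
      · subst h2; simp
      · simp [h1, h2]
  set f := cosetTrace τ τ N Φ with hfdef
  have hfτ : ∀ g, Commute (τ g) f := fun g => (cosetTrace_comp hΦN g).symm
  have hfU : Commute U f := commute_sub_one (hfτ u)
  have hfy : ∀ j ≤ e, ∃ r : k, f (y ^ j) = F j • y ^ j + r • y ^ e := fun j hj => by
    have h := cosetTrace_sub_mem_range hΦN hu huN (fun g => mem_normalizer_of_conj_mem hsq hu) (hfixpow j)
    rw [← hUdef, hR, ← hfdef] at h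
    obtain ⟨w, hw⟩ := h
    obtain ⟨r, hr⟩ := htop w
    exact ⟨r, by rw [← hΦ j hj, ← hr, hw]; abel⟩
  choose! rr hrr using hfy
  have hF0 : ∀ j, j ≠ 1 → j ≠ 2 → F j = 0 := fun j h1 h2 => by simp [F, h1, h2]
  -- the eigenvalue
  obtain ⟨i, hi1, hi2, hia⟩ : ∃ i : ℕ, 1 ≤ i ∧ i ≤ 2 ∧ rr e ≠ (i : k) := by
    by_cases h : rr e = ((1 : ℕ) : k)
    · refine ⟨2, by omega, le_rfl, fun h2 => ?_⟩
      rw [h, Nat.cast_one, Nat.cast_two] at h2
      exact one_ne_zero (by linear_combination -h2 : (1 : k) = 0)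
    · exact ⟨1, le_rfl, by omega, h⟩
  have hFi : F i = (i : k) := by
    rcases (by omega : i = 1 ∨ i = 2) with rfl | rfl <;> simp [F]
  have hi0 : (i : k) ≠ 0 := fun h => by
    rw [CharP.cast_eq_zero_iff k p] at h
    have := Nat.le_of_dvd (by omega) h
    omega
  have hFne : ∀ j, j ≠ i → F j - (i : k) ≠ 0 := fun j hj h => by
    rw [sub_eq_zero] at h
    rcases (by omega : i = 1 ∨ i = 2) with rfl | rfl
    · by_cases h2 : j = 2
      · subst h2
        simp [F] at h
        exact one_ne_zero (by linear_combination h : (1 : k) = 0)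
      · rw [hF0 j hj h2] at h
        exact hi0 h.symm
    · by_cases h1 : j = 1
      · subst h1
        simp [F] at h
        exact one_ne_zero (by linear_combination -h : (1 : k) = 0)
      · rw [hF0 j h1 hj] at h
        exact hi0 h.symm
  set a := rr e with hadef
  have hfe : f (y ^ e) = a • y ^ e := by
    rw [hrr e le_rfl, hF0 e (by omega) (by omega), zero_smul, zero_add]
  have hai : a - (i : k) ≠ 0 := sub_ne_zero.2 hia
  set ν := rr i / ((i : k) - a) with hν
  set y' := y ^ i + ν • y ^ e with hy'def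
  have hUy' : U y' = 0 := by rw [hy'def, map_add, map_smul, hUpow, hUpow, smul_zero, add_zero]
  have hν' : ν * ((i : k) - a) = rr i := div_mul_cancel₀ _ (sub_ne_zero.2 (Ne.symm hia))
  have hfy' : f y' = (i : k) • y' := by
    rw [hy'def, map_add, map_smul, hrr i (by omega), hfe, hFi, smul_add, smul_smul, smul_smul, add_assoc,
      ← add_smul]
    congr 2
    linear_combination -hν'
  have hyeR' : y ^ e ∈ LinearMap.range (U ^ (2 * i + 1)) := by
    rw [hR]
    obtain ⟨w, hw⟩ := hyeR
    exact ⟨(adMap y ^ (p - 1 - (2 * i + 1))) w, by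
      rw [← Module.End.mul_apply, ← pow_add, show 2 * i + 1 + (p - 1 - (2 * i + 1)) = p - 1 by omega, hw]⟩
  have hy'not : y' ∉ LinearMap.range (U ^ (2 * i + 1)) := fun h => by
    have h' : y ^ i ∈ LinearMap.range (U ^ (2 * i + 1)) := by
      have := Submodule.sub_mem _ h (Submodule.smul_mem _ ν hyeR')
      rwa [hy'def, add_sub_cancel_right] at this
    rw [hR] at h'
    rcases (by omega : i = 1 ∨ i = 2) with rfl | rfl
    · exact hy3 (by rwa [pow_one] at h')
    · exact hy5 h'
  have hy'R : ∃ w, U w = y' := by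
    have h : y' ∈ LinearMap.range (U ^ 1) := by
      refine Submodule.add_mem _ ?_ (Submodule.smul_mem _ _ ?_)
      · rw [hR, pow_one]
        rcases (by omega : i = 1 ∨ i = 2) with rfl | rfl
        · rwa [pow_one]
        · exact hy2R
      · obtain ⟨w, hw⟩ := hyeR'
        exact ⟨(U ^ (2 * i)) w, by rw [← Module.End.mul_apply, ← pow_add, show 1 + 2 * i = 2 * i + 1 by omega, hw]⟩
    rwa [pow_one] at h
  set g₀ : Module.End k (Module.End k V) := f - (i : k) • 1 with hg₀
  have hgy' : g₀ y' = 0 := by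
    rw [hg₀, LinearMap.sub_apply, hfy', LinearMap.smul_apply, Module.End.one_apply, sub_self]
  have hlast : ∀ c : Fin (e + 1) → k, ∀ j : ℕ,
      ∃ c' : Fin (e + 1) → k, (g₀ ^ j) (∑ l, c l • y ^ (l : ℕ)) = ∑ l, c' l • y ^ (l : ℕ) ∧
        ∀ l : Fin (e + 1), (l : ℕ) ≠ e → c' l = (F l - (i : k)) ^ j * c l := by
    intro c j
    induction j with
    | zero => exact ⟨c, by rw [pow_zero, Module.End.one_apply], fun l _ => by rw [pow_zero, one_mul]⟩
    | succ j ih =>
      obtain ⟨c', hc', hl'⟩ := ih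
      refine ⟨fun l => c' l * (F l - (i : k)) + if (l : ℕ) = e then ∑ q, c' q * rr q else 0, ?_, ?_⟩
      · rw [pow_succ', Module.End.mul_apply, hc', map_sum]
        have hterm : ∀ l : Fin (e + 1), g₀ (c' l • y ^ (l : ℕ)) =
            (c' l * (F l - (i : k))) • y ^ (l : ℕ) + (c' l * rr l) • y ^ e := fun l => by
          rw [map_smul, hg₀, LinearMap.sub_apply, LinearMap.smul_apply, Module.End.one_apply,
            hrr _ (Nat.lt_succ_iff.1 l.2), smul_sub, smul_add, smul_smul, smul_smul, smul_smul, mul_sub,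
            show ∀ (r s : k) (z : Module.End k V), (r - s) • z = r • z - s • z from fun r s z => sub_smul r s z]
          abel
        rw [Finset.sum_congr rfl fun l _ => hterm l, Finset.sum_add_distrib]
        simp only [add_smul, Finset.sum_add_distrib, ite_smul, zero_smul]
        rw [← Finset.sum_smul, Finset.sum_eq_single (Fin.last e) (s := Finset.univ)
          (f := fun l : Fin (e + 1) => if (l : ℕ) = e then (∑ q, c' q * rr q) • y ^ (l : ℕ) else 0)]
        · simp
        · intro l _ hl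
          exact if_neg fun h => hl (Fin.ext h)
        · exact fun h => absurd (Finset.mem_univ _) h
      · intro l hl
        show c' l * (F l - (i : k)) + (if (l : ℕ) = e then _ else _) = _
        rw [if_neg hl, add_zero, hl' l hl, pow_succ]
        ring
  have hkerW : ∀ w, U w = 0 → ∀ M : ℕ, 1 ≤ M → (g₀ ^ M) w = 0 → ∃ r : k, w = r • y' := by
    intro w hw M hM1 hgw
    have hy'M : (g₀ ^ M) y' = 0 := by
      obtain ⟨M', rfl⟩ : ∃ M', M = M' + 1 := ⟨M - 1, by omega⟩
      rw [pow_succ, Module.End.mul_apply, hgy', map_zero]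
    obtain ⟨c, rfl⟩ := exists_sum_of_commute b hb ((hK w).1 hw)
    have hgen : ∃ c' : Fin (e + 1) → k, (g₀ ^ M) (∑ l, c l • y ^ (l : ℕ)) = ∑ l, c' l • y ^ (l : ℕ) ∧
        ∀ l : Fin (e + 1), (l : ℕ) ≠ e → c' l = (F l - (i : k)) ^ M * c l := hlast c M
    obtain ⟨c', hc', hl'⟩ := hgen
    have hc0 : ∀ l : Fin (e + 1), (l : ℕ) ≠ e → (l : ℕ) ≠ i → c l = 0 := fun l hl hli => by
      have h0 := coeff_eq_zero b hb (hc'.symm.trans hgw) l
      rw [hl' l hl, mul_eq_zero] at h0
      exact h0.resolve_left (pow_ne_zero _ (hFne _ hli))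
    have hsum : ∑ l, c l • y ^ (l : ℕ) =
        c ⟨i, by omega⟩ • y ^ i + c (Fin.last e) • y ^ e := by
      rw [Finset.sum_eq_add (⟨i, by omega⟩ : Fin (e + 1)) (Fin.last e) (fun h => by
        have := congrArg Fin.val h
        simp at this
        omega)]
      · simp
      · intro l _ hl
        rw [hc0 l (fun h => hl.2 (Fin.ext h)) (fun h => hl.1 (Fin.ext h)), zero_smul]
      · exact fun h => absurd (Finset.mem_univ _) h
      · exact fun h => absurd (Finset.mem_univ _) h
    set r := c ⟨i, by omega⟩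
    set s := c (Fin.last e) - r * ν
    have hw' : ∑ l, c l • y ^ (l : ℕ) = r • y' + s • y ^ e := by
      rw [hsum, hy'def, smul_add, smul_smul, add_assoc, ← add_smul, add_sub_cancel]
    refine ⟨r, ?_⟩
    rw [hw', map_add, map_smul, map_smul, hy'M, smul_zero, zero_add] at hgw
    have hge : ∀ j : ℕ, (g₀ ^ j) (y ^ e) = (a - (i : k)) ^ j • y ^ e := fun j => by
      induction j with
      | zero => rw [pow_zero, pow_zero, one_smul, Module.End.one_apply]
      | succ j ih =>
        rw [pow_succ' g₀, Module.End.mul_apply, ih, map_smul, hg₀, LinearMap.sub_apply, hfe,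
          LinearMap.smul_apply, Module.End.one_apply]
        rw [show a • y ^ e - (i : k) • y ^ e = (a - (i : k)) • y ^ e from (sub_smul _ _ _).symm, smul_smul,
          ← pow_succ]
    rw [hge, smul_smul, smul_eq_zero] at hgw
    have hs : s = 0 := by
      rcases mul_eq_zero.1 (hgw.resolve_right hye) with h | h
      · exact h
      · exact absurd h (pow_ne_zero _ hai)
    rw [hw', hs, zero_smul, add_zero]
  exact exists_summand τ u g₀ (fun g => commute_sub_smul (hfτ g) (i : k)) hgy' hy'R hy'not (by omega)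
    (by omega) ⟨p, hUp⟩ hkerW

end CfsgLib.Char.FeitSmall
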