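import Cfsg.Agent.Lib.Char.FeitSmall.Central
import Cfsg.Agent.Lib.Char.FeitSmall.Classes
import Cfsg.Agent.Lib.Char.FeitSmall.TTwoModule

/-!
# Two classes of elements of order `p`

With `e = (p - 1) / 2` the degree is `(p + 1) / 2` and the group is `PSL(2, p)` over its centre.
-/

set_option autoImplicit false
set_option maxHeartbeats 800000

universe u

namespace CfsgLib.Char.FeitSmall

open Cfsg CfsgLib.Classical.Dickson CfsgLib.Char.HalfDegree
open scoped _root_.Classical

variable {p : ℕ} [hp : Fact p.Prime] {G : Type u} [Group G] [Fintype G]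
variable {P : Subgroup G} {u : G} {ζ : IrrCharacter G} {e t : ℕ}

namespace Data

variable (D : Data (p := p) P u ζ e t)
include D

theorem not_sq : ¬ p ^ 2 ∣ Nat.card G := by
  rw [← P.card_mul_index, D.setup.card, sq]
  exact fun h => D.setup.not_dvd ((Nat.mul_dvd_mul_iff_left hp.out.pos).1 h)

theorem le_of_normal_of_dvd (K : Subgroup G) [hK : K.Normal] (hd : p ∣ Nat.card K) : P ≤ K := by
  obtain ⟨y, hy⟩ := exists_prime_orderOf_dvd_card' p hd
  obtain ⟨a, ha, hc⟩ := exists_conj_mem D.setup (g := (y : G)) (by rw [Subgroup.orderOf_coe, hy])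
  obtain ⟨g, hg⟩ := isConj_iff.1 hc
  have haK : a ∈ K := hg ▸ hK.conj_mem _ y.2 g
  have ha1 : a ≠ 1 := fun h => by
    rw [h, conj_eq_one_iff] at hg
    rw [show y = 1 from Subtype.ext hg, orderOf_one] at hy
    exact hp.out.ne_one hy.symm
  exact D.setup.zpowers_eq ha ha1 ▸ Subgroup.zpowers_le.2 haK

theorem eq_bot_of_isPGroup (K : Subgroup G) (hK : K.Normal) (hKp : IsPGroup p K) : K = ⊥ := by
  obtain ⟨n, hn⟩ := hKp.exists_card_eq
  rcases Nat.eq_zero_or_pos n with rfl | h0
  · exact Subgroup.card_eq_one.1 (by rw [hn, pow_zero])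
  exfalso
  have hPK : P ≤ K := D.le_of_normal_of_dvd K (hn ▸ dvd_pow_self p h0.ne')
  rcases Nat.lt_or_ge n 2 with h | h
  · refine D.not_normal ?_
    rwa [Subgroup.eq_of_le_of_card_ge hPK (by rw [hn, D.setup.card, show n = 1 by omega, pow_one])]
  · exact D.not_sq ((pow_dvd_pow p h).trans (hn ▸ Subgroup.card_subgroup_dvd_card K))

theorem not_mem_normalizer : ∃ g : G, g ∉ Subgroup.normalizer (Subgroup.zpowers u : Set G) := by
  rw [D.zpowers_eq]
  by_contra hall
  push Not at hall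
  exact D.not_normal (Subgroup.normalizer_eq_top_iff.1 (eq_top_iff.2 fun g _ => hall g))

theorem ker_le_center {Q : Type*} [MulOneClass Q] (ψ : G →* Q) (hu : u ∉ ψ.ker) :
    ψ.ker ≤ Subgroup.center G :=
  D.le_center_of_normal _ fun hd => hu (D.le_of_normal_of_dvd _ hd D.mem)

theorem not_dvd_card_ker {Q : Type*} [MulOneClass Q] (ψ : G →* Q) (hu : u ∉ ψ.ker) :
    ¬ p ∣ Nat.card ψ.ker := fun hd => hu (D.le_of_normal_of_dvd _ hd D.mem)

/-- A quotient `PSL(2, p)` or `PGL(2, p)` is the quotient by the centre, and it is `PSL(2, p)`. -/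
theorem iso_of_hom (hp7 : 7 < p) (he : e < p - 1)
    (hψ : (∃ ψ : G →* Matrix.ProjectiveSpecialLinearGroup (Fin 2) (ZMod p),
        Function.Surjective ψ ∧ u ∉ ψ.ker) ∨
      ∃ ψ : G →* Matrix.ProjGenLinGroup (Fin 2) (ZMod p), Function.Surjective ψ ∧ u ∉ ψ.ker) :
    Nonempty ((G ⧸ Subgroup.center G) ≃* Matrix.ProjectiveSpecialLinearGroup (Fin 2) (ZMod p)) := by
  rcases hψ with ⟨ψ, hsurj, hu⟩ | ⟨ψ, hsurj, hu⟩
  · have hK := D.ker_le_center ψ hu
    have hord : orderOf (ψ u) = p := orderOf_eq_prime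
      (by rw [← map_pow, D.setup.pow_eq_one D.mem, map_one]) (fun h => hu (MonoidHom.mem_ker.2 h))
    haveI := CfsgLib.Classical.isSimpleGroup_PSL_two (F := ZMod p) (by rw [ZMod.card]; omega)
    have hcK : Subgroup.center G ≤ ψ.ker := by
      intro z hz
      rw [MonoidHom.mem_ker]
      have hzc : ψ z ∈ Subgroup.center (Matrix.ProjectiveSpecialLinearGroup (Fin 2) (ZMod p)) := by
        refine Subgroup.mem_center_iff.2 fun q => ?_
        obtain ⟨g, rfl⟩ := hsurj q
        rw [← map_mul, ← map_mul, Subgroup.mem_center_iff.1 hz g]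
      rcases (inferInstance : (Subgroup.center
          (Matrix.ProjectiveSpecialLinearGroup (Fin 2) (ZMod p))).Normal).eq_bot_or_eq_top with h | h
      · rwa [h, Subgroup.mem_bot] at hzc
      · exfalso
        have h2ne : (2 : ZMod p) ≠ 0 := fun h2 => by
          have := Nat.le_of_dvd (by norm_num) ((CharP.cast_eq_zero_iff (ZMod p) p 2).1 (by simpa using h2))
          omega
        obtain ⟨n, hn⟩ := psl_conj_sq (by omega) hord h2ne
        rw [← Subgroup.mem_center_iff.1 (h ▸ Subgroup.mem_top n) (ψ u)] at hn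
        have h1 : ψ u ^ ((2 : ZMod p) * 2).val = ψ u ^ 1 := by rw [pow_one]; exact (mul_right_cancel hn).symm
        rw [pow_eq_pow_iff_modEq, hord, ← ZMod.natCast_eq_natCast_iff, ZMod.natCast_zmod_val, Nat.cast_one] at h1
        have h3 : ((3 : ℕ) : ZMod p) = 0 := by push_cast; linear_combination h1
        have := Nat.le_of_dvd (by norm_num) ((CharP.cast_eq_zero_iff (ZMod p) p 3).1 h3)
        omega
    exact ⟨(QuotientGroup.quotientMulEquivOfEq (le_antisymm hcK hK)).trans
      (QuotientGroup.quotientKerEquivOfSurjective ψ hsurj)⟩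
  · exfalso
    have hK := D.ker_le_center ψ hu
    have hord : orderOf (ψ u) = p := orderOf_eq_prime
      (by rw [← map_pow, D.setup.pow_eq_one D.mem, map_one]) (fun h => hu (MonoidHom.mem_ker.2 h))
    have hsub : Finset.univ.erase (0 : ZMod p) ⊆ level e 1 := by
      intro a ha
      obtain ⟨n', hn'⟩ := pgl_conj (by omega) hord (Finset.ne_of_mem_erase ha)
      obtain ⟨n, rfl⟩ := hsurj n'
      have h1 := lift_conj D.not_sq D.ord ψ hu
        (fun z hz => (Subgroup.mem_center_iff.1 (hK hz) u).symm) hn'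
      have h2 : n * u * n⁻¹ = u ^ a.val := by rw [h1, mul_inv_cancel_right]
      exact mem_level.2 (D.conj_pow n (mem_normalizer_of_conj D.setup D.mem D.ne_one h2) a h2)
    have h := (Finset.card_le_card hsub).trans (card_level_le D.het 1)
    rw [Finset.card_erase_of_mem (Finset.mem_univ _), Finset.card_univ, ZMod.card] at h
    omega

/-- With two classes the quotient by the centre is `PSL(2, p)`. -/
theorem iso_of_two (ht : t = 2) (hp7 : 7 < p) :
    Nonempty ((G ⧸ Subgroup.center G) ≃* Matrix.ProjectiveSpecialLinearGroup (Fin 2) (ZMod p)) := by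
  have hpp := hp.out
  have hp10 : p ≠ 8 ∧ p ≠ 9 ∧ p ≠ 10 := by
    refine ⟨?_, ?_, ?_⟩ <;> rintro rfl <;> norm_num at hpp
  have het := D.het
  rw [ht] at het
  have hpe : p = 2 * e + 1 := by omega
  have hd := D.deg
  obtain ⟨d, ρ, hρ⟩ := IsIrr.isCharacter ζ.2
  have hdd : charDegree (ζ : G → ℂ) = d := by
    rw [← hρ]; simp [Cfsg.charDegree, Representation.char_one]
  obtain ⟨M, hM⟩ := CfsgLib.ZStar.exists_isPModular hpp
  haveI : M.IsMaximal := hM.2.1
  haveI := CfsgLib.Blocks.charP_residueField hM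
  haveI : CharP (CfsgLib.Blocks.Res M) p := CfsgLib.Blocks.charP_residueField hM
  haveI : IsAlgClosed (CfsgLib.Blocks.Res M) := CfsgLib.Star.isAlgClosed_res
  have hfaith : ∀ g : G, ρ.character g = ρ.character 1 → g = 1 := fun g hg => D.faith g (by rw [← hρ]; exact hg)
  obtain ⟨m, σ, hmd, hσ⟩ := exists_mod_embedding hM (by omega : d < p) ρ hfaith D.eq_bot_of_isPGroup
  by_cases hne : (σ u - 1) ^ e = 0
  · obtain ⟨-, K, -, huK, -, hψ⟩ :=
      exists_quotient_of_nil D.not_sq D.ord D.not_mem_normalizer (by omega) (by omega) σ hσ hne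
    refine D.iso_of_hom hp7 (by omega) ?_
    rcases hψ with ⟨ψ, hs, hk⟩ | ⟨ψ, hs, hk⟩
    · exact Or.inl ⟨ψ, hs, hk ▸ huK⟩
    · exact Or.inr ⟨ψ, hs, hk ▸ huK⟩
  -- a primitive exponent
  obtain ⟨g, hg⟩ := IsCyclic.exists_ofOrder_eq_natCard (α := (ZMod p)ˣ)
  rw [Nat.card_eq_fintype_card, ZMod.card_units] at hg
  have hg2 : orderOf (g ^ 2) = e := by
    rw [orderOf_pow' g two_ne_zero, hg, show p - 1 = e * 2 by omega, Nat.gcd_mul_left_left,
      Nat.mul_div_cancel _ (by norm_num)]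
  have hc₀ : IsPrimitiveRoot ((g ^ 2 : (ZMod p)ˣ) : ZMod p) e :=
    IsPrimitiveRoot.coe_units_iff.2 (hg2 ▸ IsPrimitiveRoot.orderOf _)
  obtain ⟨n₀, hn₀, hnc⟩ := D.exists_conj _ hc₀.pow_eq_one
  have hn₀' : n₀ ∈ Subgroup.normalizer (Subgroup.zpowers u : Set G) := by rwa [D.zpowers_eq]
  obtain ⟨r, σ', hr, hu', h5⟩ := exists_small_module D.not_sq D.ord hpe (by omega) (by omega) σ hne hn₀' hc₀
    (mul_inv_eq_iff_eq_mul.1 hnc)
  -- pass to the quotient by the kernel
  have huK : u ∉ σ'.ker := fun h => hu' h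
  have hK := D.ker_le_center σ' huK
  set π := QuotientGroup.mk' σ'.ker with hπ
  have hπu : orderOf (π u) = p := orderOf_eq_prime
    (by rw [← map_pow, D.setup.pow_eq_one D.mem, map_one]) (fun h => huK ((QuotientGroup.eq_one_iff u).1 h))
  have hsq : ¬ p ^ 2 ∣ Nat.card (G ⧸ σ'.ker) := fun h =>
    D.not_sq (h.trans (Subgroup.index_eq_card σ'.ker ▸ σ'.ker.index_dvd_card))
  have hnn : ∃ g : G ⧸ σ'.ker, g ∉ Subgroup.normalizer (Subgroup.zpowers (π u) : Set (G ⧸ σ'.ker)) := by
    obtain ⟨g, hg⟩ := D.not_mem_normalizer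
    refine ⟨π g, fun hmem => hg ?_⟩
    obtain ⟨b, -, hb⟩ := exists_exponent hπu hmem
    have h1 := lift_conj D.not_sq D.ord π (by rwa [QuotientGroup.ker_mk'])
      (fun z hz => (Subgroup.mem_center_iff.1 (hK (by rwa [QuotientGroup.ker_mk'] at hz)) u).symm) hb
    rw [D.zpowers_eq]
    exact mem_normalizer_of_conj D.setup D.mem D.ne_one (i := b.val) (by rw [h1, mul_inv_cancel_right])
  obtain ⟨-, K, -, huK', -, hψ⟩ := exists_quotient_of_nil hsq hπu hnn (n := 5) (by omega) hr
    (QuotientGroup.lift σ'.ker σ' le_rfl) (fun a b h => by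
      induction a using QuotientGroup.induction_on with | _ a =>
      induction b using QuotientGroup.induction_on with | _ b =>
      refine QuotientGroup.eq.2 ?_
      rw [MonoidHom.mem_ker, map_mul, show σ' b = σ' a from h.symm, ← map_mul, inv_mul_cancel, map_one]) h5
  refine D.iso_of_hom hp7 (by omega) ?_
  rcases hψ with ⟨ψ, hs, hk⟩ | ⟨ψ, hs, hk⟩
  · exact Or.inl ⟨ψ.comp π, hs.comp (QuotientGroup.mk'_surjective _), fun h => huK' (hk ▸ h)⟩
  · exact Or.inr ⟨ψ.comp π, hs.comp (QuotientGroup.mk'_surjective _), fun h => huK' (hk ▸ h)⟩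

end Data

end CfsgLib.Char.FeitSmall
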